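import Cfsg.Agent.Lib.Block.STwoSix.Model

/-!
The abstract data extracted from an involution centraliser `C₂ × S₆` or `C₂ × S₇`.
-/

set_option autoImplicit false
set_option linter.unusedSectionVars false
set_option synthInstance.maxSize 4096
set_option synthInstance.maxHeartbeats 400000

namespace Cfsg.Agent.Block.STwoSix

variable {G : Type*} [Group G]

/-- The relations of the five generators of a Sylow 2-subgroup of the centraliser. -/
structure Five (z a t P Q : G) : Prop where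
  zz : z * z = 1
  aa : a * a = 1
  tt : t * t = 1
  PP : P * P = 1
  QQ : Q * Q = 1
  az : a * z = z * a
  tz : t * z = z * t
  Pz : P * z = z * P
  Qz : Q * z = z * Q
  ta : t * a = a * t
  Pa : P * a = a * P
  Qa : Q * a = a * Q
  Pt : P * t = t * P
  Qt : Q * t = t * Q
  QP : Q * P = z * (P * Q)

namespace M6

/-- Vectors with trivial `f`-exponent. -/
def low (u : M6) : Bool := !u.bf

/-- Involution (or identity) in the low part. -/
def sq1 (u : M6) : Bool := decide (mul u u = one)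

/-- The representative in the centre of the class of an involution of the low part:
`P ↦ a`, `Pz ↦ a`, `Pa ↦ z`, `Q ↦ z`, `Qa ↦ za`. -/
def can (u : M6) : M6 :=
  if u.bP && !u.bQ then (u.br, !u.br, u.bt, false, false, false)
  else if u.bQ && !u.bP then (true, u.br, u.bt, false, false, false)
  else u

/-- Central in the low part. -/
def inZ (u : M6) : Bool := !u.bP && !u.bQ && !u.bf

end M6

/-- The data. -/
structure Base (G : Type*) [Group G] where
  t : G
  a : G
  z : G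
  P : G
  Q : G
  c : G
  ρ : G
  five : Five z a t P Q
  inj : ∀ u : M6, u.low = true → ev z a t P Q 1 u = 1 → u = M6.one
  aC : a * t = t * a
  cC : c * t = t * c
  ρC : ρ * t = t * ρ
  card_C : ∃ m, Odd m ∧ Nat.card (Subgroup.centralizer ({t} : Set G)) = 2 ^ 5 * m
  cent_Z : ∀ x : G, x * t = t * x → x * a = a * x → x * P = P * x → x * Q = Q * x →
    ∃ u : M6, u.inZ = true ∧ ev z a t P Q 1 u = x
  norm_S : ∀ x : G, x * t = t * x →
    (∃ u : M6, u.low = true ∧ ev z a t P Q 1 u = x * a * x⁻¹) →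
    (∃ u : M6, u.low = true ∧ ev z a t P Q 1 u = x * P * x⁻¹) →
    (∃ u : M6, u.low = true ∧ ev z a t P Q 1 u = x * Q * x⁻¹) →
    ∃ u : M6, u.low = true ∧ ev z a t P Q 1 u = x
  cent_A1 : ∀ x : G, x * t = t * x → x * a = a * x → x * P = P * x → x * z = z * x →
    ∃ u : M6, u.low = true ∧ u.bQ = false ∧ ev z a t P Q 1 u = x
  cent_A2 : ∀ x : G, x * t = t * x → x * a = a * x → x * Q = Q * x → x * z = z * x →
    ∃ u : M6, u.low = true ∧ u.bP = false ∧ ev z a t P Q 1 u = x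
  conj_can : ∀ u : M6, u.low = true → u.sq1 = true →
    ∃ d : G, d * t = t * d ∧ d * ev z a t P Q 1 u * d⁻¹ = ev z a t P Q 1 u.can
  can_eq : ∀ u v : M6, u.low = true → v.low = true → u.sq1 = true → v.sq1 = true →
    ∀ d : G, d * t = t * d → d * ev z a t P Q 1 u * d⁻¹ = ev z a t P Q 1 v → u.can = v.can
  ca : c * a * c⁻¹ = P
  cP : c * P * c⁻¹ = P * z
  cPz : c * (P * z) * c⁻¹ = a
  c3 : c * c * c = 1
  ρa : ρ * a * ρ⁻¹ = a
  ρz : ρ * z * ρ⁻¹ = Q
  ρQ : ρ * Q * ρ⁻¹ = Q * z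
  ρ3 : ρ * ρ * ρ = 1
  chi : ∃ τ σ : G → C2, HomOn (Subgroup.centralizer ({t} : Set G)) τ ∧
    HomOn (Subgroup.centralizer ({t} : Set G)) σ ∧ τ t = one' ∧ τ a = 1 ∧ τ z = 1 ∧
    σ t = 1 ∧ σ a = one' ∧ σ z = 1

theorem Five.ev_mul {z a t P Q : G} (s : Five z a t P Q) (u v : M6) (hu : u.low = true)
    (hv : v.low = true) :
    ev z a t P Q 1 u * ev z a t P Q 1 v = ev z a t P Q 1 (u.mul v) := by
  obtain ⟨u1, u2, u3, u4, u5, u6⟩ := u
  obtain ⟨v1, v2, v3, v4, v5, v6⟩ := v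
  simp only [M6.low, M6.bf, Bool.not_eq_true'] at hu hv
  subst hu; subst hv
  simp only [ev, M6.mul, M6.bz, M6.br, M6.bt, M6.bP, M6.bQ, M6.bf, mul_assoc, bp_false,
    Bool.xor_self, mul_one, Bool.false_and, Bool.xor_false]
  simp only [bp_comm' s.az, bp_comm' s.tz, bp_comm' s.Pz, bp_comm' s.Qz,
    bp_comm' s.ta, bp_comm' s.Pa, bp_comm' s.Qa, bp_comm' s.Pt, bp_comm' s.Qt,
    bp_twist' s.QP, bp_sq' s.zz, bp_sq' s.aa, bp_sq' s.tt, bp_sq' s.PP, bp_sq s.QQ]
  congr 2
  revert u1 u5 v1 v4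
  decide

end Cfsg.Agent.Block.STwoSix
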