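import Cfsg.Agent.Lib.Block.STwoSix.FrameCls

/-!
Change of basis in `S`, class elements of `S`, and characters given on exponent vectors.
-/

set_option autoImplicit false
set_option linter.unusedSectionVars false
set_option synthInstance.maxSize 4096
set_option synthInstance.maxHeartbeats 400000
set_option maxRecDepth 8000

namespace Cfsg.Agent.Block.STwoSix

open Subgroup

variable {G : Type*} [Group G] [Finite G] (B : Base G)

namespace Base

/-- Evaluation in another basis of `S` is evaluation after substitution. -/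
theorem ev_subst {iz ir it iP iQ : M6} (l1 : iz.low = true) (l2 : ir.low = true)
    (l3 : it.low = true) (l4 : iP.low = true) (l5 : iQ.low = true) (u : M6) :
    ev (B.E iz) (B.E ir) (B.E it) (B.E iP) (B.E iQ) 1 u =
      B.E (M6.endo iz ir it iP iQ M6.one u) := by
  have e1 : ∀ b : Bool, M6.pw M6.one b = M6.one := fun b => by cases b <;> rfl
  rw [M6.endo, e1]
  have q5 : (M6.mul (M6.pw iQ u.bQ) M6.one).low = true :=
    M6.low_mul _ _ (M6.pw_low l5 _) rfl
  have q4 := M6.low_mul _ _ (M6.pw_low l4 u.bP) q5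
  have q3 := M6.low_mul _ _ (M6.pw_low l3 u.bt) q4
  have q2 := M6.low_mul _ _ (M6.pw_low l2 u.br) q3
  rw [← E_mul B (M6.pw_low l1 _) q2, ← E_mul B (M6.pw_low l2 _) q3, ← E_mul B (M6.pw_low l3 _) q4,
    ← E_mul B (M6.pw_low l4 _) q5, ← E_mul B (M6.pw_low l5 _) rfl, E_one]
  have h1 : ∀ b : Bool, bp (1 : G) b = 1 := fun b => by cases b <;> rfl
  simp only [Base.E, ev_pw]
  simp only [ev, h1, mul_one]

/-- The class elements of `S`. -/
theorem cls_low_iff {u : M6} (hu : u.low = true) :
    B.Cls (B.E u) ↔ u.sq1 = true ∧ B.Cls (B.E u.can) :=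
  ⟨fun h => ⟨sq1_of_Cls B hu h, (Cls_can B hu (sq1_of_Cls B hu h)).1 h⟩,
    fun h => (Cls_can B hu h.1).2 h.2⟩

theorem can_inZ : ∀ u : M6, u.low = true → u.sq1 = true → u.can.inZ = true := by decide +kernel

/-- The class elements of `S` when the orbit in the centre is known. -/
theorem cls_low_of {u : M6} (hu : u.low = true) (L : List M6)
    (hL : ∀ v : M6, v.inZ = true → (B.Cls (B.E v) ↔ v ∈ L)) :
    B.Cls (B.E u) ↔ u.sq1 = true ∧ u.can ∈ L :=
  (cls_low_iff B hu).trans ⟨fun h => ⟨h.1, (hL _ (can_inZ u hu h.1)).1 h.2⟩,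
    fun h => ⟨h.1, (hL _ (can_inZ u hu h.1)).2 h.2⟩⟩

open scoped Classical in
/-- A function on low vectors transported to the group. -/
noncomputable def sfun (p : M6 → Bool) (g : G) : C2 :=
  if h : g ∈ B.S then (if p h.choose then one' else 1) else 1

theorem sfun_E (p : M6 → Bool) {u : M6} (hu : u.low = true) :
    B.sfun p (B.E u) = if p u then one' else 1 := by
  have h : B.E u ∈ B.S := E_mem B hu
  rw [sfun, dif_pos h, E_inj B h.choose_spec.1 hu h.choose_spec.2]

theorem sfun_hom (p : M6 → Bool) (hp : ∀ u : M6, u.low = true → ∀ v : M6, v.low = true →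
    p (u.mul v) = (p u ^^ p v)) : HomOn B.S (B.sfun p) := by
  rintro _ ⟨u, hu, rfl⟩ _ ⟨v, hv, rfl⟩
  rw [E_mul B hu hv, sfun_E B p hu, sfun_E B p hv, sfun_E B p (M6.low_mul _ _ hu hv), hp u hu v hv]
  cases p u <;> cases p v <;> simp [C2_mul_self]

end Base

namespace Frame

variable {B : Base G} (F : Frame B)

open scoped Classical in
/-- A function on exponent vectors transported to the group. -/
noncomputable def tfun (p : M6 → Bool) (g : G) : C2 :=
  if h : ∃ u, F.E u = g then (if p h.choose then one' else 1) else 1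

theorem tfun_E (p : M6 → Bool) (u : M6) : F.tfun p (F.E u) = if p u then one' else 1 := by
  have h : ∃ v, F.E v = F.E u := ⟨u, rfl⟩
  rw [tfun, dif_pos h, F.E_inj h.choose_spec]

theorem tfun_hom (p : M6 → Bool) (hp : ∀ u v : M6, p (u.mul v) = (p u ^^ p v)) :
    HomOn F.T0 (F.tfun p) := by
  rintro _ ⟨u, rfl⟩ _ ⟨v, rfl⟩
  show F.tfun p (F.E u * F.E v) = F.tfun p (F.E u) * F.tfun p (F.E v)
  rw [E_mul, tfun_E, tfun_E, tfun_E, hp]
  cases p u <;> cases p v <;> simp [C2_mul_self]

theorem ncard_hits_T0 (p : M6 → Bool) {c : Cfg}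
    (hc : ∀ w : M6, B.Cls (F.E w) ↔ M6.clB F.wide c w = true) :
    (hits F.T0 (F.tfun p) B.t).ncard = M6.allM.countP fun w => M6.clB F.wide c w && p w := by
  rw [← F.ncard_image]
  congr 1
  ext x
  constructor
  · rintro ⟨hx, hcx, hne⟩
    obtain ⟨u, rfl⟩ := F.mem_T0.1 hx
    refine ⟨u, ?_, rfl⟩
    show (M6.clB F.wide c u && p u) = true
    rw [(hc u).1 hcx]
    rw [tfun_E] at hne
    cases hp : p u
    · rw [hp] at hne; exact absurd rfl hne
    · rfl
  · rintro ⟨u, hu, rfl⟩
    simp only [Set.mem_ofPred_eq, Bool.and_eq_true] at hu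
    exact ⟨F.E_mem u, (hc u).2 hu.1, by rw [tfun_E, hu.2]; exact one'_ne⟩

end Frame

end Cfsg.Agent.Block.STwoSix
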