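import Cfsg.Agent.Lib.Block.STwoSix.Ext

/-!
Characters with values in the cyclic group of order eight, and the counting criterion for them.
-/

set_option autoImplicit false
set_option linter.unusedSectionVars false

namespace Cfsg.Agent.Block.STwoSix

/-- The cyclic group of order eight. -/
abbrev C8 := Multiplicative (ZMod 8)

/-- Its involution. -/
def i8 : C8 := Multiplicative.ofAdd 4

/-- An element of order eight or four or two, by exponent. -/
def e8 (k : ZMod 8) : C8 := Multiplicative.ofAdd k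

theorem i8_ne : i8 ≠ 1 := by decide

theorem i8_sq : i8 * i8 = 1 := by decide

theorem i8_unique (a : C8) (ha : orderOf a = 2) : a = i8 := by
  have h : a * a = 1 := by rw [← pow_two, ← ha]; exact pow_orderOf_eq_one a
  have hne : a ≠ 1 := fun e => by rw [e, orderOf_one] at ha; omega
  clear ha
  revert a
  decide

theorem sq_one_cases (a : C8) (h : a * a = 1) : a = 1 ∨ a = i8 := by revert a; decide

/-- Four times a Boolean. -/
def b8 (b : Bool) : C8 := if b then i8 else 1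

theorem b8_xor (i j : Bool) : b8 (i ^^ j) = b8 i * b8 j := by revert i j; decide

theorem b8_inj (i j : Bool) (h : b8 i = b8 j) : i = j := by revert i j; decide

theorem b8_ne_one {i : Bool} : b8 i ≠ 1 ↔ i = true := by revert i; decide

variable {G : Type*} [Group G] [Finite G]

/-- A nontrivial homomorphism into the cyclic group of order eight gives index two. -/
theorem exists_index_two_of_hom8 (f : G →* C8) {g : G} (hg : f g ≠ 1) :
    ∃ H : Subgroup G, H.index = 2 := by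
  have h8 : Nat.card f.range ∣ 2 ^ 3 := by
    have := Subgroup.card_subgroup_dvd_card f.range
    simpa using this
  obtain ⟨k, -, hk⟩ := (Nat.dvd_prime_pow Nat.prime_two).mp h8
  cases k with
  | zero =>
    exact absurd (Subgroup.mem_bot.mp ((Subgroup.card_eq_one.mp hk).le ⟨g, rfl⟩)) hg
  | succ j =>
    have : Fact (Nat.Prime 2) := ⟨Nat.prime_two⟩
    obtain ⟨K, hK⟩ := Sylow.exists_subgroup_card_pow_prime 2 (G := f.range) (n := j)
      (by rw [hk]; exact pow_dvd_pow 2 (Nat.le_succ j))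
    refine ⟨K.comap f.rangeRestrict, ?_⟩
    rw [Subgroup.index_comap_of_surjective K f.rangeRestrict_surjective]
    have h := K.card_mul_index
    rw [hK, hk, pow_succ] at h
    exact Nat.eq_of_mul_eq_mul_left (pow_pos two_pos j) h

/-- `f` is multiplicative on `K`. -/
def HomOn8 (K : Subgroup G) (f : G → C8) : Prop := ∀ a ∈ K, ∀ b ∈ K, f (a * b) = f a * f b

/-- The homomorphism of a multiplicative function. -/
def HomOn8.toHom {K : Subgroup G} {f : G → C8} (h : HomOn8 K f) : K →* C8 :=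
  MonoidHom.mk' (fun a => f a) fun a b => h a a.2 b b.2

theorem HomOn8.map_one {K : Subgroup G} {f : G → C8} (h : HomOn8 K f) : f 1 = 1 :=
  _root_.map_one h.toHom

theorem HomOn8.map_inv {K : Subgroup G} {f : G → C8} (h : HomOn8 K f) {a : G} (ha : a ∈ K) :
    f a⁻¹ = (f a)⁻¹ :=
  _root_.map_inv h.toHom ⟨a, ha⟩

theorem HomOn8.map_conj {K : Subgroup G} {f : G → C8} (h : HomOn8 K f) {r x : G} (hr : r ∈ K)
    (hx : x ∈ K) : f (r * x * r⁻¹) = f x := by
  rw [h _ (K.mul_mem hr hx) _ (K.inv_mem hr), h _ hr _ hx, h.map_inv hr, mul_comm (f r),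
    mul_inv_cancel_right]

theorem HomOn8.map_involution {K : Subgroup G} {f : G → C8} (h : HomOn8 K f) {x : G}
    (hx : x ∈ K) (hxx : x * x = 1) : f x = 1 ∨ f x = i8 := by
  refine sq_one_cases _ ?_
  rw [← h x hx x hx, hxx, h.map_one]

/-- The conjugates of `v` in `K` with nontrivial value. -/
def hits8 (K : Subgroup G) (f : G → C8) (v : G) : Set G := {x | x ∈ K ∧ IsConj v x ∧ f x ≠ 1}

/-- The weighted count: cosets against conjugates. -/
theorem card_mul_cosets8 {K : Subgroup G} (φ : K →* C8) (v : G) :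
    Nat.card K * Nat.card {q : G ⧸ K // ∃ x : G, QuotientGroup.mk x = q ∧
      ∃ h : x⁻¹ * v * x ∈ K, φ ⟨_, h⟩ ≠ 1} =
    Nat.card (Subgroup.centralizer ({v} : Set G)) *
      {x | ∃ h : x ∈ K, IsConj v x ∧ φ ⟨x, h⟩ ≠ 1}.ncard := by
  classical
  have := Fintype.ofFinite G
  set H : Set G := {x | ∃ h : x ∈ K, IsConj v x ∧ φ ⟨x, h⟩ ≠ 1} with hH
  let X := {g : G // g⁻¹ * v * g ∈ H}
  have hX : ∀ g : G, g⁻¹ * v * g ∈ H ↔ ∃ h : g⁻¹ * v * g ∈ K, φ ⟨_, h⟩ ≠ 1 :=
    fun g => ⟨fun ⟨h, _, h2⟩ => ⟨h, h2⟩,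
      fun ⟨h, h2⟩ => ⟨h, isConj_iff.2 ⟨g⁻¹, by rw [inv_inv]⟩, h2⟩⟩
  have hinv : ∀ g : G, ∀ k ∈ K, g⁻¹ * v * g ∈ H → (g * k)⁻¹ * v * (g * k) ∈ H := by
    intro g k hk hg
    obtain ⟨h, h2⟩ := (hX g).1 hg
    have e : (g * k)⁻¹ * v * (g * k) = k⁻¹ * (g⁻¹ * v * g) * k := by group
    refine (hX _).2 ⟨e ▸ K.mul_mem (K.mul_mem (K.inv_mem hk) h) hk, ?_⟩
    have e2 : (⟨(g * k)⁻¹ * v * (g * k), e ▸ K.mul_mem (K.mul_mem (K.inv_mem hk) h) hk⟩ : K) =
        ⟨k, hk⟩⁻¹ * ⟨_, h⟩ * ⟨k, hk⟩ := Subtype.ext e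
    rw [e2, map_mul, map_mul, map_inv, mul_comm, mul_inv_cancel_left]
    exact h2
  let P : G ⧸ K → Prop := fun q => ∃ x : G, QuotientGroup.mk x = q ∧
      ∃ h : x⁻¹ * v * x ∈ K, φ ⟨_, h⟩ ≠ 1
  have hP : ∀ g : G, P (QuotientGroup.mk g) ↔ g⁻¹ * v * g ∈ H := by
    intro g
    constructor
    · rintro ⟨x, hx, h, h2⟩
      have hk : x⁻¹ * g ∈ K := QuotientGroup.eq.1 hx
      have := hinv x _ hk ((hX x).2 ⟨h, h2⟩)
      rwa [mul_inv_cancel_left] at this
    · intro hg
      exact ⟨g, rfl, (hX g).1 hg⟩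
  have e1 : Nat.card X = Nat.card K * Nat.card {q : G ⧸ K // P q} := by
    rw [Nat.card_congr (Equiv.subtypeEquivRight fun g => (hP g).symm)]
    exact QuotientGroup.card_preimage_mk K {q | P q}
  have e2 : Nat.card X = Nat.card (Subgroup.centralizer ({v} : Set G)) * H.ncard := by
    let F : X → H := fun g => ⟨_, g.2⟩
    rw [← Nat.card_congr (Equiv.sigmaFiberEquiv F), Nat.card_sigma, ← Nat.card_coe_set_eq,
      Finset.sum_const_nat (m := Nat.card (Subgroup.centralizer ({v} : Set G))),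
      Finset.card_univ, Nat.card_eq_fintype_card (α := H), mul_comm]
    rintro ⟨w, hw⟩ -
    obtain ⟨c, hc⟩ := isConj_iff.1 hw.choose_spec.1
    have hc' : (c⁻¹)⁻¹ * v * c⁻¹ = w := by rw [inv_inv]; exact hc
    refine Nat.card_congr
      { toFun := fun g => ⟨g.1.1 * c, Subgroup.mem_centralizer_singleton_iff.2 ?_⟩
        invFun := fun z => ⟨⟨z.1 * c⁻¹, ?_⟩, Subtype.ext ?_⟩
        left_inv := fun g => Subtype.ext (Subtype.ext (mul_inv_cancel_right _ _))
        right_inv := fun z => Subtype.ext (inv_mul_cancel_right _ _) }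
    · have hg : g.1.1⁻¹ * v * g.1.1 = c * v * c⁻¹ := (congrArg Subtype.val g.2).trans hc.symm
      calc g.1.1 * c * v = g.1.1 * (c * v * c⁻¹) * c := by group
        _ = g.1.1 * (g.1.1⁻¹ * v * g.1.1) * c := by rw [hg]
        _ = v * (g.1.1 * c) := by group
    · have hz := Subgroup.mem_centralizer_singleton_iff.1 z.2
      have : (z.1 * c⁻¹)⁻¹ * v * (z.1 * c⁻¹) = w := by
        rw [← hc]
        calc (z.1 * c⁻¹)⁻¹ * v * (z.1 * c⁻¹) = c * z.1⁻¹ * (v * z.1) * c⁻¹ := by group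
          _ = c * v * c⁻¹ := by rw [← hz]; group
      exact this ▸ hw
    · have hz := Subgroup.mem_centralizer_singleton_iff.1 z.2
      show (z.1 * c⁻¹)⁻¹ * v * (z.1 * c⁻¹) = w
      rw [← hc]
      calc (z.1 * c⁻¹)⁻¹ * v * (z.1 * c⁻¹) = c * z.1⁻¹ * (v * z.1) * c⁻¹ := by group
        _ = c * v * c⁻¹ := by rw [← hz]; group
  exact e1.symm.trans e2

/-- Transfer criterion for characters of order dividing eight. -/
theorem index_two_of_hits8 {v : G} (hv : v * v = 1) {K : Subgroup G} {f : G → C8}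
    (hf : HomOn8 K f) {c e a b m : ℕ}
    (hC : Nat.card (Subgroup.centralizer ({v} : Set G)) = 2 ^ c * a)
    (ha : Odd a) (hK : Nat.card K = 2 ^ (c + e) * b) (hm : (hits8 K f v).ncard = 2 ^ e * m)
    (hmo : Odd m) : ∃ H : Subgroup G, H.index = 2 := by
  have hset : {x | ∃ h : x ∈ K, IsConj v x ∧ hf.toHom ⟨x, h⟩ ≠ 1} = hits8 K f v := by
    ext x
    exact ⟨fun ⟨hx, h1, h2⟩ => ⟨hx, h1, h2⟩, fun ⟨hx, h1, h2⟩ => ⟨hx, h1, h2⟩⟩
  by_cases htr : MonoidHom.transfer hf.toHom v = 1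
  · exfalso
    have hι : orderOf i8 = 2 := orderOf_eq_prime (by rw [pow_two, i8_sq]) i8_ne
    have hev := Invol.even_card_of_transfer_eq_one hf.toHom hv htr hι i8_unique
    have h := card_mul_cosets8 hf.toHom v
    rw [hset, hK, hC, hm] at h
    obtain ⟨j, hj⟩ := hev
    rw [hj] at h
    have h2 : b * (j + j) = a * m := by
      refine Nat.eq_of_mul_eq_mul_left (pow_pos two_pos (c + e)) ?_
      rw [← mul_assoc, h, pow_add]; ring
    have : Odd (b * (j + j)) := h2 ▸ ha.mul hmo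
    exact (Nat.not_even_iff_odd.2 this) ((Even.add_self j).mul_left b)
  · exact exists_index_two_of_hom8 _ htr

open Classical in
/-- Extension of a character to `H ∪ xH`, with prescribed value at `x`. -/
noncomputable def extFun8 (H : Subgroup G) (x : G) (f : G → C8) (β : C8) : G → C8 :=
  fun g => if g ∈ H then f g else β * f (x⁻¹ * g)

theorem extFun8_of_mem {H : Subgroup G} {x : G} {f : G → C8} {β : C8} {g : G} (hg : g ∈ H) :
    extFun8 H x f β g = f g := if_pos hg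

theorem extFun8_of_not_mem {H : Subgroup G} {x : G} {f : G → C8} {β : C8} {g : G} (hg : g ∉ H) :
    extFun8 H x f β g = β * f (x⁻¹ * g) := if_neg hg

theorem homOn_extFun8 {H : Subgroup G} {x : G} (hn : ∀ h ∈ H, x * h * x⁻¹ ∈ H) (hx : x * x ∈ H)
    (hxH : x ∉ H) {f : G → C8} (hf : HomOn8 H f) (hinv : ∀ h ∈ H, f (x * h * x⁻¹) = f h) {β : C8}
    (hsq : β * β = f (x * x)) : HomOn8 (extSub H x hn hx) (extFun8 H x f β) := by
  have hn' : ∀ h ∈ H, x⁻¹ * h * x ∈ H ∧ f (x⁻¹ * h * x) = f h := fun h hh => by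
    have h1 := H.mul_mem (H.mul_mem (H.inv_mem hx) (hn h hh)) hx
    have e : (x * x)⁻¹ * (x * h * x⁻¹) * (x * x) = x⁻¹ * h * x := by group
    rw [e] at h1
    refine ⟨h1, ?_⟩
    rw [← hinv _ h1]
    congr 1
    group
  have hdis : ∀ g : G, g ∈ H → x⁻¹ * g ∉ H := fun g hg h =>
    hxH (by simpa using H.mul_mem hg (H.inv_mem h))
  intro g hg k hk
  rcases hg with hg | hg <;> rcases hk with hk | hk
  · rw [extFun8_of_mem hg, extFun8_of_mem hk, extFun8_of_mem (H.mul_mem hg hk), hf g hg k hk]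
  · have hk' : k ∉ H := fun h => hdis k h hk
    have e : x⁻¹ * (g * k) = x⁻¹ * g * x * (x⁻¹ * k) := by group
    have hgk : g * k ∉ H := fun h => hk' (by simpa using H.mul_mem (H.inv_mem hg) h)
    rw [extFun8_of_mem hg, extFun8_of_not_mem hk', extFun8_of_not_mem hgk, e,
      hf _ (hn' g hg).1 _ hk, (hn' g hg).2, mul_left_comm]
  · have hg' : g ∉ H := fun h => hdis g h hg
    have hgk : g * k ∉ H := fun h => hg' (by simpa using H.mul_mem h (H.inv_mem hk))
    rw [extFun8_of_not_mem hg', extFun8_of_mem hk, extFun8_of_not_mem hgk, ← mul_assoc x⁻¹,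
      hf _ hg _ hk, mul_assoc]
  · have hg' : g ∉ H := fun h => hdis g h hg
    have hk' : k ∉ H := fun h => hdis k h hk
    have e : g * k = x * (x⁻¹ * g) * x⁻¹ * (x * x) * (x⁻¹ * k) := by group
    have hgk : g * k ∈ H := e ▸ H.mul_mem (H.mul_mem (hn _ hg) hx) hk
    rw [extFun8_of_not_mem hg', extFun8_of_not_mem hk', extFun8_of_mem hgk]
    conv_lhs => rw [e]
    rw [hf _ (H.mul_mem (hn _ hg) hx) _ hk, hf _ (hn _ hg) _ hx, hinv _ hg, ← hsq]
    ac_rfl

end Cfsg.Agent.Block.STwoSix
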