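import Mathlib
import Cfsg.Agent.Lib.Invol.Transfer2

/-!
Parity of the transfer at an involution, counted over the conjugates inside the subgroup,
and small congruence lemmas for 2-groups acting by conjugation.
-/

set_option autoImplicit false
set_option linter.unusedSectionVars false

namespace Cfsg.Agent.Block.STwoSix

/-- The group of order two. -/
abbrev C2 := Multiplicative (ZMod 2)

/-- Its nontrivial element. -/
def one' : C2 := Multiplicative.ofAdd 1

theorem one'_ne : one' ≠ 1 := by decide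

theorem C2_cases (a : C2) : a = 1 ∨ a = one' := by revert a; decide

theorem ne_one_iff {a : C2} : a ≠ 1 ↔ a = one' := by revert a; decide

theorem C2_mul_self (a : C2) : a * a = 1 := by revert a; decide

theorem C2_inv (a : C2) : a⁻¹ = a := by revert a; decide

variable {G : Type*} [Group G] [Finite G]

open Subgroup in
/-- A homomorphism onto a group of order two which is nontrivial somewhere gives index two. -/
theorem exists_index_two_of_hom (f : G →* C2) {g : G} (hg : f g ≠ 1) :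
    ∃ H : Subgroup G, H.index = 2 := by
  refine ⟨f.ker, ?_⟩
  rw [Subgroup.index_ker]
  have hdvd : Nat.card f.range ∣ 2 := by
    simpa using Subgroup.card_subgroup_dvd_card f.range
  rcases (Nat.dvd_prime Nat.prime_two).mp hdvd with h | h
  · exact absurd (Subgroup.mem_bot.mp ((Subgroup.card_eq_one.mp h).le ⟨g, rfl⟩)) hg
  · exact h

/-- The conjugates of `v` in `K` where `φ` is nontrivial. -/
def hitSet {K : Subgroup G} (φ : K →* C2) (v : G) : Set G :=
  {x | ∃ h : x ∈ K, IsConj v x ∧ φ ⟨x, h⟩ ≠ 1}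

/-- The weighted count: cosets against conjugates. -/
theorem card_mul_cosets {K : Subgroup G} (φ : K →* C2) (v : G) :
    Nat.card K * Nat.card {q : G ⧸ K // ∃ x : G, QuotientGroup.mk x = q ∧
      ∃ h : x⁻¹ * v * x ∈ K, φ ⟨_, h⟩ ≠ 1} =
    Nat.card (Subgroup.centralizer ({v} : Set G)) * (hitSet φ v).ncard := by
  classical
  have := Fintype.ofFinite G
  let X := {g : G // g⁻¹ * v * g ∈ hitSet φ v}
  have hX : ∀ g : G, g⁻¹ * v * g ∈ hitSet φ v ↔
      ∃ h : g⁻¹ * v * g ∈ K, φ ⟨_, h⟩ ≠ 1 :=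
    fun g => ⟨fun ⟨h, _, h2⟩ => ⟨h, h2⟩,
      fun ⟨h, h2⟩ => ⟨h, isConj_iff.2 ⟨g⁻¹, by rw [inv_inv]⟩, h2⟩⟩
  -- fibres of the coset map
  have hinv : ∀ g : G, ∀ k ∈ K, g⁻¹ * v * g ∈ hitSet φ v →
      (g * k)⁻¹ * v * (g * k) ∈ hitSet φ v := by
    intro g k hk hg
    obtain ⟨h, h2⟩ := (hX g).1 hg
    have e : (g * k)⁻¹ * v * (g * k) = k⁻¹ * (g⁻¹ * v * g) * k := by group
    refine (hX _).2 ⟨e ▸ K.mul_mem (K.mul_mem (K.inv_mem hk) h) hk, ?_⟩
    have e2 : (⟨(g * k)⁻¹ * v * (g * k), e ▸ K.mul_mem (K.mul_mem (K.inv_mem hk) h) hk⟩ : K) =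
        ⟨k, hk⟩⁻¹ * ⟨_, h⟩ * ⟨k, hk⟩ := Subtype.ext e
    rw [e2, map_mul, map_mul, map_inv, mul_comm, mul_inv_cancel_left]
    exact h2
  let P : G ⧸ K → Prop := fun q => ∃ x : G, QuotientGroup.mk x = q ∧
      ∃ h : x⁻¹ * v * x ∈ K, φ ⟨_, h⟩ ≠ 1
  have hP : ∀ g : G, P (QuotientGroup.mk g) ↔ g⁻¹ * v * g ∈ hitSet φ v := by
    intro g
    constructor
    · rintro ⟨x, hx, h, h2⟩
      have hk : x⁻¹ * g ∈ K := QuotientGroup.eq.1 hx
      have := hinv x _ hk ((hX x).2 ⟨h, h2⟩)
      rwa [mul_inv_cancel_left] at this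
    · intro hg
      exact ⟨g, rfl, (hX g).1 hg⟩
  have e1 : Nat.card X = Nat.card K * Nat.card {q : G ⧸ K // P q} := by
    rw [Nat.card_congr (Equiv.subtypeEquivRight fun g => (hP g).symm)]
    exact QuotientGroup.card_preimage_mk K {q | P q}
  have e2 : Nat.card X = Nat.card (Subgroup.centralizer ({v} : Set G)) *
      (hitSet φ v).ncard := by
    let F : X → hitSet φ v := fun g => ⟨_, g.2⟩
    rw [← Nat.card_congr (Equiv.sigmaFiberEquiv F), Nat.card_sigma, ← Nat.card_coe_set_eq,
      Finset.sum_const_nat (m := Nat.card (Subgroup.centralizer ({v} : Set G))),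
      Finset.card_univ, Nat.card_eq_fintype_card (α := hitSet φ v), mul_comm]
    rintro ⟨w, hw⟩ -
    obtain ⟨c, hc⟩ := isConj_iff.1 hw.choose_spec.1
    have hc' : (c⁻¹)⁻¹ * v * c⁻¹ = w := by rw [inv_inv]; exact hc
    refine Nat.card_congr
      { toFun := fun g => ⟨g.1.1 * c, Subgroup.mem_centralizer_singleton_iff.2 ?_⟩
        invFun := fun z => ⟨⟨z.1 * c⁻¹, ?_⟩, Subtype.ext ?_⟩
        left_inv := fun g => Subtype.ext (Subtype.ext (mul_inv_cancel_right _ _))
        right_inv := fun z => Subtype.ext (inv_mul_cancel_right _ _) }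
    · have hg : g.1.1⁻¹ * v * g.1.1 = c * v * c⁻¹ := (congrArg Subtype.val g.2).trans hc.symm
      calc g.1.1 * c * v = g.1.1 * (c * v * c⁻¹) * c := by group
        _ = g.1.1 * (g.1.1⁻¹ * v * g.1.1) * c := by rw [hg]
        _ = v * (g.1.1 * c) := by group
    · have hz := Subgroup.mem_centralizer_singleton_iff.1 z.2
      have : (z.1 * c⁻¹)⁻¹ * v * (z.1 * c⁻¹) = w := by
        rw [← hc]
        calc (z.1 * c⁻¹)⁻¹ * v * (z.1 * c⁻¹) = c * z.1⁻¹ * (v * z.1) * c⁻¹ := by group
          _ = c * v * c⁻¹ := by rw [← hz]; group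
      exact this ▸ hw
    · have hz := Subgroup.mem_centralizer_singleton_iff.1 z.2
      show (z.1 * c⁻¹)⁻¹ * v * (z.1 * c⁻¹) = w
      rw [← hc]
      calc (z.1 * c⁻¹)⁻¹ * v * (z.1 * c⁻¹) = c * z.1⁻¹ * (v * z.1) * c⁻¹ := by group
        _ = c * v * c⁻¹ := by rw [← hz]; group
  exact e1.symm.trans e2

/-- Transfer criterion: if the number of conjugates of `v` in `K` outside the kernel of `φ` is
`2^e` times an odd number, where `2^(c+e)` is the 2-part of `|K|` and `2^c` that of `|C(v)|`,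
then there is a subgroup of index two. -/
theorem exists_index_two_of_count {v : G} (hv : v * v = 1) {K : Subgroup G} (φ : K →* C2)
    {c e a b m : ℕ} (hC : Nat.card (Subgroup.centralizer ({v} : Set G)) = 2 ^ c * a)
    (ha : Odd a) (hK : Nat.card K = 2 ^ (c + e) * b) (hm : (hitSet φ v).ncard = 2 ^ e * m)
    (hmo : Odd m) : ∃ H : Subgroup G, H.index = 2 := by
  by_cases htr : MonoidHom.transfer φ v = 1
  · exfalso
    have hι : orderOf one' = 2 := orderOf_eq_prime (by decide) one'_ne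
    have hev := Invol.even_card_of_transfer_eq_one φ hv htr hι
      (fun x hx => (C2_cases x).resolve_left (fun e' => by rw [e', orderOf_one] at hx; omega))
    have h := card_mul_cosets φ v
    rw [hK, hC, hm] at h
    obtain ⟨j, hj⟩ := hev
    rw [hj] at h
    have h2 : b * (j + j) = a * m := by
      have hpos : 0 < 2 ^ (c + e) := pow_pos two_pos _
      refine Nat.eq_of_mul_eq_mul_left hpos ?_
      rw [← mul_assoc, h, pow_add]; ring
    have : Odd (b * (j + j)) := h2 ▸ ha.mul hmo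
    exact (Nat.not_even_iff_odd.2 this) ((Even.add_self j).mul_left b)
  · exact exists_index_two_of_hom _ htr

/-- A 2-group acting by conjugation: parity of an invariant set equals that of its fixed part. -/
theorem card_mod_two_fixed {R : Subgroup G} (hR : IsPGroup 2 R) (X : Set G)
    (hX : ∀ r ∈ R, ∀ x ∈ X, r * x * r⁻¹ ∈ X) :
    X.ncard % 2 = {x ∈ X | ∀ r ∈ R, r * x * r⁻¹ = x}.ncard % 2 := by
  have hR' : IsPGroup 2 (R.map (ConjAct.toConjAct (G := G)).toMonoidHom) := hR.map _
  haveI : Finite (ConjAct G) := Finite.of_equiv G ConjAct.toConjAct.toEquiv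
  have h := Invol.card_invariant_modEq (G := ConjAct G) (α := G) hR' (fun x => x ∈ X) ?_
  · rw [← Nat.card_coe_set_eq, ← Nat.card_coe_set_eq]
    refine h.trans (congrArg (· % 2) (Nat.card_congr (Equiv.subtypeEquivRight fun x => ?_)))
    refine and_congr Iff.rfl ⟨fun h r hr => ?_, fun h r hr => ?_⟩
    · exact (ConjAct.toConjAct_smul r x).symm.trans (h _ ⟨r, hr, rfl⟩)
    · obtain ⟨s, hs, rfl⟩ := hr
      exact (ConjAct.toConjAct_smul s x).trans (h s hs)
  · rintro _ ⟨s, hs, rfl⟩ x hx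
    show ConjAct.toConjAct s • x ∈ X
    rw [ConjAct.toConjAct_smul]
    exact hX s hs x hx

/-- If all point stabilisers of a 2-group `R` in an invariant set have index at least `2^k`,
then `2^k` divides the size of the set. -/
theorem pow_dvd_card_of_index {R : Subgroup G} (hR : IsPGroup 2 R) (X : Set G) {k : ℕ}
    (hX : ∀ r ∈ R, ∀ x ∈ X, r * x * r⁻¹ ∈ X)
    (hst : ∀ x ∈ X, 2 ^ k * Nat.card ↥(R ⊓ Subgroup.centralizer ({x} : Set G)) ≤ Nat.card R) :
    2 ^ k ∣ X.ncard := by
  classical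
  let act : SMul R X := ⟨fun r x => ⟨r * x * r⁻¹, hX r r.2 x x.2⟩⟩
  let _ : MulAction R X :=
    { toSMul := act
      one_smul := fun x => Subtype.ext (by show (1 : G) * x * 1⁻¹ = x; simp)
      mul_smul := fun r s x => Subtype.ext (by
        show (r * s : G) * x * (r * s : G)⁻¹ = r * (s * x * (s : G)⁻¹) * (r : G)⁻¹; group) }
  have := Fintype.ofFinite X
  have := Fintype.ofFinite (MulAction.orbitRel.Quotient R X)
  rw [← Nat.card_coe_set_eq, Nat.card_congr (MulAction.selfEquivSigmaOrbits R X), Nat.card_sigma]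
  refine Finset.dvd_sum fun q _ => ?_
  set x := q.out with hx
  have hidx : (MulAction.stabilizer R x).index = Nat.card (MulAction.orbit R x) := by
    rw [MulAction.index_stabilizer, Nat.card_coe_set_eq]
  obtain ⟨n, hn⟩ := hR.index (MulAction.stabilizer R x)
  rw [← hidx, hn]
  refine pow_dvd_pow 2 ?_
  have hc : Nat.card (MulAction.stabilizer R x) =
      Nat.card ↥(R ⊓ Subgroup.centralizer ({(x : G)} : Set G)) := by
    refine Nat.card_congr
      { toFun := fun r => ⟨r.1.1, r.1.2, Subgroup.mem_centralizer_singleton_iff.2 ?_⟩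
        invFun := fun r => ⟨⟨r.1, r.2.1⟩, Subtype.ext ?_⟩
        left_inv := fun r => rfl
        right_inv := fun r => rfl }
    · exact mul_inv_eq_iff_eq_mul.1 (congrArg Subtype.val r.2)
    · exact mul_inv_eq_iff_eq_mul.2 (Subgroup.mem_centralizer_singleton_iff.1 r.2.2)
  have h1 := hst x x.2
  rw [← hc, ← Subgroup.index_mul_card (MulAction.stabilizer R x), hn] at h1
  exact (Nat.pow_le_pow_iff_right (by norm_num)).1 (Nat.le_of_mul_le_mul_right h1 Nat.card_pos)

end Cfsg.Agent.Block.STwoSix
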