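import Cfsg.Agent.Lib.Block.STwoSix.Four
import Cfsg.Agent.Lib.Block.STwoSix.Char8

/-!
The four-element orbit, when the normaliser of `S` is cyclic over `S`.
-/

set_option autoImplicit false
set_option linter.unusedSectionVars false
set_option synthInstance.maxSize 4096
set_option synthInstance.maxHeartbeats 400000
set_option maxRecDepth 8000

namespace Cfsg.Agent.Block.STwoSix

open Subgroup

namespace M6

theorem cyc_count : ∀ c : Cfg, good true c = true →
    (allM.countP fun w => w.bf && clB true c w) % 8 = 4 := by decide +kernel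

theorem cl_low_count : (allM.countP fun u => !u.bf && inCl true u) = 12 := by decide +kernel

theorem mul_bt : ∀ u v : M6, u.low = true → v.low = true →
    (mul u v).bt = (u.bt ^^ v.bt) := fun _ _ _ _ => rfl

theorem endo_bt (iz ir it iP iQ : M6) (h1 : iz.bt = false) (h2 : ir.bt = false)
    (h3 : it.bt = true) (h4 : iP.bt = false) (h5 : iQ.bt = false) (u : M6) :
    (endo iz ir it iP iQ one u).bt = u.bt := by
  obtain ⟨u1, u2, u3, u4, u5, u6⟩ := u
  simp only [bt] at h1 h2 h3 h4 h5
  cases u1 <;> cases u2 <;> cases u3 <;> cases u4 <;> cases u5 <;> cases u6 <;>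
    simp [endo, pw, mul, one, bt, bz, br, bP, bQ, bf, h1, h2, h3, h4, h5]

end M6

variable {G : Type*} [Group G] [Finite G] {B : Base G}

open scoped Classical in
/-- A Boolean function on low vectors as a character of `S` of order at most two. -/
noncomputable def Base.s8 (B : Base G) (p : M6 → Bool) (g : G) : C8 :=
  if h : g ∈ B.S then b8 (p h.choose) else 1

theorem Base.s8_E (p : M6 → Bool) {u : M6} (hu : u.low = true) :
    B.s8 p (B.E u) = b8 (p u) := by
  have h : B.E u ∈ B.S := Base.E_mem B hu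
  rw [Base.s8, dif_pos h, Base.E_inj B h.choose_spec.1 hu h.choose_spec.2]

theorem Base.s8_hom (p : M6 → Bool) (hp : ∀ u v : M6, u.low = true → v.low = true →
    p (u.mul v) = (p u ^^ p v)) : HomOn8 B.S (B.s8 p) := by
  rintro _ ⟨u, hu, rfl⟩ _ ⟨v, hv, rfl⟩
  rw [Base.E_mul B hu hv, Base.s8_E _ hu, Base.s8_E _ hv, Base.s8_E _ (M6.low_mul _ _ hu hv),
    hp u v hu hv, b8_xor]

namespace Four

variable (h4 : Four B)
include h4

theorem bt_img {x : G} (hx : x ∈ B.N) {u w : M6} (hu : u.low = true) (hw : w.low = true)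
    (he : x * B.E u * x⁻¹ = B.E w) : w.bt = u.bt := by
  have key : ∀ v : M6, v.low = true → v.sq1 = true →
      ∃ v' : M6, v'.low = true ∧ x * B.E v * x⁻¹ = B.E v' ∧ v'.bt = v.bt := by
    intro v hv hs
    obtain ⟨v', hv', e, e1, -, e3⟩ := h4.img_low hx hv
    refine ⟨v', hv', e, ?_⟩
    have h := (show ∀ v : M6, v.low = true → v.sq1 = true → M6.inCl true v = v.bt by
      decide +kernel)
    rw [← h v' hv' (e1.trans hs), ← h v hv hs, e3]
  obtain ⟨iz, l1, ez, b1⟩ := key M6.gz rfl (by decide)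
  obtain ⟨ir, l2, er, b2⟩ := key M6.gr rfl (by decide)
  obtain ⟨it, l3, et, b3⟩ := key M6.gt rfl (by decide)
  obtain ⟨iP, l4, eP, b4⟩ := key M6.gP rfl (by decide)
  obtain ⟨iQ, l5, eQ, b5⟩ := key M6.gQ rfl (by decide)
  rw [Base.E_gz] at ez; rw [Base.E_gr] at er; rw [Base.E_gt] at et
  rw [Base.E_gP] at eP; rw [Base.E_gQ] at eQ
  have h := Base.ev_conj_free B x hu ez er et (fun _ => eP) (fun _ => eQ) l1 l2 l3 l4 l5
  rw [he] at h
  have hl : (M6.endo iz ir it iP iQ M6.one u).low = true :=
    M6.low_mul _ _ (M6.pw_low l1 _) (M6.low_mul _ _ (M6.pw_low l2 _) (M6.low_mul _ _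
      (M6.pw_low l3 _) (M6.low_mul _ _ (M6.pw_low l4 _) (M6.low_mul _ _ (M6.pw_low l5 _)
        (M6.pw_low rfl _)))))
  rw [Base.E_inj B hw hl h]
  exact M6.endo_bt _ _ _ _ _ b1 b2 b3 b4 b5 u

theorem ncard_cls_S : {x | x ∈ B.S ∧ B.Cls x}.ncard = 12 := by
  have e : {x | x ∈ B.S ∧ B.Cls x} = B.E '' {u : M6 | (!u.bf && M6.inCl true u) = true} := by
    ext x
    constructor
    · rintro ⟨⟨u, hu, rfl⟩, hc⟩
      refine ⟨u, ?_, rfl⟩
      show (u.low && M6.inCl true u) = true
      rw [hu, (h4.cls_low hu).1 hc]; rfl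
    · rintro ⟨u, hu, rfl⟩
      simp only [Set.mem_ofPred_eq, Bool.and_eq_true] at hu
      exact ⟨Base.E_mem B hu.1, (h4.cls_low hu.1).2 hu.2⟩
  have hi : Set.InjOn B.E {u : M6 | (!u.bf && M6.inCl true u) = true} := fun u hu v hv h => by
    simp only [Set.mem_ofPred_eq, Bool.and_eq_true] at hu hv
    exact Base.E_inj B hu.1 hv.1 h
  rw [e, hi.ncard_image]
  have : {u : M6 | (!u.bf && M6.inCl true u) = true} =
      ↑(M6.allM.filter fun u => !u.bf && M6.inCl true u).toFinset := by
    ext u; simp [M6.mem_allM]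
  rw [this, Set.ncard_coe_finset, List.toFinset_card_of_nodup (M6.allM_nodup.filter _),
    ← List.countP_eq_length_filter, M6.cl_low_count]

set_option maxHeartbeats 1000000 in
theorem cyclic_case {g : G} (hg : g ∈ B.N) (hgt : g * B.t * g⁻¹ = B.a * B.t)
    (hga : g * B.a * g⁻¹ = B.z * B.a) : ∃ H : Subgroup G, H.index = 2 := by
  classical
  set f := g * g with hfdef
  have hfN : f ∈ B.N := B.N.mul_mem hg hg
  have hft : f * B.t * f⁻¹ = B.z * B.t := by
    calc f * B.t * f⁻¹ = g * (g * B.t * g⁻¹) * g⁻¹ := by rw [hfdef]; group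
      _ = g * (B.a * B.t) * g⁻¹ := by rw [hgt]
      _ = g * B.a * g⁻¹ * (g * B.t * g⁻¹) := by group
      _ = B.z * (B.a * B.a) * B.t := by rw [hga, hgt]; group
      _ = B.z * B.t := by rw [B.five.aa, mul_one]
  have hfa := Base.shift_a_fixed B hfN hft h4.tr
  have hfS := Base.shift_not_mem B hfN hft
  have hff := Base.shift_sq_mem B hfN hft
  have hnS : ∀ h ∈ B.S, f * h * f⁻¹ ∈ B.S := fun h hh => Base.conj_S B hfN hh
  set T0 := extSub B.S f hnS hff with hT0
  have hfT : f ∈ T0 := self_mem_extSub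
  have hST : B.S ≤ T0 := le_extSub
  have hgf : g * f * g⁻¹ = f := by rw [hfdef]; group
  have hgT : ∀ h ∈ T0, g * h * g⁻¹ ∈ T0 := by
    rintro h (hh | hh)
    · exact hST (Base.conj_S B hg hh)
    · have e : g * h * g⁻¹ = g * f * g⁻¹ * (g * (f⁻¹ * h) * g⁻¹) := by group
      rw [e, hgf]
      exact T0.mul_mem hfT (hST (Base.conj_S B hg hh))
  have hT0t : ∀ x ∈ T0, x * B.t * x⁻¹ = B.t ∨ x * B.t * x⁻¹ = B.z * B.t := by
    rintro x (hx | hx)
    · left; rw [Base.S_comm_t B hx, mul_inv_cancel_right]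
    · right
      calc x * B.t * x⁻¹ = f * ((f⁻¹ * x) * B.t * (f⁻¹ * x)⁻¹) * f⁻¹ := by group
        _ = f * B.t * f⁻¹ := by rw [Base.S_comm_t B hx, mul_inv_cancel_right]
        _ = _ := hft
  have hgT0 : g ∉ T0 := by
    intro h
    have hne : ∀ w : M6, w.inZ = true → w ≠ M6.gtr → B.E M6.gtr ≠ B.E w := fun w hw hne e =>
      hne (Base.E_inj B rfl (M6.inZ_low w hw) e).symm
    rcases hT0t g h with e | e
    · exact hne M6.gt rfl (by decide) (by rw [Base.E_gtr, Base.E_gt, ← hgt, e])
    · exact hne M6.gtz rfl (by decide) (by rw [Base.E_gtr, Base.E_gtz, ← hgt, e])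
  have hggT : g * g ∈ T0 := hfT
  set K := extSub T0 g hgT hggT with hK
  have hT0card : Nat.card T0 = 64 := by rw [hT0, card_extSub hfS, Base.card_S]
  have hKcard : Nat.card K = 128 := by rw [hK, card_extSub hgT0, hT0card]
  have hKP : IsPGroup 2 K := IsPGroup.of_card (n := 7) (by rw [hKcard]; rfl)
  have hT0N : ∀ x ∈ T0, x ∈ B.N := by
    rintro x (hx | hx)
    · exact Base.S_le_N B hx
    · simpa using B.N.mul_mem hfN (Base.S_le_N B hx)
  have hKN : ∀ x ∈ K, x ∈ B.N := by
    rintro x (hx | hx)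
    · exact hT0N x hx
    · simpa using B.N.mul_mem hg (hT0N _ hx)
  have hT0S : ∀ x ∈ T0, ∀ y ∈ T0, x ∉ B.S → y ∉ B.S → x * y ∈ B.S := by
    intro x hx y hy hxS hyS
    have hx' := hx.resolve_left hxS
    have hy' := hy.resolve_left hyS
    have e : x * y = f * (f⁻¹ * x) * f⁻¹ * (f * f) * (f⁻¹ * y) := by group
    rw [e]
    exact B.S.mul_mem (B.S.mul_mem (hnS _ hx') hff) hy'
  -- involutions of `K` lie in `T0`
  have hinvT : ∀ x ∈ K, x * x = 1 → x ∈ T0 := by
    intro x hx hxx
    refine hx.elim id fun hh => ?_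
    exfalso
    set h := g⁻¹ * x with hh0
    have hh' : g⁻¹ * h * g ∈ T0 := by
      have := hgT _ (T0.inv_mem hfT)
      have e : g⁻¹ * h * g = f⁻¹ * (g * h * g⁻¹) * f := by rw [hfdef]; group
      rw [e]
      exact T0.mul_mem (T0.mul_mem (T0.inv_mem hfT) (hgT _ hh)) hfT
    have hprod : g⁻¹ * h * g * h ∈ B.S := by
      by_cases hs : h ∈ B.S
      · refine B.S.mul_mem ?_ hs
        have := Base.conj_S B (B.N.inv_mem hg) hs
        rwa [inv_inv] at this
      · refine hT0S _ hh' _ hh (fun hc => hs ?_) hs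
        have := Base.conj_S B hg hc
        rwa [show g * (g⁻¹ * h * g) * g⁻¹ = h by group] at this
    have e : x * x = f * (g⁻¹ * h * g * h) := by rw [hfdef, hh0]; group
    rw [hxx] at e
    refine hfS ?_
    have := B.S.inv_mem hprod
    rwa [← eq_inv_of_mul_eq_one_left e.symm] at this
  obtain ⟨uy, huy, hy⟩ := id hff
  have hbtinv : ∀ x ∈ B.N, ∀ h ∈ B.S, B.s8 M6.bt (x * h * x⁻¹) = B.s8 M6.bt h := by
    rintro x hx _ ⟨u, hu, rfl⟩
    obtain ⟨w, hw, he⟩ := Base.conj_S B hx (Base.E_mem B hu)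
    rw [← he, Base.s8_E _ hw, Base.s8_E _ hu, h4.bt_img hx hu hw he.symm]
  have hbthom : HomOn8 B.S (B.s8 M6.bt) := Base.s8_hom _ M6.mul_bt
  obtain ⟨m, hm, hC⟩ := B.card_C
  cases hbt : uy.bt
  swap
  · -- `f ^ 2` involves `t`
    have hsq1 : e8 2 * e8 2 = B.s8 M6.bt (f * f) := by
      rw [← hy, Base.s8_E _ huy, hbt]; decide
    have hhom1 := homOn_extFun8 hnS hff hfS hbthom (hbtinv f hfN) hsq1
    set φ1 := extFun8 B.S f (B.s8 M6.bt) (e8 2) with hφ1
    have hφf : φ1 f = e8 2 := by
      rw [hφ1, extFun8_of_not_mem hfS, inv_mul_cancel, hbthom.map_one, mul_one]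
    have hinv2 : ∀ h ∈ T0, φ1 (g * h * g⁻¹) = φ1 h := by
      rintro h (hh | hh)
      · rw [hφ1, extFun8_of_mem hh, extFun8_of_mem (Base.conj_S B hg hh), hbtinv g hg h hh]
      · have hh2 : g * (f⁻¹ * h) * g⁻¹ ∈ B.S := Base.conj_S B hg hh
        have e : g * h * g⁻¹ = f * (g * (f⁻¹ * h) * g⁻¹) := by
          calc g * h * g⁻¹ = g * f * g⁻¹ * (g * (f⁻¹ * h) * g⁻¹) := by group
            _ = _ := by rw [hgf]
        rw [e, hhom1 _ hfT _ (hST hh2), show φ1 h = φ1 (f * (f⁻¹ * h)) by rw [mul_inv_cancel_left],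
          hhom1 _ hfT _ (hST hh), hφ1, extFun8_of_mem hh2, extFun8_of_mem hh, hbtinv g hg _ hh]
    have hsq2 : e8 1 * e8 1 = φ1 (g * g) := by rw [← hfdef, hφf]; decide
    have hhom := homOn_extFun8 hgT hggT hgT0 hhom1 hinv2 hsq2
    rw [← hK] at hhom
    set φ := extFun8 T0 g φ1 (e8 1) with hφ
    have hval : ∀ u : M6, u.low = true → φ (B.E u) = b8 u.bt := fun u hu => by
      rw [hφ, extFun8_of_mem (hST (Base.E_mem B hu)), hφ1, extFun8_of_mem (Base.E_mem B hu),
        Base.s8_E _ hu]
    have hits_eq : hits8 K φ B.t = {x | x ∈ B.S ∧ B.Cls x} := by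
      ext x
      constructor
      · rintro ⟨hx, hc, -⟩
        have hxx := Base.Cls_sq B hc
        refine ⟨(hinvT x hx hxx).elim id fun hh => ?_, hc⟩
        exfalso
        have hxS : x ∉ B.S := fun h => hfS (by
          have := B.S.mul_mem h (B.S.inv_mem hh)
          rwa [show x * (f⁻¹ * x)⁻¹ = f by group] at this)
        obtain ⟨s, hs, hse⟩ := hh
        have hv : φ x = e8 2 * b8 s.bt := by
          rw [hφ, extFun8_of_mem (Or.inr ⟨s, hs, hse⟩ : x ∈ T0), hφ1, extFun8_of_not_mem hxS,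
            ← hse, Base.s8_E _ hs]
        rcases hhom.map_involution hx hxx with e | e <;> rw [hv] at e <;> revert e <;>
          cases s.bt <;> decide
      · rintro ⟨hx, hc⟩
        obtain ⟨u, hu, rfl⟩ := hx
        refine ⟨le_extSub (hST (Base.E_mem B hu)), hc, ?_⟩
        rw [hval u hu, b8_ne_one]
        exact (show ∀ u : M6, M6.inCl true u = true → u.bt = true by decide +kernel) u
          ((h4.cls_low hu).1 hc)
    exact index_two_of_hits8 (Base.tt B) hhom (c := 5) (e := 2) hC hm (b := 1)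
      (by rw [hKcard]; rfl) (m := 3) (by rw [hits_eq, h4.ncard_cls_S]; rfl) (by decide)
  · set Z := {x | x ∈ T0 ∧ x ∉ B.S ∧ B.Cls x} with hZ
    have hZinv : ∀ r ∈ K, ∀ x ∈ T0, r * x * r⁻¹ ∈ T0 := by
      rintro r (hr | hr) x hx
      · exact T0.mul_mem (T0.mul_mem hr hx) (T0.inv_mem hr)
      · have := hgT _ (T0.mul_mem (T0.mul_mem hr hx) (T0.inv_mem hr))
        rwa [show g * (g⁻¹ * r * x * (g⁻¹ * r)⁻¹) * g⁻¹ = r * x * r⁻¹ by group] at this
    by_cases hbig : ∃ x ∈ Z, 16 < Nat.card ↥(K ⊓ centralizer ({x} : Set G))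
    · -- a class element with full centraliser
      obtain ⟨x, ⟨hxT, hxS, hxc⟩, hxbig⟩ := hbig
      set C := K ⊓ centralizer ({x} : Set G) with hCdef
      have hCcard : Nat.card C = 32 := by
        have hd := h4.card_cent_le hKP hxc
        rw [← hCdef] at hd
        have hle := Nat.le_of_dvd (by norm_num) hd
        generalize Nat.card C = q at hd hle hxbig ⊢
        interval_cases q <;> first | rfl | (revert hd; decide)
      obtain ⟨n, -, hnS'⟩ := Base.exists_norm B hxc hCcard
        fun y hy => mem_centralizer_singleton_iff.1 hy.2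
      have hcoset : ∀ y ∈ K, ∃ k : ℕ, (g ^ k)⁻¹ * y ∈ B.S := by
        have hT0c : ∀ y ∈ T0, ∃ k : ℕ, (g ^ k)⁻¹ * y ∈ B.S := by
          rintro y (hy | hy)
          · exact ⟨0, by simpa using hy⟩
          · exact ⟨2, by rwa [pow_two, ← hfdef]⟩
        rintro y (hy | hy)
        · exact hT0c y hy
        · obtain ⟨k, hk⟩ := hT0c _ hy
          exact ⟨k + 1, by rwa [pow_succ', mul_inv_rev, mul_assoc]⟩
      have hgk : ∀ k : ℕ, ∀ s ∈ B.S, (g ^ k)⁻¹ * s * g ^ k ∈ B.S := fun k s hs => by
        have := Base.conj_S B (B.N.inv_mem (B.N.pow_mem hg k)) hs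
        rwa [inv_inv] at this
      have hcomm : ∀ y ∈ K, ∀ w ∈ K, y * w * y⁻¹ * w⁻¹ ∈ B.S := by
        intro y hy w hw
        obtain ⟨i, hi⟩ := hcoset y hy
        obtain ⟨j, hj⟩ := hcoset w hw
        have e1 : (g ^ (i + j))⁻¹ * (y * w) ∈ B.S := by
          have := B.S.mul_mem (hgk j _ hi) hj
          rwa [show (g ^ j)⁻¹ * ((g ^ i)⁻¹ * y) * g ^ j * ((g ^ j)⁻¹ * w) =
            (g ^ (i + j))⁻¹ * (y * w) by rw [pow_add]; group] at this
        have e2 : (g ^ (i + j))⁻¹ * (w * y) ∈ B.S := by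
          have := B.S.mul_mem (hgk i _ hj) hi
          rwa [show (g ^ i)⁻¹ * ((g ^ j)⁻¹ * w) * g ^ i * ((g ^ i)⁻¹ * y) =
            (g ^ (i + j))⁻¹ * (w * y) by rw [add_comm i j, pow_add]; group] at this
        have := Base.conj_S B (B.N.pow_mem hg (i + j)) (B.S.mul_mem e1 (B.S.inv_mem e2))
        rwa [show g ^ (i + j) * ((g ^ (i + j))⁻¹ * (y * w) * ((g ^ (i + j))⁻¹ * (w * y))⁻¹) *
          (g ^ (i + j))⁻¹ = y * w * y⁻¹ * w⁻¹ by group] at this
      have hnz : n * B.z * n⁻¹ ∈ B.S := by
        have hz : B.z = B.Q * B.P * B.Q⁻¹ * B.P⁻¹ := by rw [B.five.QP]; group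
        have hP' := (hnS' _).1 (Base.P_mem B)
        have hQ' := (hnS' _).1 (Base.Q_mem B)
        rw [show n * B.z * n⁻¹ = (n * B.Q * n⁻¹) * (n * B.P * n⁻¹) * (n * B.Q * n⁻¹)⁻¹ *
          (n * B.P * n⁻¹)⁻¹ by rw [hz]; group]
        exact hcomm _ hQ'.1 _ hP'.1
      have hCT : ∀ y ∈ C, y ∈ T0 := by
        intro y hy
        refine hy.1.elim id fun hh => ?_
        exfalso
        have hys : n⁻¹ * y * n ∈ B.S := (hnS' _).2 (by
          rwa [show n * (n⁻¹ * y * n) * n⁻¹ = y by group])
        have hyy : y * y ∈ B.S := by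
          rcases Base.sq_mem B hys with e | e
          · rw [show y * y = n * (n⁻¹ * y * n * (n⁻¹ * y * n)) * n⁻¹ by group, e, mul_one,
              mul_inv_cancel]
            exact B.S.one_mem
          · rwa [show y * y = n * (n⁻¹ * y * n * (n⁻¹ * y * n)) * n⁻¹ by group, e]
        set h := g⁻¹ * y with hh0
        have e : y * y = f * (g⁻¹ * h * g * h) := by rw [hfdef, hh0]; group
        have hh' : g⁻¹ * h * g ∈ T0 := by
          have e : g⁻¹ * h * g = f⁻¹ * (g * h * g⁻¹) * f := by rw [hfdef]; group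
          rw [e]
          exact T0.mul_mem (T0.mul_mem (T0.inv_mem hfT) (hgT _ hh)) hfT
        have hprod : g⁻¹ * h * g * h ∈ B.S := by
          by_cases hs : h ∈ B.S
          · refine B.S.mul_mem ?_ hs
            have := Base.conj_S B (B.N.inv_mem hg) hs
            rwa [inv_inv] at this
          · refine hT0S _ hh' _ hh (fun hc => hs ?_) hs
            have := Base.conj_S B hg hc
            rwa [show g * (g⁻¹ * h * g) * g⁻¹ = h by group] at this
        refine hfS ?_
        have := B.S.mul_mem hyy (B.S.inv_mem hprod)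
        rwa [e, mul_inv_cancel_right] at this
      have hxCx : x ∈ C := ⟨le_extSub hxT, mem_centralizer_singleton_iff.2 rfl⟩
      set M := B.S ⊓ centralizer ({x} : Set G) with hM
      have hMcard : 16 ≤ Nat.card M := by
        have hsub : (C : Set G) ⊆ (M : Set G) ∪ (fun y => x * y) '' (M : Set G) := by
          intro y hy
          by_cases hs : y ∈ B.S
          · exact Or.inl ⟨hs, hy.2⟩
          · refine Or.inr ⟨x * y, ⟨hT0S _ hxT _ (hCT y hy) hxS hs,
              (centralizer _).mul_mem hxCx.2 hy.2⟩, ?_⟩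
            show x * (x * y) = y
            rw [← mul_assoc, Base.Cls_sq B hxc, one_mul]
        have h1 := (Set.ncard_le_ncard hsub).trans (Set.ncard_union_le _ _)
        rw [Set.ncard_image_of_injective _ (mul_right_injective x), ← Nat.card_coe_set_eq,
          ← Nat.card_coe_set_eq] at h1
        change Nat.card C ≤ Nat.card M + Nat.card M at h1
        omega
      have hxf : f⁻¹ * x ∈ B.S := hxT.resolve_left hxS
      have hxN : x ∈ B.N := hT0N x hxT
      have hxt : x * B.t * x⁻¹ = B.z * B.t := by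
        calc x * B.t * x⁻¹ = f * ((f⁻¹ * x) * B.t * (f⁻¹ * x)⁻¹) * f⁻¹ := by group
          _ = f * B.t * f⁻¹ := by rw [Base.S_comm_t B hxf, mul_inv_cancel_right]
          _ = _ := hft
      have htM : B.t ∉ M := fun h => by
        have := mem_centralizer_singleton_iff.1 h.2
        rw [mul_inv_eq_iff_eq_mul.2 this.symm] at hxt
        exact Base.t_ne_zt B hxt
      have hnM : ∀ h ∈ M, B.t * h * B.t⁻¹ ∈ M := fun h hh => by
        rwa [← Base.S_comm_t B hh.1, mul_inv_cancel_right]
      have htt : B.t * B.t ∈ M := by rw [Base.tt B]; exact M.one_mem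
      have hSM : ∀ s ∈ B.S, s ∈ M ∨ B.t⁻¹ * s ∈ M := by
        have hle : extSub M B.t hnM htt ≤ B.S := by
          rintro y (hy | hy)
          · exact hy.1
          · simpa using B.S.mul_mem (Base.t_mem B) hy.1
        have he := Subgroup.eq_of_le_of_card_ge hle (by rw [card_extSub htM, Base.card_S]; omega)
        intro s hs
        rw [← he] at hs
        exact hs
      have hxP : ∀ s ∈ B.S, x * s * x⁻¹ = s ∨ x * s * x⁻¹ = B.z * s := by
        intro s hs
        rcases hSM s hs with h | h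
        · left
          rw [← mem_centralizer_singleton_iff.1 h.2, mul_inv_cancel_right]
        · right
          have h' : x * (B.t⁻¹ * s) * x⁻¹ = B.t⁻¹ * s := by
            rw [← mem_centralizer_singleton_iff.1 h.2, mul_inv_cancel_right]
          calc x * s * x⁻¹ = x * B.t * x⁻¹ * (x * (B.t⁻¹ * s) * x⁻¹) := by group
            _ = B.z * s := by rw [hxt, h']; group
      -- adjust to fix `P` and `Q`
      obtain ⟨f', hf'x, hf'P, hf'Q⟩ : ∃ f', x⁻¹ * f' ∈ B.S ∧ f' * B.P * f'⁻¹ = B.P ∧
          f' * B.Q * f'⁻¹ = B.Q := by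
        have hz' : x * B.z * x⁻¹ = B.z := Base.conj_z B hxN
        obtain ⟨i, hi⟩ : ∃ i : Bool, x * B.P * x⁻¹ = bp B.z i * B.P := by
          rcases hxP _ (Base.P_mem B) with e | e
          · exact ⟨false, by rw [e, bp_false, one_mul]⟩
          · exact ⟨true, by rw [e]; rfl⟩
        obtain ⟨j, hj⟩ : ∃ j : Bool, x * B.Q * x⁻¹ = bp B.z j * B.Q := by
          rcases hxP _ (Base.Q_mem B) with e | e
          · exact ⟨false, by rw [e, bp_false, one_mul]⟩
          · exact ⟨true, by rw [e]; rfl⟩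
        set u : M6 := (false, false, false, j, i, false) with hu
        have hul : u.low = true := rfl
        have hc : ∀ v : M6, v.low = true → B.E u * B.E v * (B.E u)⁻¹ =
            B.E (M6.mul (M6.mul u v) u.inv) := fun v hv => by
          rw [← Base.E_mul B (M6.low_mul _ _ hul hv) (M6.low_inv _ hul),
            ← Base.E_mul B hul hv]
          congr 1
          refine (inv_eq_of_mul_eq_one_right ?_)
          rw [Base.E_mul B hul (M6.low_inv _ hul), M6.mul_inv, Base.E_one]
        have hzb : ∀ b : Bool, x * bp B.z b * x⁻¹ = bp B.z b := by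
          intro b; cases b
          · simp [bp]
          · exact hz'
        have hval : ∀ v w : M6, v.low = true → M6.mul (M6.mul u v) u.inv = w →
            x * B.E u * B.E v * (x * B.E u)⁻¹ = x * B.E w * x⁻¹ := fun v w hv e => by
          rw [← e, ← hc v hv]; group
        refine ⟨x * B.E u, by rw [inv_mul_cancel_left]; exact Base.E_mem B hul, ?_, ?_⟩
        · rw [← Base.E_gP B, hval _ (M6.mul (M6.pw M6.gz i) M6.gP) rfl (by cases i <;> cases j <;> rfl),
            ← Base.E_mul B (M6.pw_low rfl i) rfl, Base.E_gP]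
          have : B.E (M6.pw M6.gz i) = bp B.z i := by
            cases i
            · exact Base.E_one B
            · exact Base.E_gz B
          rw [this, show x * (bp B.z i * B.P) * x⁻¹ = x * bp B.z i * x⁻¹ * (x * B.P * x⁻¹) by group,
            hzb, hi, ← mul_assoc, bp_sq B.five.zz, Bool.xor_self, bp_false, one_mul]
        · rw [← Base.E_gQ B, hval _ (M6.mul (M6.pw M6.gz j) M6.gQ) rfl (by cases i <;> cases j <;> rfl),
            ← Base.E_mul B (M6.pw_low rfl j) rfl, Base.E_gQ]
          have : B.E (M6.pw M6.gz j) = bp B.z j := by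
            cases j
            · exact Base.E_one B
            · exact Base.E_gz B
          rw [this, show x * (bp B.z j * B.Q) * x⁻¹ = x * bp B.z j * x⁻¹ * (x * B.Q * x⁻¹) by group,
            hzb, hj, ← mul_assoc, bp_sq B.five.zz, Bool.xor_self, bp_false, one_mul]
      have hf'N : f' ∈ B.N := by simpa using B.N.mul_mem hxN (Base.S_le_N B hf'x)
      have hf't : f' * B.t * f'⁻¹ = B.z * B.t := by
        rw [← hxt, show f' * B.t * f'⁻¹ = x * ((x⁻¹ * f') * B.t * (x⁻¹ * f')⁻¹) * x⁻¹ by group,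
          Base.S_comm_t B hf'x, mul_inv_cancel_right]
      let X : Pre B :=
        { ρ := B.a, P' := B.P, f := f', wide := true, five := B.five, inj := B.inj
          range_S := fun y => Base.mem_S B
          fN := hf'N, f_t := hf't, f_ρ := Base.shift_a_fixed B hf'N hf't h4.tr
          f_P := hf'P, f_Q := hf'Q
          clsLow := fun u hu => h4.cls_low hu }
      obtain ⟨F, -, -, hw, hFf⟩ := X.exists_frame
      obtain ⟨c, hgood, hcls⟩ := F.classify
      have hw' : F.wide = true := hw
      rw [hw'] at hgood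
      have hfT' : F.f ∈ T0 := by
        have h1 : f' ∈ T0 := by
          have := T0.mul_mem hxT (hST hf'x)
          rwa [mul_inv_cancel_left] at this
        rcases hFf with e | e <;> rw [e]
        · exact h1
        · exact T0.mul_mem h1 (hST (Base.t_mem B))
      have hT0eq : F.T0 = T0 := by
        refine Subgroup.eq_of_le_of_card_ge ?_ (by rw [hT0card, F.card_T0])
        rintro y ⟨u, rfl⟩
        have hlow : ∀ v : M6, v.low = true → F.E v ∈ T0 := fun v hv =>
          hST ((F.range_S _).2 ⟨v, hv, rfl⟩)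
        have hm := hlow _ (show M6.low (u.bz, u.br, u.bt, u.bP, u.bQ, false) = true from rfl)
        have : F.E u = F.E (u.bz, u.br, u.bt, u.bP, u.bQ, false) * bp F.f u.bf := by
          rw [Frame.E, Frame.E, ev, ev]
          simp [M6.bz, M6.br, M6.bt, M6.bP, M6.bQ, M6.bf, bp_false, mul_assoc]
        rw [show ev B.z F.ρ B.t F.P' B.Q F.f u = F.E u from rfl, this]
        exact T0.mul_mem hm (bp_mem hfT' _)
      -- the character with kernel `S`
      have hone : HomOn8 B.S (fun _ => (1 : C8)) := fun _ _ _ _ => (mul_one _).symm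
      have hhom1 := homOn_extFun8 hnS hff hfS hone (fun _ _ => rfl) i8_sq
      set φ1 := extFun8 B.S f (fun _ => (1 : C8)) i8 with hφ1
      have hφf : φ1 f = i8 := by rw [hφ1, extFun8_of_not_mem hfS, mul_one]
      have hin1 : ∀ h : G, h ∈ B.S → φ1 h = 1 := fun h hh => by rw [hφ1, extFun8_of_mem hh]
      have hout1 : ∀ h : G, h ∉ B.S → φ1 h = i8 := fun h hh => by
        rw [hφ1, extFun8_of_not_mem hh, mul_one]
      have hinv2 : ∀ h ∈ T0, φ1 (g * h * g⁻¹) = φ1 h := by
        intro h hh
        by_cases hs : h ∈ B.S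
        · rw [hin1 _ hs, hin1 _ (Base.conj_S B hg hs)]
        · rw [hout1 _ hs, hout1 _ fun hc => hs ?_]
          have := Base.conj_S B (B.N.inv_mem hg) hc
          rwa [show g⁻¹ * (g * h * g⁻¹) * g⁻¹⁻¹ = h by group] at this
      have hsq2 : e8 2 * e8 2 = φ1 (g * g) := by rw [← hfdef, hφf]; decide
      have hhom := homOn_extFun8 hgT hggT hgT0 hhom1 hinv2 hsq2
      rw [← hK] at hhom
      set φ := extFun8 T0 g φ1 (e8 2) with hφ
      have hits_eq : hits8 K φ B.t =
          F.E '' {u | (u.bf && M6.clB true c u) = true} := by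
        ext y
        constructor
        · rintro ⟨hy, hc, hne⟩
          have hyT := hinvT y hy (Base.Cls_sq B hc)
          rw [hφ, extFun8_of_mem hyT] at hne
          have hyS : y ∉ B.S := fun h => hne (hin1 y h)
          obtain ⟨u, rfl⟩ := F.mem_T0.1 (hT0eq.symm ▸ hyT)
          refine ⟨u, ?_, rfl⟩
          have hbf : u.bf = true := by
            cases hb : u.bf
            · exact absurd ((F.range_S _).2 ⟨u, by simp [M6.low, hb], rfl⟩) hyS
            · rfl
          have h := (hcls u).1 hc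
          rw [hw'] at h
          show (u.bf && M6.clB true c u) = true
          rw [hbf, h]; rfl
        · rintro ⟨u, hu, rfl⟩
          simp only [Set.mem_ofPred_eq, Bool.and_eq_true] at hu
          have hyT : F.E u ∈ T0 := hT0eq ▸ F.E_mem u
          refine ⟨le_extSub hyT, (hcls u).2 (by rw [hw']; exact hu.2), ?_⟩
          rw [hφ, extFun8_of_mem hyT, hout1 _ ?_]
          · exact i8_ne
          · intro h
            obtain ⟨v, hv, e⟩ := (F.range_S _).1 h
            have := F.E_inj (show F.E v = F.E u from e)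
            subst this
            rw [M6.low, hu.1] at hv
            exact Bool.false_ne_true hv
      have hcount := M6.cyc_count c hgood
      set k := M6.allM.countP fun w => w.bf && M6.clB true c w with hk
      exact index_two_of_hits8 (Base.tt B) hhom (c := 5) (e := 2) hC hm (b := 1)
        (by rw [hKcard]; rfl) (m := k / 4) (by rw [hits_eq, F.ncard_image]; omega)
        (by rw [Nat.odd_iff]; omega)
    · -- all class elements outside `S` have small centraliser
      push Not at hbig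
      have hsq1 : (1 : C8) * 1 = B.s8 M6.bt (f * f) := by
        rw [← hy, Base.s8_E _ huy, hbt]; rfl
      have hhom1 := homOn_extFun8 hnS hff hfS hbthom (hbtinv f hfN) hsq1
      set φ1 := extFun8 B.S f (B.s8 M6.bt) 1 with hφ1
      have hφf : φ1 f = 1 := by
        rw [hφ1, extFun8_of_not_mem hfS, inv_mul_cancel, hbthom.map_one, mul_one]
      have hinv2 : ∀ h ∈ T0, φ1 (g * h * g⁻¹) = φ1 h := by
        rintro h (hh | hh)
        · rw [hφ1, extFun8_of_mem hh, extFun8_of_mem (Base.conj_S B hg hh), hbtinv g hg h hh]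
        · have hh2 : g * (f⁻¹ * h) * g⁻¹ ∈ B.S := Base.conj_S B hg hh
          have e : g * h * g⁻¹ = f * (g * (f⁻¹ * h) * g⁻¹) := by
            calc g * h * g⁻¹ = g * f * g⁻¹ * (g * (f⁻¹ * h) * g⁻¹) := by group
              _ = _ := by rw [hgf]
          rw [e, hhom1 _ hfT _ (hST hh2), show φ1 h = φ1 (f * (f⁻¹ * h)) by rw [mul_inv_cancel_left],
            hhom1 _ hfT _ (hST hh), hφ1, extFun8_of_mem hh2, extFun8_of_mem hh, hbtinv g hg _ hh]
      have hsq2 : (1 : C8) * 1 = φ1 (g * g) := by rw [← hfdef, hφf, mul_one]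
      have hhom := homOn_extFun8 hgT hggT hgT0 hhom1 hinv2 hsq2
      rw [← hK] at hhom
      set φ := extFun8 T0 g φ1 1 with hφ
      set Z1 := {y ∈ hits8 K φ B.t | y ∉ B.S}
      have hsplit : (hits8 K φ B.t).ncard = 12 + Z1.ncard := by
        rw [← h4.ncard_cls_S, ← Set.ncard_union_eq
          (Set.disjoint_left.2 fun y ha hb => hb.2 ha.1)]
        congr 1
        ext y
        constructor
        · intro h
          by_cases hs : y ∈ B.S
          · exact Or.inl ⟨hs, h.2.1⟩
          · exact Or.inr ⟨h, hs⟩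
        · rintro (⟨hy, hc⟩ | h)
          · obtain ⟨u, hu, rfl⟩ := hy
            refine ⟨le_extSub (hST (Base.E_mem B hu)), hc, ?_⟩
            rw [hφ, extFun8_of_mem (hST (Base.E_mem B hu)), hφ1, extFun8_of_mem (Base.E_mem B hu),
              Base.s8_E _ hu, b8_ne_one]
            exact (show ∀ u : M6, M6.inCl true u = true → u.bt = true by decide +kernel) u
              ((h4.cls_low hu).1 hc)
          · exact h.1
      have hdvd : 2 ^ 3 ∣ Z1.ncard := by
        refine pow_dvd_card_of_index hKP Z1 ?_ ?_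
        · rintro r hr y ⟨⟨hy, hc, hne⟩, hyS⟩
          refine ⟨⟨K.mul_mem (K.mul_mem hr hy) (K.inv_mem hr), Base.Cls_conj B hc r,
            by rwa [hhom.map_conj hr hy]⟩, fun h => hyS ?_⟩
          have := Base.conj_S B (B.N.inv_mem (hKN r hr)) h
          rwa [show r⁻¹ * (r * y * r⁻¹) * r⁻¹⁻¹ = y by group] at this
        · rintro y ⟨⟨hy, hc, -⟩, hyS⟩
          have := hbig y ⟨hinvT y hy (Base.Cls_sq B hc), hyS, hc⟩
          rw [hKcard]
          omega
      obtain ⟨j, hj⟩ := hdvd
      exact index_two_of_hits8 (Base.tt B) hhom (c := 5) (e := 2) hC hm (b := 1)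
        (by rw [hKcard]; rfl) (m := 3 + 2 * j) (by rw [hsplit, hj]; ring)
        (by rw [Nat.odd_iff]; omega)

end Four

end Cfsg.Agent.Block.STwoSix
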