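import Cfsg.Agent.Lib.Block.STwoSix.Count

/-!
Characters of order two given by functions, extension to an index-two overgroup,
and the counting criterion in that language.
-/

set_option autoImplicit false
set_option linter.unusedSectionVars false

namespace Cfsg.Agent.Block.STwoSix

variable {G : Type*} [Group G] [Finite G]

/-- `f` is multiplicative on `K`. -/
def HomOn (K : Subgroup G) (f : G → C2) : Prop := ∀ a ∈ K, ∀ b ∈ K, f (a * b) = f a * f b

theorem HomOn.map_one {K : Subgroup G} {f : G → C2} (h : HomOn K f) : f 1 = 1 := by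
  have := h 1 K.one_mem 1 K.one_mem
  rw [mul_one, C2_mul_self] at this
  exact this

theorem HomOn.map_inv {K : Subgroup G} {f : G → C2} (h : HomOn K f) {a : G} (ha : a ∈ K) :
    f a⁻¹ = f a := by
  have := h a ha a⁻¹ (K.inv_mem ha)
  rw [mul_inv_cancel, h.map_one] at this
  rw [← C2_inv (f a)]
  exact eq_inv_of_mul_eq_one_right this.symm

/-- The homomorphism of a multiplicative function. -/
def HomOn.toHom {K : Subgroup G} {f : G → C2} (h : HomOn K f) : K →* C2 :=
  MonoidHom.mk' (fun a => f a) fun a b => h a a.2 b b.2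

/-- The conjugates of `v` in `K` with nontrivial value. -/
def hits (K : Subgroup G) (f : G → C2) (v : G) : Set G := {x | x ∈ K ∧ IsConj v x ∧ f x ≠ 1}

theorem index_two_of_hits {v : G} (hv : v * v = 1) {K : Subgroup G} {f : G → C2} (h : HomOn K f)
    {c e a b m : ℕ} (hC : Nat.card (Subgroup.centralizer ({v} : Set G)) = 2 ^ c * a)
    (ha : Odd a) (hK : Nat.card K = 2 ^ (c + e) * b) (hm : (hits K f v).ncard = 2 ^ e * m)
    (hmo : Odd m) : ∃ H : Subgroup G, H.index = 2 := by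
  refine exists_index_two_of_count hv h.toHom hC ha hK ?_ hmo
  rw [← hm]
  congr 1
  ext x
  exact ⟨fun ⟨hx, h1, h2⟩ => ⟨hx, h1, h2⟩, fun ⟨hx, h1, h2⟩ => ⟨hx, h1, h2⟩⟩

/-- The subgroup `H ∪ xH`. -/
def extSub (H : Subgroup G) (x : G) (hn : ∀ h ∈ H, x * h * x⁻¹ ∈ H) (hx : x * x ∈ H) :
    Subgroup G where
  carrier := {g | g ∈ H ∨ x⁻¹ * g ∈ H}
  one_mem' := Or.inl H.one_mem
  mul_mem' := by
    have hn' : ∀ h ∈ H, x⁻¹ * h * x ∈ H := fun h hh => by
      have := H.mul_mem (H.mul_mem (H.inv_mem hx) (hn h hh)) hx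
      have e : (x * x)⁻¹ * (x * h * x⁻¹) * (x * x) = x⁻¹ * h * x := by group
      rwa [e] at this
    intro g k hg hk
    rcases hg with hg | hg <;> rcases hk with hk | hk
    · exact Or.inl (H.mul_mem hg hk)
    · refine Or.inr ?_
      have e : x⁻¹ * (g * k) = x⁻¹ * g * x * (x⁻¹ * k) := by group
      rw [e]
      exact H.mul_mem (hn' g hg) hk
    · refine Or.inr ?_
      rw [← mul_assoc]
      exact H.mul_mem hg hk
    · refine Or.inl ?_
      have e : g * k = x * (x⁻¹ * g) * x⁻¹ * (x * x) * (x⁻¹ * k) := by group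
      rw [e]
      exact H.mul_mem (H.mul_mem (hn _ hg) hx) hk
  inv_mem' := by
    intro g hg
    rcases hg with hg | hg
    · exact Or.inl (H.inv_mem hg)
    · refine Or.inr ?_
      have e : x⁻¹ * g⁻¹ = (x * x)⁻¹ * (x * (x⁻¹ * g)⁻¹ * x⁻¹) := by group
      rw [e]
      exact H.mul_mem (H.inv_mem hx) (hn _ (H.inv_mem hg))

variable {H : Subgroup G} {x : G} {hn : ∀ h ∈ H, x * h * x⁻¹ ∈ H} {hx : x * x ∈ H}

theorem mem_extSub {g : G} : g ∈ extSub H x hn hx ↔ g ∈ H ∨ x⁻¹ * g ∈ H := Iff.rfl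

theorem le_extSub : H ≤ extSub H x hn hx := fun _ h => Or.inl h

theorem self_mem_extSub : x ∈ extSub H x hn hx := Or.inr (by rw [inv_mul_cancel]; exact H.one_mem)

theorem card_extSub (hxH : x ∉ H) : Nat.card (extSub H x hn hx) = 2 * Nat.card H := by
  classical
  have hdis : ∀ g : G, g ∈ H → x⁻¹ * g ∉ H := fun g hg h =>
    hxH (by simpa using H.mul_mem hg (H.inv_mem h))
  rw [two_mul, ← Nat.card_sum]
  refine (Nat.card_congr (Equiv.ofBijective
    (Sum.elim (fun h : H => (⟨h.1, Or.inl h.2⟩ : extSub H x hn hx))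
      (fun h : H => ⟨x * h.1, Or.inr (by rw [inv_mul_cancel_left]; exact h.2)⟩)) ⟨?_, ?_⟩)).symm
  · rintro (a | a) (b | b) e <;> simp only [Sum.elim_inl, Sum.elim_inr] at e <;>
      replace e := congrArg Subtype.val e <;> dsimp only at e
    · exact congrArg Sum.inl (Subtype.ext e)
    · exact absurd (by rw [e, inv_mul_cancel_left]; exact b.2) (hdis _ a.2)
    · exact absurd (by rw [← e, inv_mul_cancel_left]; exact a.2) (hdis _ b.2)
    · exact congrArg Sum.inr (Subtype.ext (mul_left_cancel e))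
  · rintro ⟨g, hg | hg⟩
    · exact ⟨Sum.inl ⟨g, hg⟩, rfl⟩
    · exact ⟨Sum.inr ⟨_, hg⟩, Subtype.ext (mul_inv_cancel_left x g)⟩

open Classical in
/-- Extension of a character to `H ∪ xH`, with prescribed value at `x`. -/
noncomputable def extFun (H : Subgroup G) (x : G) (f : G → C2) (β : C2) : G → C2 :=
  fun g => if g ∈ H then f g else β * f (x⁻¹ * g)

theorem extFun_of_mem {f : G → C2} {β : C2} {g : G} (hg : g ∈ H) : extFun H x f β g = f g :=
  if_pos hg

theorem extFun_of_not_mem {f : G → C2} {β : C2} {g : G} (hg : g ∉ H) :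
    extFun H x f β g = β * f (x⁻¹ * g) := if_neg hg

theorem homOn_extFun (hn : ∀ h ∈ H, x * h * x⁻¹ ∈ H) (hx : x * x ∈ H) (hxH : x ∉ H)
    {f : G → C2} (hf : HomOn H f) (hinv : ∀ h ∈ H, f (x * h * x⁻¹) = f h)
    (hsq : f (x * x) = 1) (β : C2) : HomOn (extSub H x hn hx) (extFun H x f β) := by
  have hn' : ∀ h ∈ H, x⁻¹ * h * x ∈ H ∧ f (x⁻¹ * h * x) = f h := fun h hh => by
    have h1 := H.mul_mem (H.mul_mem (H.inv_mem hx) (hn h hh)) hx
    have e : (x * x)⁻¹ * (x * h * x⁻¹) * (x * x) = x⁻¹ * h * x := by group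
    rw [e] at h1
    refine ⟨h1, ?_⟩
    rw [← hinv _ h1]
    congr 1
    group
  have hdis : ∀ g : G, g ∈ H → x⁻¹ * g ∉ H := fun g hg h =>
    hxH (by simpa using H.mul_mem hg (H.inv_mem h))
  intro g hg k hk
  rcases hg with hg | hg <;> rcases hk with hk | hk
  · rw [extFun_of_mem hg, extFun_of_mem hk, extFun_of_mem (H.mul_mem hg hk), hf g hg k hk]
  · have hk' : k ∉ H := fun h => hdis k h hk
    have e : x⁻¹ * (g * k) = x⁻¹ * g * x * (x⁻¹ * k) := by group
    have hgk : g * k ∉ H := fun h => hk' (by simpa using H.mul_mem (H.inv_mem hg) h)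
    rw [extFun_of_mem hg, extFun_of_not_mem hk', extFun_of_not_mem hgk, e,
      hf _ (hn' g hg).1 _ hk, (hn' g hg).2, mul_left_comm]
  · have hg' : g ∉ H := fun h => hdis g h hg
    have hgk : g * k ∉ H := fun h => hg' (by simpa using H.mul_mem h (H.inv_mem hk))
    rw [extFun_of_not_mem hg', extFun_of_mem hk, extFun_of_not_mem hgk, ← mul_assoc x⁻¹,
      hf _ hg _ hk, mul_assoc]
  · have hg' : g ∉ H := fun h => hdis g h hg
    have hk' : k ∉ H := fun h => hdis k h hk
    have e : g * k = x * (x⁻¹ * g) * x⁻¹ * (x * x) * (x⁻¹ * k) := by group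
    have hgk : g * k ∈ H := e ▸ H.mul_mem (H.mul_mem (hn _ hg) hx) hk
    rw [extFun_of_not_mem hg', extFun_of_not_mem hk', extFun_of_mem hgk]
    conv_lhs => rw [e]
    rw [hf _ (H.mul_mem (hn _ hg) hx) _ hk, hf _ (hn _ hg) _ hx, hinv _ hg, hsq, mul_one,
      mul_mul_mul_comm, C2_mul_self, one_mul]

end Cfsg.Agent.Block.STwoSix
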