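import Cfsg.Agent.Lib.Block.STwoSix.Basis

/-!
The orbit `{t, t z, t a, t a z}`: the normaliser of `S` and the elements moving `t`.
-/

set_option autoImplicit false
set_option linter.unusedSectionVars false
set_option synthInstance.maxSize 4096
set_option synthInstance.maxHeartbeats 400000
set_option maxRecDepth 8000

namespace Cfsg.Agent.Block.STwoSix

open Subgroup

variable {G : Type*} [Group G] [Finite G]

/-- The class elements in the centre of `S` are the four elements outside `⟨z, a⟩`. -/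
structure Four (B : Base G) : Prop where
  tz : B.Cls (B.E M6.gtz)
  tr : B.Cls (B.E M6.gtr)
  trz : B.Cls (B.E M6.gtrz)
  r : ¬B.Cls (B.E M6.gr)
  rz : ¬B.Cls (B.E M6.grz)

namespace M6

/-- Central vector with the given exponents. -/
def zat (i j k : Bool) : M6 := (i, j, k, false, false, false)

theorem orbit_zat : ∀ v : M6, v.inZ = true → v.bt = true → v = zat v.bz v.br true := by
  decide +kernel

theorem four_cl : ∀ u : M6, u.low = true →
    ((u.sq1 = true ∧ u.can ∈ [gt, gtz, gtr, gtrz]) ↔ inCl true u = true) := by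
  decide +kernel

end M6

variable {B : Base G}

namespace Four

variable (h4 : Four B)
include h4

theorem list : ∀ v : M6, v.inZ = true →
    (B.Cls (B.E v) ↔ v ∈ [M6.gt, M6.gtz, M6.gtr, M6.gtrz]) := by
  intro v hv
  constructor
  · intro hc
    rcases M6.inZ_cases v hv with rfl | rfl | rfl | rfl | rfl | rfl | rfl | rfl
    · exact absurd (Base.E_one B ▸ hc) (Base.Cls_one B)
    · exact absurd (Base.E_gz B ▸ hc) (Base.Cls_z B)
    · decide
    · decide
    · exact absurd hc h4.r
    · exact absurd hc h4.rz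
    · decide
    · decide
  · intro h
    simp only [List.mem_cons, List.not_mem_nil, or_false] at h
    rcases h with rfl | rfl | rfl | rfl
    · rw [Base.E_gt]; exact Base.Cls_t B
    · exact h4.tz
    · exact h4.tr
    · exact h4.trz

theorem cls_low {u : M6} (hu : u.low = true) : B.Cls (B.E u) ↔ M6.inCl true u = true :=
  (Base.cls_low_of B hu _ h4.list).trans (M6.four_cl u hu)

theorem orbit_cls (i j : Bool) : B.Cls (B.E (M6.zat i j true)) := by
  rw [h4.cls_low rfl]
  cases i <;> cases j <;> rfl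

/-- An element of the normaliser maps `t` into its orbit. -/
theorem N_orbit {n : G} (hn : n ∈ B.N) :
    ∃ i j : Bool, n * B.t * n⁻¹ = B.E (M6.zat i j true) := by
  obtain ⟨w, hw, he⟩ := Base.N_conj_Z B hn (u := M6.gt) rfl
  rw [Base.E_gt] at he
  have hc : B.Cls (B.E w) := he ▸ Base.Cls_conj B (Base.Cls_t B) n
  have hl := M6.inZ_low w hw
  have hcl := (h4.cls_low hl).1 hc
  exact ⟨w.bz, w.br, he.trans (congrArg B.E (M6.orbit_zat w hw
    ((show ∀ w : M6, M6.inCl true w = true → w.bt = true by decide +kernel) w hcl)))⟩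

theorem exists_moving (i j : Bool) : ∃ n ∈ B.N, n * B.t * n⁻¹ = B.E (M6.zat i j true) :=
  Base.exists_N_of_class B rfl (h4.orbit_cls i j)

theorem card_N : Nat.card B.N = 128 := by
  classical
  choose n hn hnt using h4.exists_moving
  have hinj : ∀ i j i' j' : Bool, B.E (M6.zat i j true) = B.E (M6.zat i' j' true) →
      i = i' ∧ j = j' := fun i j i' j' h => by
    have := Base.E_inj B rfl rfl h
    simp only [M6.zat, Prod.mk.injEq, and_true] at this
    exact this
  have e : (Bool × Bool) × B.S ≃ B.N :=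
    Equiv.ofBijective (fun x => ⟨n x.1.1 x.1.2 * x.2,
        B.N.mul_mem (hn _ _) (Base.S_le_N B x.2.2)⟩)
      ⟨by
        rintro ⟨⟨i, j⟩, s⟩ ⟨⟨i', j'⟩, s'⟩ h
        replace h := congrArg Subtype.val h
        dsimp only at h
        have key : ∀ (i j : Bool) (s : B.S), n i j * s * B.t * (n i j * s)⁻¹ =
            B.E (M6.zat i j true) := fun i j s => by
          rw [show n i j * s * B.t * (n i j * s)⁻¹ = n i j * ((s : G) * B.t * (s : G)⁻¹) * (n i j)⁻¹
            by group, Base.S_comm_t B s.2, mul_inv_cancel_right]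
          exact hnt i j
        have := key i j s
        rw [h, key i' j' s'] at this
        obtain ⟨rfl, rfl⟩ := hinj _ _ _ _ this
        rw [Subtype.ext (mul_left_cancel h)],
      by
        rintro ⟨m, hm⟩
        obtain ⟨i, j, hij⟩ := h4.N_orbit hm
        refine ⟨((i, j), ⟨(n i j)⁻¹ * m, Base.N_fix_t B (B.N.mul_mem (B.N.inv_mem (hn i j)) hm) ?_⟩),
          Subtype.ext (mul_inv_cancel_left _ _)⟩
        calc (n i j)⁻¹ * m * B.t * ((n i j)⁻¹ * m)⁻¹
            = (n i j)⁻¹ * (m * B.t * m⁻¹) * n i j := by group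
          _ = B.t := by rw [hij, ← hnt i j]; group⟩
  rw [← Nat.card_congr e, Nat.card_prod, Base.card_S, Nat.card_prod, Nat.card_eq_fintype_card]
  rfl

theorem isPGroup_N : IsPGroup 2 B.N := IsPGroup.of_card (n := 7) (by rw [h4.card_N]; rfl)

theorem card_cent_le {K : Subgroup G} (hK : IsPGroup 2 K) {x : G} (hx : B.Cls x) :
    Nat.card ↥(K ⊓ centralizer ({x} : Set G)) ∣ 32 :=
  Base.cent_two_part B hx (hK.to_le inf_le_left)
    fun _ hy => mem_centralizer_singleton_iff.1 hy.2

theorem N_inf_cent : B.N ⊓ centralizer ({B.t} : Set G) = B.S := by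
  ext x
  exact ⟨fun h => Base.N_fix_t B h.1 (by
      rw [mem_centralizer_singleton_iff.1 h.2, mul_inv_cancel_right]),
    fun h => ⟨Base.S_le_N B h, mem_centralizer_singleton_iff.2 (Base.S_comm_t B h)⟩⟩

/-- An element moving `t` to `a t` either fixes `a` or maps it to `z a`. -/
theorem moving_a {g : G} (hg : g ∈ B.N) (hgt : g * B.t * g⁻¹ = B.a * B.t) :
    g * B.a * g⁻¹ = B.a ∨ g * B.a * g⁻¹ = B.z * B.a := by
  have hgm : g * (B.a * B.t) * g⁻¹ = g * B.a * g⁻¹ * (B.a * B.t) := by
    rw [show g * (B.a * B.t) * g⁻¹ = g * B.a * g⁻¹ * (g * B.t * g⁻¹) by group, hgt]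
  obtain ⟨w, hw, he⟩ := Base.N_conj_Z B hg (u := M6.gtr) rfl
  rw [Base.E_gtr, hgm] at he
  have hcl : B.Cls (B.E w) := by
    rw [← he, ← hgm, ← Base.E_gtr]
    exact Base.Cls_conj B h4.tr g
  have hb := (h4.cls_low (M6.inZ_low w hw)).1 hcl
  have hl := M6.inZ_low w hw
  have hga : g * B.a * g⁻¹ = B.E (M6.mul w (M6.inv M6.gtr)) := by
    rw [← Base.E_mul B hl (M6.low_inv _ rfl), ← he]
    have : B.E (M6.inv M6.gtr) = (B.a * B.t)⁻¹ := by
      rw [← Base.E_gtr]
      exact (inv_eq_of_mul_eq_one_right (by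
        rw [Base.E_mul B rfl rfl, M6.mul_inv, Base.E_one])).symm
    rw [this]; group
  rcases (show ∀ w : M6, w.inZ = true → M6.inCl true w = true →
      M6.mul w (M6.inv M6.gtr) = M6.one ∨ M6.mul w (M6.inv M6.gtr) = M6.gz ∨
      M6.mul w (M6.inv M6.gtr) = M6.gr ∨ M6.mul w (M6.inv M6.gtr) = M6.grz by decide +kernel)
    w hw hb with e | e | e | e
  · exfalso
    rw [e, Base.E_one] at hga
    have h1 := conj_eq_one_iff.1 hga
    rw [← Base.E_gr B, ← Base.E_one B] at h1
    exact absurd (Base.E_inj B rfl rfl h1) (by decide)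
  · exfalso
    rw [e, Base.E_gz, ← Base.conj_z B hg] at hga
    have h1 := mul_left_cancel (mul_right_cancel hga)
    rw [← Base.E_gr B, ← Base.E_gz B] at h1
    exact absurd (Base.E_inj B rfl rfl h1) (by decide)
  · exact Or.inl (by rw [hga, e, Base.E_gr])
  · exact Or.inr (by rw [hga, e, Base.E_grz])

/-- Image of a low vector under an element of the normaliser. -/
theorem img_low {x : G} (hx : x ∈ B.N) {u : M6} (hu : u.low = true) :
    ∃ w : M6, w.low = true ∧ x * B.E u * x⁻¹ = B.E w ∧ w.sq1 = u.sq1 ∧ w.inZ = u.inZ ∧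
      M6.inCl true w = M6.inCl true u := by
  obtain ⟨w, hw, he⟩ := Base.conj_S B hx (Base.E_mem B hu)
  refine ⟨w, hw, he.symm, Bool.eq_iff_iff.2 ?_, Bool.eq_iff_iff.2 ?_, Bool.eq_iff_iff.2 ?_⟩
  · simp only [M6.sq1, decide_eq_true_eq]
    have key : ∀ v : M6, v.low = true → (v.mul v = M6.one ↔ B.E v * B.E v = 1) := fun v hv => by
      rw [Base.E_mul B hv hv, ← Base.E_one B]
      exact ⟨congrArg B.E, Base.E_inj B (M6.low_mul _ _ hv hv) rfl⟩
    rw [key w hw, key u hu, he, show x * B.E u * x⁻¹ * (x * B.E u * x⁻¹) =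
      x * (B.E u * B.E u) * x⁻¹ by group, conj_eq_one_iff]
  · constructor
    · intro hz
      refine (Base.central_iff B hu).1 fun g hg => ?_
      have h := (Base.central_iff B hw).2 hz _ (Base.conj_S B hx hg)
      rw [he] at h
      have := congrArg (fun y => x⁻¹ * y * x) h
      simpa [mul_assoc] using this
    · intro hz
      obtain ⟨v, hv, hve⟩ := Base.N_conj_Z B hx hz
      rw [← he] at hve
      rw [Base.E_inj B hw (M6.inZ_low v hv) hve]
      exact hv
  · rw [← h4.cls_low hw, ← h4.cls_low hu, he]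
    exact Base.Cls_conj_iff B

end Four

end Cfsg.Agent.Block.STwoSix
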