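import Cfsg.Agent.Lib.Block.STwoSix.VeeThree

/-!
Exchanging the roles of `P` and `Q`.
-/

set_option autoImplicit false
set_option linter.unusedSectionVars false
set_option synthInstance.maxSize 4096
set_option synthInstance.maxHeartbeats 400000
set_option maxRecDepth 8000

namespace Cfsg.Agent.Block.STwoSix

open Subgroup

namespace M6

/-- The exchanged basis. -/
def swp (u : M6) : M6 := endo gz grz gt (mul gQ gr) (mul gP gr) one u

/-- Its inverse. -/
def swp' (u : M6) : M6 := endo gz grz gt (mul gQ grz) (mul gP grz) one u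

theorem swp_all : ∀ u : M6, u.low = true → (swp u).low = true ∧ (swp' u).low = true ∧
    swp (swp' u) = u ∧ swp' (swp u) = u ∧ (swp u).sq1 = u.sq1 ∧ (swp' u).inZ = u.inZ ∧
    (u.bP = false → (swp' u).bQ = false) ∧ (u.bQ = false → (swp' u).bP = false) ∧
    (u.sq1 = true → (swp u).can = swp u.can) := by
  decide +kernel

theorem can_low : ∀ u : M6, u.low = true → u.can.low = true := by decide +kernel

end M6

variable {G : Type*} [Group G] [Finite G]

theorem Base.ev_swp (B : Base G) (u : M6) :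
    ev B.z (B.z * B.a) B.t (B.Q * B.a) (B.P * B.a) 1 u = B.E (M6.swp u) := by
  have h := Base.ev_subst B (iz := M6.gz) (ir := M6.grz) (it := M6.gt) (iP := M6.mul M6.gQ M6.gr)
    (iQ := M6.mul M6.gP M6.gr) rfl rfl rfl rfl rfl u
  rwa [Base.E_gz, Base.E_grz, Base.E_gt, ← Base.E_mul B rfl rfl, ← Base.E_mul B rfl rfl,
    Base.E_gQ, Base.E_gP, Base.E_gr] at h

theorem Base.ev_swp' (B : Base G) {u : M6} (hu : u.low = true) :
    ev B.z (B.z * B.a) B.t (B.Q * B.a) (B.P * B.a) 1 (M6.swp' u) = B.E u := by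
  rw [Base.ev_swp, (M6.swp_all u hu).2.2.1]

theorem Base.swap (B : Base G) : ∃ B' : Base G, B'.t = B.t ∧ B'.a = B.z * B.a ∧ B'.z = B.z ∧
    B'.P = B.Q * B.a ∧ B'.Q = B.P * B.a := by
  have f := B.five
  have cP : ∀ p q : G, p * q = q * p → Commute p q := fun _ _ h => h
  have hza : Commute B.z B.a := f.az.symm
  have hzP : Commute B.z B.P := f.Pz.symm
  have hzQ : Commute B.z B.Q := f.Qz.symm
  have hzt : Commute B.z B.t := f.tz.symm
  have haP : Commute B.a B.P := f.Pa.symm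
  have haQ : Commute B.a B.Q := f.Qa.symm
  have hat : Commute B.a B.t := f.ta.symm
  have hPt : Commute B.P B.t := f.Pt
  have hQt : Commute B.Q B.t := f.Qt
  have hlow : ∀ {g : G}, (∃ u : M6, u.low = true ∧
      ev B.z (B.z * B.a) B.t (B.Q * B.a) (B.P * B.a) 1 u = g) ↔ g ∈ B.S := by
    intro g
    constructor
    · rintro ⟨u, hu, rfl⟩
      rw [Base.ev_swp]
      exact Base.E_mem B (M6.swp_all u hu).1
    · rintro ⟨u, hu, rfl⟩
      exact ⟨_, (M6.swp_all u hu).2.1, Base.ev_swp' B hu⟩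
  -- the old generators from the new ones
  have eP : B.P = B.P * B.a * B.a := by rw [mul_assoc, f.aa, mul_one]
  have eQ : B.Q = B.Q * B.a * B.a := by rw [mul_assoc, f.aa, mul_one]
  have ea : B.a = B.z * (B.z * B.a) := by rw [← mul_assoc, f.zz, one_mul]
  have ez : B.z = B.P * B.a * (B.Q * B.a) * (B.P * B.a) * (B.Q * B.a) := by
    rw [← Base.E_gz B, ← Base.E_gP B, ← Base.E_gQ B, ← Base.E_gr B]
    repeat rw [Base.E_mul B rfl rfl]
    congr 1
  obtain ⟨τ, σ, hτ, hσ, τt, τa, τz, σt, σa, σz⟩ := B.chi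
  have hzC : B.z ∈ B.C := Base.S_le_C B (Base.z_mem B)
  have haC : B.a ∈ B.C := Base.S_le_C B (Base.a_mem B)
  refine ⟨{
    t := B.t, a := B.z * B.a, z := B.z, P := B.Q * B.a, Q := B.P * B.a, c := B.ρ, ρ := B.c * B.c
    five := {
      zz := f.zz
      aa := by rw [mul_assoc, ← mul_assoc B.a, f.az, mul_assoc, f.aa, mul_one, f.zz]
      tt := f.tt
      PP := by rw [mul_assoc, ← mul_assoc B.a, f.Qa.symm, mul_assoc, f.aa, mul_one, f.QQ]
      QQ := by rw [mul_assoc, ← mul_assoc B.a, f.Pa.symm, mul_assoc, f.aa, mul_one, f.PP]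
      az := ((Commute.refl B.z).mul_left hza.symm).eq
      tz := f.tz
      Pz := (hzQ.symm.mul_left hza.symm).eq
      Qz := (hzP.symm.mul_left hza.symm).eq
      ta := (hzt.symm.mul_right hat.symm).eq
      Pa := ((hzQ.symm.mul_left hza.symm).mul_right (haQ.symm.mul_left (Commute.refl B.a))).eq
      Qa := ((hzP.symm.mul_left hza.symm).mul_right (haP.symm.mul_left (Commute.refl B.a))).eq
      Pt := (hQt.mul_left hat).eq
      Qt := (hPt.mul_left hat).eq
      QP := by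
        rw [← Base.E_gz B, ← Base.E_gP B, ← Base.E_gQ B, ← Base.E_gr B]
        repeat rw [Base.E_mul B rfl rfl]
        congr 1 }
    inj := fun u hu h => by
      rw [Base.ev_swp, ← Base.E_one B] at h
      have h' := Base.E_inj B (M6.swp_all u hu).1 rfl h
      rw [← (M6.swp_all u hu).2.2.2.1, h']
      decide +kernel
    aC := (hzt.mul_left hat).eq
    cC := B.ρC
    ρC := by rw [mul_assoc, B.cC, ← mul_assoc, B.cC, mul_assoc]
    card_C := B.card_C
    cent_Z := fun x ht ha hP hQ => by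
      have kP : Commute x (B.P * B.a) := hQ
      have kQ : Commute x (B.Q * B.a) := hP
      have kza : Commute x (B.z * B.a) := ha
      have kz : Commute x B.z := by
        rw [ez]; exact ((kP.mul_right kQ).mul_right kP).mul_right kQ
      have ka : Commute x B.a := by rw [ea]; exact kz.mul_right kza
      have kP' : Commute x B.P := by rw [eP]; exact kP.mul_right ka
      have kQ' : Commute x B.Q := by rw [eQ]; exact kQ.mul_right ka
      obtain ⟨u, hu, he⟩ := B.cent_Z x ht ka.eq kP'.eq kQ'.eq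
      refine ⟨M6.swp' u, ?_, (Base.ev_swp' B (M6.inZ_low u hu)).trans he⟩
      rw [(M6.swp_all u (M6.inZ_low u hu)).2.2.2.2.2.1, hu]
    norm_S := fun x ht ha hP hQ => by
      rw [hlow] at ha hP hQ ⊢
      have hz : x * B.z * x⁻¹ ∈ B.S := by
        rw [ez, show x * (B.P * B.a * (B.Q * B.a) * (B.P * B.a) * (B.Q * B.a)) * x⁻¹ =
          x * (B.P * B.a) * x⁻¹ * (x * (B.Q * B.a) * x⁻¹) * (x * (B.P * B.a) * x⁻¹) *
            (x * (B.Q * B.a) * x⁻¹) by group]
        exact B.S.mul_mem (B.S.mul_mem (B.S.mul_mem hQ hP) hQ) hP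
      have ha' : x * B.a * x⁻¹ ∈ B.S := by
        rw [ea, show x * (B.z * (B.z * B.a)) * x⁻¹ = x * B.z * x⁻¹ * (x * (B.z * B.a) * x⁻¹) by
          group]
        exact B.S.mul_mem hz ha
      have hP' : x * B.P * x⁻¹ ∈ B.S := by
        rw [eP, show x * (B.P * B.a * B.a) * x⁻¹ = x * (B.P * B.a) * x⁻¹ * (x * B.a * x⁻¹) by
          group]
        exact B.S.mul_mem hQ ha'
      have hQ' : x * B.Q * x⁻¹ ∈ B.S := by
        rw [eQ, show x * (B.Q * B.a * B.a) * x⁻¹ = x * (B.Q * B.a) * x⁻¹ * (x * B.a * x⁻¹) by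
          group]
        exact B.S.mul_mem hP ha'
      exact B.norm_S x ht ha' hP' hQ'
    cent_A1 := fun x ht ha hP hz => by
      have ka : Commute x B.a := by rw [ea]; exact Commute.mul_right hz ha
      have kQ : Commute x B.Q := by rw [eQ]; exact Commute.mul_right hP ka
      obtain ⟨u, hu, hb, he⟩ := B.cent_A2 x ht ka.eq kQ.eq hz
      exact ⟨M6.swp' u, (M6.swp_all u hu).2.1, (M6.swp_all u hu).2.2.2.2.2.2.1 hb,
        (Base.ev_swp' B hu).trans he⟩
    cent_A2 := fun x ht ha hQ hz => by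
      have ka : Commute x B.a := by rw [ea]; exact Commute.mul_right hz ha
      have kP : Commute x B.P := by rw [eP]; exact Commute.mul_right hQ ka
      obtain ⟨u, hu, hb, he⟩ := B.cent_A1 x ht ka.eq kP.eq hz
      exact ⟨M6.swp' u, (M6.swp_all u hu).2.1, (M6.swp_all u hu).2.2.2.2.2.2.2.1 hb,
        (Base.ev_swp' B hu).trans he⟩
    conj_can := fun u hu hs => by
      obtain ⟨h1, -, -, -, h5, -, -, -, h9⟩ := M6.swp_all u hu
      obtain ⟨d, hd, he⟩ := B.conj_can (M6.swp u) h1 (h5.trans hs)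
      refine ⟨d, hd, ?_⟩
      rw [h9 hs] at he
      rw [Base.ev_swp, Base.ev_swp]
      exact he
    can_eq := fun u v hu hv hus hvs d hd h => by
      obtain ⟨u1, -, -, -, u5, -, -, -, u9⟩ := M6.swp_all u hu
      obtain ⟨v1, -, -, -, v5, -, -, -, v9⟩ := M6.swp_all v hv
      rw [Base.ev_swp, Base.ev_swp] at h
      have := B.can_eq _ _ u1 v1 (u5.trans hus) (v5.trans hvs) d hd h
      rw [u9 hus, v9 hvs] at this
      rw [← (M6.swp_all _ (M6.can_low u hu)).2.2.2.1, this,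
        (M6.swp_all _ (M6.can_low v hv)).2.2.2.1]
    ca := by
      rw [show B.ρ * (B.z * B.a) * B.ρ⁻¹ = B.ρ * B.z * B.ρ⁻¹ * (B.ρ * B.a * B.ρ⁻¹) by group,
        B.ρz, B.ρa]
    cP := by
      rw [show B.ρ * (B.Q * B.a) * B.ρ⁻¹ = B.ρ * B.Q * B.ρ⁻¹ * (B.ρ * B.a * B.ρ⁻¹) by group,
        B.ρQ, B.ρa, mul_assoc, mul_assoc, hza.eq]
    cPz := by
      rw [show B.ρ * (B.Q * B.a * B.z) * B.ρ⁻¹ =
        B.ρ * B.Q * B.ρ⁻¹ * (B.ρ * B.a * B.ρ⁻¹) * (B.ρ * B.z * B.ρ⁻¹) by group, B.ρQ, B.ρa, B.ρz,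
        f.Qz, mul_assoc, f.Qa.symm, mul_assoc, ← mul_assoc B.Q, f.QQ, one_mul]
    c3 := B.ρ3
    ρa := by
      have hcza : B.c * (B.z * B.a) * B.c⁻¹ = B.z * B.a := by
        rw [show B.c * (B.z * B.a) * B.c⁻¹ = B.c * B.z * B.c⁻¹ * (B.c * B.a * B.c⁻¹) by group,
          Base.c_z, B.ca, mul_assoc _ B.a, ← f.Pa, ← mul_assoc, mul_assoc B.P, ← f.Pz,
          ← mul_assoc, f.PP, one_mul]
      calc B.c * B.c * (B.z * B.a) * (B.c * B.c)⁻¹
          = B.c * (B.c * (B.z * B.a) * B.c⁻¹) * B.c⁻¹ := by group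
        _ = _ := by rw [hcza, hcza]
    ρz := by
      rw [show B.c * B.c * B.z * (B.c * B.c)⁻¹ = B.c * (B.c * B.z * B.c⁻¹) * B.c⁻¹ by group,
        Base.c_z, show B.c * (B.P * B.z * B.a) * B.c⁻¹ =
        B.c * B.P * B.c⁻¹ * (B.c * B.z * B.c⁻¹) * (B.c * B.a * B.c⁻¹) by group, B.cP, Base.c_z,
        B.ca, ← Base.E_gz B, ← Base.E_gP B, ← Base.E_gr B]
      repeat rw [Base.E_mul B rfl rfl]
      congr 1
    ρQ := by
      rw [show B.c * B.c * (B.P * B.a) * (B.c * B.c)⁻¹ =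
        B.c * (B.c * B.P * B.c⁻¹ * (B.c * B.a * B.c⁻¹)) * B.c⁻¹ by group, B.cP, B.ca,
        f.Pz, mul_assoc B.z, f.PP, mul_one, Base.c_z, mul_assoc B.P B.z B.a, hza.eq,
        ← mul_assoc]
    ρ3 := by
      calc B.c * B.c * (B.c * B.c) * (B.c * B.c) = B.c * B.c * B.c * (B.c * B.c * B.c) := by group
        _ = 1 := by rw [B.c3, one_mul]
    chi := ⟨τ, σ, hτ, hσ, τt, by rw [hτ _ hzC _ haC, τz, τa, one_mul], τz, σt,
      by rw [hσ _ hzC _ haC, σz, σa, one_mul], σz⟩ }, rfl, rfl, rfl, rfl, rfl⟩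

end Cfsg.Agent.Block.STwoSix
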