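import Cfsg.Agent.Lib.Block.STwoSix.Cyclic
import Cfsg.Agent.Lib.Block.STwoSix.Swap

/-!
The four-element orbit: all configurations.
-/

set_option autoImplicit false
set_option linter.unusedSectionVars false
set_option synthInstance.maxSize 4096
set_option synthInstance.maxHeartbeats 400000
set_option maxRecDepth 8000

namespace Cfsg.Agent.Block.STwoSix

open Subgroup

namespace V5

theorem com_a_part : ∀ p : Par, p.2.1 = false → ∀ v : V5, (com p v eQ).2 = false := by
  decide +kernel

theorem cfg_nodup : cfg0.Nodup ∧ cfg3.Nodup ∧ cfg5.Nodup := by decide +kernel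

theorem oddFun_spec {X : List V5} (h : oddFun X = true) :
    ∃ i : V5, X.countP (dot i) % 2 = 1 := by
  rw [oddFun, List.any_eq_true] at h
  obtain ⟨i, -, hi⟩ := h
  exact ⟨i, beq_iff_eq.1 hi⟩

theorem same_mem {X Y : List V5} (h : (all.all fun v => X.contains v == Y.contains v) = true)
    (v : V5) : v ∈ X ↔ v ∈ Y := by
  have := List.all_eq_true.1 h v (mem_all v)
  rw [beq_iff_eq] at this
  rw [← List.contains_iff_mem (as := X), ← List.contains_iff_mem (as := Y), this]

end V5

variable {G : Type*} [Group G] [Finite G] {B : Base G}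

namespace Vee

variable (V : Vee B) (h4 : Four B)
include h4

/-- All configurations except the mirror image of the second. -/
theorem main_case (hne : V.p ≠ V5.par4) : ∃ H : Subgroup G, H.index = 2 := by
  obtain ⟨L, hX, hnd, ho⟩ := config V h4
  simp only [V5.outcome, Bool.or_eq_true, Bool.and_eq_true, decide_eq_true_iff] at ho
  rcases ho with (((ho | hp) | ⟨hp, hs⟩) | ⟨hp, hs⟩) | ⟨hp, hs⟩
  · obtain ⟨i, hi⟩ := V5.oddFun_spec ho
    exact odd_case V h4 hX hnd hi
  · exact absurd hp hne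
  · exact side_par0 V h4 hp fun v => (hX v).trans (V5.same_mem hs v)
  · exact three_case V h4 hp fun v => (hX v).trans (V5.same_mem hs v)
  · exact five_case V h4 hp fun v => (hX v).trans (V5.same_mem hs v)

end Vee

namespace Four

variable (h4 : Four B)
include h4

theorem four_case : ∃ H : Subgroup G, H.index = 2 := by
  obtain ⟨g, hg, hgt⟩ := h4.exists_moving false true
  rw [show M6.zat false true true = M6.gtr from rfl, Base.E_gtr] at hgt
  rcases h4.moving_a hg hgt with hga | hga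
  swap
  · exact h4.cyclic_case hg hgt hga
  obtain ⟨V, -⟩ := h4.exists_vee hg hgt hga
  by_cases hp : V.p = V5.par4
  swap
  · exact Vee.main_case V h4 hp
  obtain ⟨B', et, ea, ez, eP, eQ⟩ := B.swap
  have hE : ∀ u : M6, B'.E u = B.E (M6.swp u) := fun u => by
    rw [Base.E, et, ea, ez, eP, eQ, Base.ev_swp]
  have hcl : ∀ g : G, B'.Cls g ↔ B.Cls g := fun g => by rw [Base.Cls, Base.Cls, et]
  have hS : B'.S = B.S := by
    ext x
    constructor
    · rintro ⟨u, hu, rfl⟩
      rw [hE]
      exact Base.E_mem B (M6.swp_all u hu).1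
    · rintro ⟨u, hu, rfl⟩
      exact ⟨M6.swp' u, (M6.swp_all u hu).2.1, by rw [hE, (M6.swp_all u hu).2.2.1]⟩
  have hN : B'.N = B.N := by rw [Base.N, Base.N, hS]
  have h4' : Four B' := by
    constructor
    · rw [hcl, hE, show M6.swp M6.gtz = M6.gtz by decide]; exact h4.tz
    · rw [hcl, hE, show M6.swp M6.gtr = M6.gtrz by decide]; exact h4.trz
    · rw [hcl, hE, show M6.swp M6.gtrz = M6.gtr by decide]; exact h4.tr
    · rw [hcl, hE, show M6.swp M6.gr = M6.grz by decide]; exact h4.rz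
    · rw [hcl, hE, show M6.swp M6.grz = M6.gr by decide]; exact h4.r
  have ht : V.h * B'.t * V.h⁻¹ = B'.a * B'.t := by
    rw [et, ea]
    exact mul_inv_eq_iff_eq_mul.2 (by rw [mul_assoc]; exact V.seven.ht)
  have ha : V.h * B'.a * V.h⁻¹ = B'.a := by
    rw [ea, show V.h * (B.z * B.a) * V.h⁻¹ = V.h * B.z * V.h⁻¹ * (V.h * B.a * V.h⁻¹) by group,
      mul_inv_eq_iff_eq_mul.2 V.seven.hz, mul_inv_eq_iff_eq_mul.2 V.seven.ha]
  obtain ⟨V', -⟩ := h4'.exists_vee (hN ▸ Vee.h_mem V) ht ha
  refine Vee.main_case V' h4' fun h => ?_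
  have hgP := V'.seven.gP
  rw [h, show (V5.par4).1 = true from rfl, bp_true, ea, eP] at hgP
  obtain ⟨u, hu⟩ := (V.range_N _).1 (hN ▸ Vee.g_mem V')
  change V.E u = V'.g at hu
  have hQa : V.E ((false, true), V5.eQ) = B.Q * B.a := by
    rw [show ((false, true), V5.eQ) = M7.mul V.p ((false, false), V5.eQ) ((false, true), V5.zero) by
      simp [M7.mul, U2.add, cz, V5.eQ, V5.zero, V5.add],
      ← Vee.E_mul, (Vee.E_basic V).2.2.1, (Vee.E_basic V).2.2.2.2.2.2]
  have hza : V.E ((true, true), V5.zero) = B.z * B.a := by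
    rw [Vee.E, ev7_U, bp_true, bp_true]
  have h1 : V'.g * (B.Q * B.a) * V'.g⁻¹ = B.z * B.a * (B.Q * B.a) :=
    mul_inv_eq_iff_eq_mul.2 (hgP.trans (mul_assoc _ _ _).symm)
  rw [← hu, ← hQa, ← hza, Vee.E_conj, Vee.E_mul] at h1
  have h2 := congrArg (fun x : M7 => x.1.2) (V.E_inj h1)
  have h3 := V5.com_a_part V.p (by rw [hp]; rfl) u.2
  simp [M7.mul, U2.add, cz, V5.zero, h3] at h2

end Four

end Cfsg.Agent.Block.STwoSix
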