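import Cfsg.Agent.Lib.Block.STwoSix.Base

/-!
Finite computations in the group of order 64: possible sets of class elements.
-/

set_option autoImplicit false
set_option linter.unusedSectionVars false
set_option synthInstance.maxSize 4096
set_option synthInstance.maxHeartbeats 400000
set_option maxRecDepth 8000

namespace Cfsg.Agent.Block.STwoSix

/-- Choices for the class elements outside the low part: for each of the two `r`-exponents, one
Boolean for each of `f`, `fP`, `fQ`, `ftPQ`. -/
abbrev Cfg := (Bool × Bool × Bool × Bool) × (Bool × Bool × Bool × Bool)

namespace M6

/-- The class elements of the low part. -/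
def inCl (wide : Bool) (u : M6) : Bool :=
  !u.bf && u.bt && !(u.bP && u.bQ) && (wide || !u.br)

/-- The choice for an element outside the low part. -/
def pick (q : Bool × Bool × Bool × Bool) (u : M6) : Bool :=
  match u.bt, u.bP, u.bQ with
  | false, false, false => q.1
  | false, true, false => q.2.1
  | false, false, true => q.2.2.1
  | true, true, true => q.2.2.2
  | _, _, _ => false

/-- The class elements for a choice. -/
def clB (wide : Bool) (c : Cfg) (u : M6) : Bool :=
  if u.bf then pick (if u.br then c.2 else c.1) u else inCl wide u

/-- All vectors, as a list. -/
def allM : List M6 :=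
  [false, true].flatMap fun a => [false, true].flatMap fun b => [false, true].flatMap fun c =>
    [false, true].flatMap fun d => [false, true].flatMap fun e => [false, true].map fun g =>
      (a, b, c, d, e, g)

theorem mem_allM : ∀ u : M6, u ∈ allM := by decide +kernel

theorem allM_nodup : allM.Nodup := by decide +kernel

/-- The number of class elements commuting with `w`. -/
def cnt (wide : Bool) (c : Cfg) (w : M6) : ℕ := allM.countP fun v => clB wide c v && comm w v

/-- The number of class elements commuting with `t`. -/
def target (wide : Bool) : ℕ := if wide then 12 else 6

/-- The relation between the two `r`-exponents. -/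
def rule (wide : Bool) (c : Cfg) : Bool :=
  if wide then decide (c.1 = c.2)
  else !(c.1.1 && c.2.1) && !(c.1.2.1 && c.2.2.1) && !(c.1.2.2.1 && c.2.2.2.1) &&
    !(c.1.2.2.2 && c.2.2.2.2)

/-- The admissible choices. -/
def good (wide : Bool) (c : Cfg) : Bool :=
  rule wide c && allM.all fun w => !clB wide c w || cnt wide c w == target wide

/-- The images of the class elements outside the low part. -/
def img (c : Cfg) : Bool × Bool × Bool × Bool :=
  (c.1.1 || c.2.1, c.1.2.1 || c.2.2.1, c.1.2.2.1 || c.2.2.2.1, c.1.2.2.2 || c.2.2.2.2)

theorem good_shape : ∀ wide : Bool, ∀ c : Cfg, good wide c = true →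
    img c = (false, false, false, true) ∨ img c = (true, true, true, false) := by
  decide +kernel

theorem cnt_low : ∀ wide : Bool,
    (allM.countP fun v => !v.bf && inCl wide v) = target wide ∧
    (allM.countP fun v => !v.bf && inCl wide v && !v.bQ) < target wide := by
  decide +kernel

end M6

end Cfsg.Agent.Block.STwoSix
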