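import Cfsg.Agent.Lib.Block.STwoSix.Shift
import Cfsg.Agent.Lib.Block.STwoSix.FrameModel

/-!
The subgroup of order 64 generated by `S` and an element exchanging `t` and `t z`, and the class
elements inside it.
-/

set_option autoImplicit false
set_option linter.unusedSectionVars false
set_option synthInstance.maxSize 4096
set_option synthInstance.maxHeartbeats 400000
set_option maxRecDepth 8000

namespace Cfsg.Agent.Block.STwoSix

open Subgroup

variable {G : Type*} [Group G]

/-- Conjugation by an element fixing `z, r, P, Q` and sending `t` to `z t`, on low values. -/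
theorem conj_low {z r t P Q f : G} (five : Five z r t P Q) (hz : f * z * f⁻¹ = z)
    (hr : f * r * f⁻¹ = r) (ht : f * t * f⁻¹ = z * t) (hP : f * P * f⁻¹ = P)
    (hQ : f * Q * f⁻¹ = Q) {u : M6} (hu : u.bf = false) :
    f * ev z r t P Q 1 u * f⁻¹ = bp z u.bt * ev z r t P Q 1 u := by
  have hb : ∀ (g : G) (b : Bool), f * bp g b * f⁻¹ = bp (f * g * f⁻¹) b := by
    intro g b; cases b <;> simp [bp]
  obtain ⟨u1, u2, u3, u4, u5, u6⟩ := u
  simp only [M6.bf] at hu
  subst hu
  simp only [ev, M6.bz, M6.br, M6.bt, M6.bP, M6.bQ, M6.bf, bp_false, mul_one]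
  have e : f * (bp z u1 * (bp r u2 * (bp t u3 * (bp P u4 * bp Q u5)))) * f⁻¹ =
      bp z u1 * (bp r u2 * (bp (z * t) u3 * (bp P u4 * bp Q u5))) := by
    calc f * (bp z u1 * (bp r u2 * (bp t u3 * (bp P u4 * bp Q u5)))) * f⁻¹
        = (f * bp z u1 * f⁻¹) * ((f * bp r u2 * f⁻¹) * ((f * bp t u3 * f⁻¹) *
            ((f * bp P u4 * f⁻¹) * (f * bp Q u5 * f⁻¹)))) := by group
      _ = _ := by rw [hb, hb, hb, hb, hb, hz, hr, ht, hP, hQ]
  rw [e, show bp (z * t) u3 = bp z u3 * bp t u3 by cases u3 <;> simp [bp], mul_assoc,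
    bp_comm' five.az, bp_comm' (rfl : z * z = z * z) u1]

variable [Finite G]

/-- Data before the normalisation of the exchanging element. -/
structure Pre (B : Base G) where
  ρ : G
  P' : G
  f : G
  wide : Bool
  five : Five B.z ρ B.t P' B.Q
  inj : ∀ u : M6, u.low = true → ev B.z ρ B.t P' B.Q 1 u = 1 → u = M6.one
  range_S : ∀ x : G, x ∈ B.S ↔ ∃ u : M6, u.low = true ∧ ev B.z ρ B.t P' B.Q 1 u = x
  fN : f ∈ B.N
  f_t : f * B.t * f⁻¹ = B.z * B.t
  f_ρ : f * ρ * f⁻¹ = ρ
  f_P : f * P' * f⁻¹ = P'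
  f_Q : f * B.Q * f⁻¹ = B.Q
  clsLow : ∀ u : M6, u.low = true → (B.Cls (ev B.z ρ B.t P' B.Q 1 u) ↔ M6.inCl wide u = true)

variable {B : Base G}

namespace Pre

variable (X : Pre B)

/-- Evaluation on low vectors. -/
def E (u : M6) : G := ev B.z X.ρ B.t X.P' B.Q 1 u

theorem E_mul {u v : M6} (hu : u.low = true) (hv : v.low = true) :
    X.E u * X.E v = X.E (u.mul v) := X.five.ev_mul u v hu hv

theorem E_one : X.E M6.one = 1 := ev_one

theorem E_inj {u v : M6} (hu : u.low = true) (hv : v.low = true) (h : X.E u = X.E v) : u = v := by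
  refine M6.eq_of_inv_mul u v (X.inj _ (M6.low_mul _ _ (M6.low_inv v hv) hu) ?_)
  show X.E _ = 1
  rw [← E_mul X (M6.low_inv v hv) hu, h, E_mul X (M6.low_inv v hv) hv, M6.inv_mul, E_one]

theorem E_mem {u : M6} (hu : u.low = true) : X.E u ∈ B.S := (X.range_S _).2 ⟨u, hu, rfl⟩

theorem not_mem : X.f ∉ B.S := Base.shift_not_mem B X.fN X.f_t

theorem sq_mem : X.f * X.f ∈ B.S := Base.shift_sq_mem B X.fN X.f_t

theorem conj_E {u : M6} (hu : u.low = true) :
    X.f * X.E u * X.f⁻¹ = bp B.z u.bt * X.E u :=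
  conj_low X.five (Base.conj_z B X.fN) X.f_ρ X.f_t X.f_P X.f_Q (by simpa [M6.low] using hu)

theorem bz_mul (b : Bool) {u : M6} (hu : u.low = true) :
    bp B.z b * X.E u = X.E (M6.mul (M6.pw M6.gz b) u) := by
  rw [← E_mul X (M6.pw_low rfl b) hu]
  congr 1
  cases b
  · exact (ev_one).symm
  · exact (ev_gz).symm

theorem f_sq : ∃ i j : Bool, X.f * X.f = X.E (i, j, false, false, false, false) := by
  obtain ⟨u, hu, he⟩ := (X.range_S _).1 X.sq_mem
  replace he : X.E u = X.f * X.f := he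
  have hfix : X.f * X.E u * X.f⁻¹ = X.E u := by rw [he]; group
  have hbt : u.bt = false := by
    rw [conj_E X hu, bz_mul X _ hu] at hfix
    have := E_inj X (M6.low_mul _ _ (M6.pw_low rfl _) hu) hu hfix
    exact (show ∀ u : M6, u.low = true → M6.mul (M6.pw M6.gz u.bt) u = u → u.bt = false by
      decide +kernel) u hu this
  have hgen : ∀ g : G, X.f * g * X.f⁻¹ = g → X.E u * g = g * X.E u := by
    intro g hg
    rw [he, show X.f * X.f * g = X.f * (X.f * g * X.f⁻¹) * X.f⁻¹ * (X.f * X.f) by group, hg, hg]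
  have hP := hgen X.P' X.f_P
  have hQ := hgen B.Q X.f_Q
  rw [← show X.E M6.gP = X.P' from ev_gP] at hP
  rw [← show X.E M6.gQ = B.Q from ev_gQ] at hQ
  rw [E_mul X hu rfl, E_mul X rfl hu] at hP hQ
  have h := (show ∀ u : M6, u.low = true → u.bt = false → M6.mul u M6.gP = M6.mul M6.gP u →
      M6.mul u M6.gQ = M6.mul M6.gQ u → u = (u.bz, u.br, false, false, false, false) by
    decide +kernel) u hu hbt (E_inj X (M6.low_mul _ _ hu rfl) (M6.low_mul _ _ rfl hu) hP)
      (E_inj X (M6.low_mul _ _ hu rfl) (M6.low_mul _ _ rfl hu) hQ)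
  exact ⟨u.bz, u.br, by rw [← h, he]⟩

set_option maxHeartbeats 800000 in
/-- The square of `f` lies in `⟨z⟩`. -/
theorem f_sq_z : ∃ i : Bool, X.f * X.f = X.E (i, false, false, false, false, false) := by
  classical
  obtain ⟨i, j, hij⟩ := X.f_sq
  cases j
  · exact ⟨i, hij⟩
  exfalso
  set u0 : M6 := M6.mul M6.gt M6.gP with hu0
  have hl0 : u0.low = true := rfl
  set v := X.E u0 with hv
  have hcv : B.Cls v := (X.clsLow u0 hl0).2 (by cases X.wide <;> rfl)
  set f' := X.f * B.Q with hf'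
  have hf'N : f' ∈ B.N := B.N.mul_mem X.fN (Base.S_le_N B (Base.Q_mem B))
  have hf'v : f' * v * f'⁻¹ = v := by
    have hQ : B.Q * v * B.Q⁻¹ = X.E (M6.mul (M6.mul M6.gQ u0) M6.gQ) := by
      rw [← E_mul X rfl rfl, ← E_mul X rfl hl0, inv_eq_of_mul_eq_one_right B.five.QQ,
        show X.E M6.gQ = B.Q from ev_gQ]
    rw [hf', show X.f * B.Q * v * (X.f * B.Q)⁻¹ = X.f * (B.Q * v * B.Q⁻¹) * X.f⁻¹ by group, hQ,
      conj_E X rfl, bz_mul X _ rfl]
    rfl
  have hf'sq : f' * f' = X.f * X.f := by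
    have h : B.Q * X.f = X.f * B.Q := by
      conv_lhs => rw [← X.f_Q]
      group
    rw [hf', show X.f * B.Q * (X.f * B.Q) = X.f * (B.Q * X.f) * B.Q by group, h,
      show X.f * (X.f * B.Q) * B.Q = X.f * X.f * (B.Q * B.Q) by group, B.five.QQ, mul_one]
  set H := B.S ⊓ centralizer ({v} : Set G) with hH
  have hcm : ∀ x : G, x ∈ H → x * v = v * x := fun x hx => mem_centralizer_singleton_iff.1 hx.2
  have hn : ∀ x ∈ H, f' * x * f'⁻¹ ∈ H := fun x hx =>
    ⟨Base.conj_S B hf'N hx.1, mem_centralizer_singleton_iff.2 (by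
      conv_lhs => rw [← hf'v]
      conv_rhs => rw [← hf'v]
      calc f' * x * f'⁻¹ * (f' * v * f'⁻¹) = f' * (x * v) * f'⁻¹ := by group
        _ = f' * (v * x) * f'⁻¹ := by rw [hcm x hx]
        _ = f' * v * f'⁻¹ * (f' * x * f'⁻¹) := by group)⟩
  have hsq : f' * f' ∈ H := ⟨hf'sq ▸ X.sq_mem, mem_centralizer_singleton_iff.2 (by
      have h := mul_inv_eq_iff_eq_mul.1 hf'v
      rw [mul_assoc, h, ← mul_assoc, h, mul_assoc])⟩
  have hnot : f' ∉ H := fun h => X.not_mem (by
    have := B.S.mul_mem h.1 (B.S.inv_mem (Base.Q_mem B))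
    rwa [hf', mul_inv_cancel_right] at this)
  set U := extSub H f' hn hsq with hU
  have hHset : ∀ x : G, x ∈ H ↔ ∃ u : M6, (u.low && !u.bQ) = true ∧ X.E u = x := by
    intro x
    constructor
    · rintro ⟨hxS, hxc⟩
      obtain ⟨u, hu, rfl⟩ := (X.range_S x).1 hxS
      have h := mem_centralizer_singleton_iff.1 hxc
      change X.E u * X.E u0 = X.E u0 * X.E u at h
      rw [E_mul X hu hl0, E_mul X hl0 hu] at h
      refine ⟨u, ?_, rfl⟩
      exact (show ∀ u : M6, u.low = true → M6.mul u (M6.mul M6.gt M6.gP) =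
        M6.mul (M6.mul M6.gt M6.gP) u → (u.low && !u.bQ) = true by decide +kernel) u hu
        (E_inj X (M6.low_mul _ _ hu hl0) (M6.low_mul _ _ hl0 hu) h)
    · rintro ⟨u, hu, rfl⟩
      have hu' : u.low = true := by revert u; decide +kernel
      refine ⟨E_mem X hu', mem_centralizer_singleton_iff.2 ?_⟩
      change X.E u * X.E u0 = X.E u0 * X.E u
      rw [E_mul X hu' hl0, E_mul X hl0 hu']
      exact congrArg X.E ((show ∀ u : M6, (u.low && !u.bQ) = true →
        M6.mul u (M6.mul M6.gt M6.gP) = M6.mul (M6.mul M6.gt M6.gP) u by decide +kernel) u hu)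
  have hcardH : Nat.card H = 16 := by
    have e : {u : M6 // (u.low && !u.bQ) = true} ≃ H :=
      Equiv.ofBijective (fun u => ⟨X.E u.1, (hHset _).2 ⟨u.1, u.2, rfl⟩⟩)
        ⟨fun u w h => Subtype.ext (E_inj X (Bool.and_eq_true _ _ ▸ u.2 : _ ∧ _).1 (Bool.and_eq_true _ _ ▸ w.2 : _ ∧ _).1
          (congrArg Subtype.val h)),
        fun ⟨g, hg⟩ => by
          obtain ⟨u, hu, e⟩ := (hHset g).1 hg
          exact ⟨⟨u, hu⟩, Subtype.ext e⟩⟩
    rw [← Nat.card_congr e, Nat.card_eq_fintype_card]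
    decide +kernel
  have hcardU : Nat.card U = 32 := by rw [hU, card_extSub hnot, hcardH]
  have hUv : ∀ x ∈ U, x * v = v * x := by
    intro x hx
    rcases hx with hx | hx
    · exact hcm x hx
    · have h := hcm _ hx
      have h' := mul_inv_eq_iff_eq_mul.1 hf'v
      calc x * v = f' * (f'⁻¹ * x * v) := by group
        _ = f' * v * (f'⁻¹ * x) := by rw [h]; group
        _ = v * x := by rw [h']; group
  obtain ⟨n, -, hnS⟩ := Base.exists_norm B hcv hcardU hUv
  -- class elements of `U` are in `H`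
  have hclsU : ∀ x ∈ U, B.Cls x → x ∈ H := by
    intro x hx hc
    rcases hx with hx | hx
    · exact hx
    exfalso
    obtain ⟨u, hu, he⟩ := (X.range_S _).1 (show B.Q * (f'⁻¹ * x) ∈ B.S from
      B.S.mul_mem (Base.Q_mem B) hx.1)
    replace he : X.E u = B.Q * (f'⁻¹ * x) := he
    have hx' : x = X.f * X.E u := by rw [he, hf']; group
    have h1 := Base.Cls_sq B hc
    have e3 : X.E u * X.f = X.f * (bp B.z u.bt * X.E u) := by
      have hf2 : X.f⁻¹ * X.E u * X.f = bp B.z u.bt * X.E u := by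
        have h := conj_E X hu
        have hzf : X.f * bp B.z u.bt * X.f⁻¹ = bp B.z u.bt := by
          cases u.bt
          · simp [bp]
          · exact Base.conj_z B X.fN
        calc X.f⁻¹ * X.E u * X.f
            = bp B.z u.bt * (bp B.z u.bt * (X.f⁻¹ * X.E u * X.f)) := by
              rw [← mul_assoc (bp B.z u.bt), bp_sq B.five.zz]; simp [bp]
          _ = bp B.z u.bt * X.E u := by
              congr 1
              conv_lhs => arg 1; rw [← show X.f⁻¹ * bp B.z u.bt * X.f = bp B.z u.bt by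
                conv_lhs => rw [← hzf]
                group]
              calc X.f⁻¹ * bp B.z u.bt * X.f * (X.f⁻¹ * X.E u * X.f)
                  = X.f⁻¹ * (bp B.z u.bt * X.E u) * X.f := by group
                _ = X.E u := by rw [← h]; group
      rw [← hf2]; group
    have h2 : X.f * X.E u * (X.f * X.E u) = X.f * X.f * (bp B.z u.bt * X.E u * X.E u) := by
      calc X.f * X.E u * (X.f * X.E u) = X.f * (X.E u * X.f) * X.E u := by group
        _ = X.f * (X.f * (bp B.z u.bt * X.E u)) * X.E u := by rw [e3]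
        _ = _ := by group
    rw [hx', h2, hij, bz_mul X _ hu, E_mul X (M6.low_mul _ _ (M6.pw_low rfl _) hu) hu,
      E_mul X rfl (M6.low_mul _ _ (M6.low_mul _ _ (M6.pw_low rfl _) hu) hu), ← E_one X] at h1
    have h4 := E_inj X (M6.low_mul _ _ rfl (M6.low_mul _ _ (M6.low_mul _ _ (M6.pw_low rfl _) hu) hu))
      rfl h1
    revert h4
    exact (show ∀ i : Bool, ∀ u : M6, M6.mul (i, true, false, false, false, false)
      (M6.mul (M6.mul (M6.pw M6.gz u.bt) u) u) = M6.one → False by decide +kernel) i u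
  -- counting
  have hL : ∀ (p : M6 → Bool), (∀ u, p u = true → u.low = true) →
      ((fun u => X.E u) '' {u | p u = true}).ncard = M6.allM.countP p := by
    intro p hp
    have hi : Set.InjOn (fun u => X.E u) {u | p u = true} :=
      fun u hu w hw h => E_inj X (hp u hu) (hp w hw) h
    rw [hi.ncard_image]
    have : {u : M6 | p u = true} = ↑(M6.allM.filter p).toFinset := by
      ext u; simp [M6.mem_allM]
    rw [this, Set.ncard_coe_finset, List.toFinset_card_of_nodup (M6.allM_nodup.filter _),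
      List.countP_eq_length_filter]
  have e1 : {x | x ∈ B.S ∧ B.Cls x} =
      (fun u => X.E u) '' {u | (!u.bf && M6.inCl X.wide u) = true} := by
    ext x
    constructor
    · rintro ⟨hx, hc⟩
      obtain ⟨u, hu, rfl⟩ := (X.range_S x).1 hx
      refine ⟨u, ?_, rfl⟩
      show (!u.bf && M6.inCl X.wide u) = true
      rw [(X.clsLow u hu).1 hc, Bool.and_true]
      exact hu
    · rintro ⟨u, hu, rfl⟩
      simp only [Set.mem_ofPred_eq, Bool.and_eq_true] at hu
      exact ⟨E_mem X hu.1, (X.clsLow u hu.1).2 hu.2⟩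
  have e2 : {x | x ∈ H ∧ B.Cls x} =
      (fun u => X.E u) '' {u | (!u.bf && M6.inCl X.wide u && !u.bQ) = true} := by
    ext x
    constructor
    · rintro ⟨hx, hc⟩
      obtain ⟨u, hu, rfl⟩ := (hHset x).1 hx
      refine ⟨u, ?_, rfl⟩
      simp only [Bool.and_eq_true] at hu
      show (!u.bf && M6.inCl X.wide u && !u.bQ) = true
      rw [(X.clsLow u hu.1).1 hc, hu.2, Bool.and_true, Bool.and_true]
      exact hu.1
    · rintro ⟨u, hu, rfl⟩
      simp only [Set.mem_ofPred_eq, Bool.and_eq_true] at hu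
      exact ⟨(hHset _).2 ⟨u, Bool.and_eq_true _ _ ▸ ⟨hu.1.1, hu.2⟩, rfl⟩, (X.clsLow u hu.1.1).2 hu.1.2⟩
  have hmap : (fun x => n * x * n⁻¹) '' {x | x ∈ B.S ∧ B.Cls x} = {x | x ∈ H ∧ B.Cls x} := by
    ext y
    constructor
    · rintro ⟨x, ⟨hx, hc⟩, rfl⟩
      exact ⟨hclsU _ ((hnS x).1 hx) (Base.Cls_conj B hc n), Base.Cls_conj B hc n⟩
    · rintro ⟨hy, hc⟩
      have e : n * (n⁻¹ * y * n) * n⁻¹ = y := by group
      refine ⟨n⁻¹ * y * n, ⟨(hnS _).2 ?_, ?_⟩, e⟩
      · rw [e]; exact le_extSub hy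
      · rw [← Base.Cls_conj_iff B (n := n), e]; exact hc
  have := congrArg Set.ncard hmap
  rw [Set.ncard_image_of_injective _ (fun x y h => mul_left_cancel (mul_right_cancel h)), e1, e2,
    hL _ (fun u h => (Bool.and_eq_true _ _ ▸ h : _ ∧ _).1),
    hL _ (fun u h => (Bool.and_eq_true _ _ ▸ (Bool.and_eq_true _ _ ▸ h : _ ∧ _).1 : _ ∧ _).1),
    (M6.cnt_low X.wide).1] at this
  exact absurd this.symm (Nat.ne_of_lt (M6.cnt_low X.wide).2)

end Pre

end Cfsg.Agent.Block.STwoSix
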