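import Cfsg.Agent.Lib.Block.STwoSix.Frame

/-!
The normalised frame and the classification of its class elements.
-/

set_option autoImplicit false
set_option linter.unusedSectionVars false
set_option synthInstance.maxSize 4096
set_option synthInstance.maxHeartbeats 400000
set_option maxRecDepth 8000

namespace Cfsg.Agent.Block.STwoSix

open Subgroup

namespace M6

theorem sq_all : ∀ u : M6, mul u u = one ∨ mul u u = gz := by decide +kernel

theorem noncentral_cnt : ∀ w : M6, w.central = false →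
    allM.countP (fun v => comm w v) = 32 := by decide +kernel

theorem conj_all : ∀ x v : M6, mul (mul x v) (inv x) = v ∨ mul (mul x v) (inv x) = mul gz v := by
  decide +kernel

theorem central_low : ∀ w : M6, w.central = true → w.low = true ∧ w.bt = false := by decide +kernel

theorem z_mover : ∀ w : M6, w.central = false →
    ∃ g ∈ [gt, gP, gQ, gf], mul (mul g w) (inv g) = mul gz w := by decide +kernel

theorem f_high : ∀ w : M6, w.bf = true → w.sq1 = true →
    w = (w.bz, w.br, false, false, false, true) ∨ w = (w.bz, w.br, false, true, false, true) ∨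
    w = (w.bz, w.br, false, false, true, true) ∨ w = (w.bz, w.br, true, true, true, true) := by
  decide +kernel

end M6

theorem ev_low {G : Type*} [Group G] {z r t P Q f : G} {u : M6} (h : u.bf = false) :
    ev z r t P Q f u = ev z r t P Q 1 u := by
  simp [ev, h, bp]

variable {G : Type*} [Group G] [Finite G]

/-- The normalised data. -/
structure Frame (B : Base G) where
  ρ : G
  P' : G
  f : G
  wide : Bool
  six : Six B.z ρ B.t P' B.Q f
  inj : Function.Injective (ev B.z ρ B.t P' B.Q f)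
  range_S : ∀ x : G, x ∈ B.S ↔ ∃ u : M6, u.low = true ∧ ev B.z ρ B.t P' B.Q f u = x
  fN : f ∈ B.N
  clsLow : ∀ u : M6, u.low = true → (B.Cls (ev B.z ρ B.t P' B.Q f u) ↔ M6.inCl wide u = true)

variable {B : Base G}

theorem Pre.exists_frame (X : Pre B) :
    ∃ F : Frame B, F.ρ = X.ρ ∧ F.P' = X.P' ∧ F.wide = X.wide ∧
      (F.f = X.f ∨ F.f = X.f * B.t) := by
  have hlow : ∀ u : M6, u.low = true → u.bf = false := fun u h => by simpa [M6.low] using h
  obtain ⟨i, hi⟩ := X.f_sq_z
  have hz := Base.conj_z B X.fN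
  obtain ⟨g, hgf, hgN, hgg, hgt, hgr, hgP, hgQ⟩ : ∃ g, (g = X.f ∨ g = X.f * B.t) ∧ g ∈ B.N ∧
      g * g = 1 ∧ g * B.t * g⁻¹ = B.z * B.t ∧ g * X.ρ * g⁻¹ = X.ρ ∧
      g * X.P' * g⁻¹ = X.P' ∧ g * B.Q * g⁻¹ = B.Q := by
    cases i
    · exact ⟨X.f, Or.inl rfl, X.fN, by rw [hi]; exact X.E_one, X.f_t, X.f_ρ, X.f_P, X.f_Q⟩
    · refine ⟨X.f * B.t, Or.inr rfl, B.N.mul_mem X.fN (Base.S_le_N B (Base.t_mem B)), ?_, ?_, ?_,
        ?_, ?_⟩
      · have hE : X.E (true, false, false, false, false, false) = B.z := ev_gz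
        have hti : B.t⁻¹ = B.t := inv_eq_of_mul_eq_one_right B.five.tt
        have h1 : X.f * X.f = B.z := hi.trans hE
        have h2 : X.f * B.t = B.z * B.t * X.f := mul_inv_eq_iff_eq_mul.1 X.f_t
        calc X.f * B.t * (X.f * B.t) = B.z * B.t * X.f * (X.f * B.t) := by rw [← h2]
          _ = B.z * B.t * (X.f * X.f) * B.t := by group
          _ = B.z * (B.t * B.z) * B.t := by rw [h1]; group
          _ = B.z * B.z * (B.t * B.t) := by rw [B.five.tz]; group
          _ = 1 := by rw [B.five.zz, B.five.tt, mul_one]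
      · rw [show X.f * B.t * B.t * (X.f * B.t)⁻¹ = X.f * B.t * X.f⁻¹ by group]
        exact X.f_t
      · rw [show X.f * B.t * X.ρ * (X.f * B.t)⁻¹ = X.f * (B.t * X.ρ * B.t⁻¹) * X.f⁻¹ by group,
          X.five.ta, mul_inv_cancel_right, X.f_ρ]
      · rw [show X.f * B.t * X.P' * (X.f * B.t)⁻¹ = X.f * (B.t * X.P' * B.t⁻¹) * X.f⁻¹ by group,
          ← X.five.Pt, mul_inv_cancel_right, X.f_P]
      · rw [show X.f * B.t * B.Q * (X.f * B.t)⁻¹ = X.f * (B.t * B.Q * B.t⁻¹) * X.f⁻¹ by group,
          ← X.five.Qt, mul_inv_cancel_right, X.f_Q]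
  have s := X.five
  have six : Six B.z X.ρ B.t X.P' B.Q g :=
    { zz := s.zz, rr := s.aa, tt := s.tt, PP := s.PP, QQ := s.QQ, ff := hgg, rz := s.az, tz := s.tz
      Pz := s.Pz, Qz := s.Qz, fz := mul_inv_eq_iff_eq_mul.1 (Base.conj_z B hgN), tr := s.ta
      Pr := s.Pa, Qr := s.Qa, fr := mul_inv_eq_iff_eq_mul.1 hgr, Pt := s.Pt, Qt := s.Qt, QP := s.QP
      ft := by rw [← mul_assoc]; exact mul_inv_eq_iff_eq_mul.1 hgt
      fP := mul_inv_eq_iff_eq_mul.1 hgP, fQ := mul_inv_eq_iff_eq_mul.1 hgQ }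
  have hrange : ∀ x : G, x ∈ B.S ↔ ∃ u : M6, u.low = true ∧ ev B.z X.ρ B.t X.P' B.Q g u = x := by
    intro x
    rw [X.range_S]
    exact exists_congr fun u => and_congr_right fun hu => by rw [ev_low (f := g) (hlow u hu)]
  refine ⟨⟨X.ρ, X.P', g, X.wide, six, six.ev_injective (fun u hu h => ?_) (fun u hu h => ?_),
    hrange, hgN, fun u hu => ?_⟩, rfl, rfl, rfl, hgf⟩
  · exact X.inj u (by simp [M6.low, hu]) (by rwa [ev_low hu] at h)
  · exact Base.shift_not_mem B hgN hgt ((hrange g).2 ⟨u, by simp [M6.low, hu], h⟩)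
  · rw [ev_low (hlow u hu)]; exact X.clsLow u hu

namespace Frame

variable (F : Frame B)

/-- Evaluation. -/
def E (u : M6) : G := ev B.z F.ρ B.t F.P' B.Q F.f u

theorem E_mul (u v : M6) : F.E u * F.E v = F.E (u.mul v) := F.six.ev_mul u v
theorem E_one : F.E M6.one = 1 := ev_one
theorem E_gt : F.E M6.gt = B.t := ev_gt
theorem E_gz : F.E M6.gz = B.z := ev_gz
theorem E_gr : F.E M6.gr = F.ρ := ev_gr
theorem E_gf : F.E M6.gf = F.f := ev_gf

theorem E_inj {u v : M6} (h : F.E u = F.E v) : u = v := F.inj h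

theorem E_inv (u : M6) : (F.E u)⁻¹ = F.E u.inv :=
  inv_eq_of_mul_eq_one_right (by rw [E_mul, M6.mul_inv, E_one])

theorem E_conj (x v : M6) : F.E x * F.E v * (F.E x)⁻¹ = F.E (M6.mul (M6.mul x v) x.inv) := by
  rw [E_inv, E_mul, E_mul]

theorem E_comm (u v : M6) : F.E u * F.E v = F.E v * F.E u ↔ M6.comm u v = true :=
  F.six.comm_iff F.inj u v

/-- The subgroup of order 64. -/
def T0 : Subgroup G := F.six.range

theorem mem_T0 {x : G} : x ∈ F.T0 ↔ ∃ u, F.E u = x := F.six.mem_range

theorem E_mem (u : M6) : F.E u ∈ F.T0 := ⟨u, rfl⟩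

theorem card_T0 : Nat.card F.T0 = 64 := F.six.card_range F.inj

theorem S_le : B.S ≤ F.T0 := fun x hx => by
  obtain ⟨u, -, e⟩ := (F.range_S x).1 hx
  exact ⟨u, e⟩

theorem f_mem : F.f ∈ F.T0 := ⟨M6.gf, ev_gf⟩

theorem T0_le_N : F.T0 ≤ B.N := by
  have hS : ∀ u : M6, u.low = true → F.E u ∈ B.N := fun u hu =>
    Base.S_le_N B ((F.range_S _).2 ⟨u, hu, rfl⟩)
  have hf : F.E M6.gf ∈ B.N := by rw [E_gf]; exact F.fN
  rintro _ ⟨u, rfl⟩
  show F.E u ∈ B.N
  obtain ⟨v, hv, e⟩ := (show ∀ u : M6, ∃ v ∈ [M6.one, M6.gf], (M6.mul u v).low = true ∧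
      M6.mul (M6.mul u v) (M6.inv v) = u by decide +kernel) u
  rw [← e.2, ← E_mul, ← E_inv]
  refine B.N.mul_mem (hS _ e.1) (B.N.inv_mem ?_)
  revert hv
  simp only [List.mem_cons, List.not_mem_nil, or_false]
  rintro (rfl | rfl)
  · rw [E_one]; exact one_mem _
  · exact hf

theorem f_t : F.f * B.t * F.f⁻¹ = B.z * B.t := by
  rw [← E_gf, ← E_gt F, E_conj, ← E_gz F, E_mul]
  rfl

/-- Membership in `T0` inside the normaliser of `S`. -/
theorem T0_of {n : G} (hn : n ∈ B.N)
    (h : n * B.t * n⁻¹ = B.t ∨ n * B.t * n⁻¹ = B.z * B.t) : n ∈ F.T0 := by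
  rcases h with h | h
  · exact F.S_le (Base.N_fix_t B hn h)
  · have h2 : F.f⁻¹ * n ∈ F.T0 := by
      refine F.S_le (Base.N_fix_t B (B.N.mul_mem (B.N.inv_mem F.fN) hn) ?_)
      calc F.f⁻¹ * n * B.t * (F.f⁻¹ * n)⁻¹ = F.f⁻¹ * (n * B.t * n⁻¹) * F.f := by group
        _ = B.t := by rw [h, ← F.f_t]; group
    have := F.T0.mul_mem F.f_mem h2
    rwa [mul_inv_cancel_left] at this

theorem ncard_image (p : M6 → Bool) :
    (F.E '' {u | p u = true}).ncard = M6.allM.countP p := by
  rw [Set.ncard_image_of_injective _ (fun u v h => F.E_inj h)]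
  have : {u : M6 | p u = true} = ↑(M6.allM.filter p).toFinset := by
    ext u; simp [M6.mem_allM]
  rw [this, Set.ncard_coe_finset, List.toFinset_card_of_nodup (M6.allM_nodup.filter _),
    List.countP_eq_length_filter]

theorem not_central {w : M6} (hw : B.Cls (F.E w)) : w.central = false := by
  cases h : w.central
  · rfl
  · obtain ⟨h1, h2⟩ := M6.central_low w h
    have := (F.clsLow w h1).1 hw
    simp [M6.inCl, h2] at this

/-- Every class element in `T0` comes from `t` by an element normalising `T0` and fixing `z`. -/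
theorem exists_move {w : M6} (hw : B.Cls (F.E w)) :
    ∃ n : G, n * B.t * n⁻¹ = F.E w ∧ n * B.z * n⁻¹ = B.z ∧
      n ∈ normalizer (F.T0 : Set G) := by
  set U := F.T0 ⊓ centralizer ({F.E w} : Set G) with hU
  have hset : (U : Set G) = F.E '' {v | M6.comm w v = true} := by
    ext x
    constructor
    · rintro ⟨hx, hc⟩
      obtain ⟨v, rfl⟩ := F.mem_T0.1 hx
      exact ⟨v, (F.E_comm w v).1 (mem_centralizer_singleton_iff.1 hc).symm, rfl⟩
    · rintro ⟨v, hv, rfl⟩
      exact ⟨F.E_mem v, mem_centralizer_singleton_iff.2 ((F.E_comm w v).2 hv).symm⟩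
  have hcard : Nat.card U = 32 := by
    rw [show Nat.card U = (U : Set G).ncard from Nat.card_coe_set_eq _, hset, F.ncard_image,
      M6.noncentral_cnt w (F.not_central hw)]
  obtain ⟨n, hnt, hnS⟩ := Base.exists_norm B hw hcard
    (fun x hx => mem_centralizer_singleton_iff.1 hx.2)
  have hnz : n * B.z * n⁻¹ = B.z := by
    have hz : B.z = B.P * B.Q * (B.P * B.Q) := by
      rw [← Base.E_gz B, ← Base.E_gP B, ← Base.E_gQ B, Base.E_mul B rfl rfl, Base.E_mul B rfl rfl]
      rfl
    obtain ⟨v, hv⟩ := F.mem_T0.1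
      ((hnS _).1 (B.S.mul_mem (Base.P_mem B) (Base.Q_mem B))).1
    have e : F.E (v.mul v) = n * B.z * n⁻¹ := by rw [← E_mul, hv, hz]; group
    rcases M6.sq_all v with h | h
    · rw [h, E_one] at e
      exact absurd (conj_eq_one_iff.1 e.symm) (Base.z_ne_one B)
    · rw [h, E_gz] at e
      exact e.symm
  refine ⟨n, hnt, hnz, ?_⟩
  suffices h : n⁻¹ ∈ normalizer (F.T0 : Set G) by
    simpa using (normalizer (F.T0 : Set G)).inv_mem h
  refine mem_normalizer_fintype ?_
  intro x hx
  rw [SetLike.mem_coe] at hx ⊢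
  obtain ⟨xv, rfl⟩ := F.mem_T0.1 hx
  have hpres : ∀ y ∈ U, F.E xv * y * (F.E xv)⁻¹ ∈ U := by
    intro y hy
    have hy' : y ∈ (U : Set G) := hy
    rw [hset] at hy'
    obtain ⟨v, hv, rfl⟩ := hy'
    show F.E xv * F.E v * (F.E xv)⁻¹ ∈ (U : Set G)
    rw [hset, E_conj]
    refine ⟨_, ?_, rfl⟩
    rcases M6.conj_all xv v with h | h
    · rw [h]; exact hv
    · rw [h]
      have hzv : F.E w * F.E (M6.mul M6.gz v) = F.E (M6.mul M6.gz v) * F.E w := by
        rw [← E_mul, E_gz]
        have h1 : F.E w * B.z = B.z * F.E w := by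
          rw [← E_gz F, E_comm]
          exact (show ∀ w : M6, M6.comm w M6.gz = true by decide +kernel) w
        rw [← mul_assoc, h1, mul_assoc, (F.E_comm w v).2 hv, mul_assoc]
      exact (F.E_comm _ _).1 hzv
  have hN : n⁻¹ * F.E xv * n ∈ B.N := by
    have hU' : F.E xv ∈ normalizer (U : Set G) := mem_normalizer_fintype hpres
    refine (Base.mem_N B).2 fun y => ?_
    rw [hnS, hnS, mem_normalizer_iff.1 hU' (n * y * n⁻¹),
      show n * (n⁻¹ * F.E xv * n * y * (n⁻¹ * F.E xv * n)⁻¹) * n⁻¹ =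
        F.E xv * (n * y * n⁻¹) * (F.E xv)⁻¹ by group]
  rw [inv_inv]
  refine F.T0_of hN ?_
  have e : n⁻¹ * F.E xv * n * B.t * (n⁻¹ * F.E xv * n)⁻¹ =
      n⁻¹ * (F.E xv * F.E w * (F.E xv)⁻¹) * n := by rw [← hnt]; group
  rw [e, E_conj]
  rcases M6.conj_all xv w with h | h
  · left; rw [h, ← hnt]; group
  · right
    rw [h, ← E_mul, E_gz, ← hnt]
    conv_lhs => rw [← hnz]
    group

theorem cls_z {w : M6} : B.Cls (F.E (M6.mul M6.gz w)) ↔ B.Cls (F.E w) := by
  have key : ∀ w : M6, B.Cls (F.E w) → B.Cls (F.E (M6.mul M6.gz w)) := by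
    intro w hw
    obtain ⟨g, -, hg⟩ := M6.z_mover w (F.not_central hw)
    rw [← hg, ← E_conj]
    exact Base.Cls_conj B hw _
  refine ⟨fun h => ?_, key w⟩
  have := key _ h
  rwa [(show ∀ w : M6, M6.mul M6.gz (M6.mul M6.gz w) = w by decide +kernel) w] at this

theorem cls_r {w : M6} (hw : B.Cls (F.E w)) :
    B.Cls (F.E (M6.mul M6.gr w)) ↔ F.wide = true := by
  obtain ⟨n, hnt, hnz, hn⟩ := F.exists_move hw
  obtain ⟨v, hv⟩ := F.mem_T0.1 ((mem_normalizer_iff.1 hn (n⁻¹ * F.ρ * n)).2 (by
    rw [show n * (n⁻¹ * F.ρ * n) * n⁻¹ = F.ρ by group, ← E_gr F]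
    exact F.E_mem _) : n⁻¹ * F.ρ * n ∈ F.T0)
  have hcomm : ∀ u : M6, M6.comm v u = true := by
    intro u
    rw [← E_comm F, hv]
    obtain ⟨u', hu'⟩ := F.mem_T0.1 ((mem_normalizer_iff.1 hn (F.E u)).1 (F.E_mem u))
    have h : F.ρ * F.E u' = F.E u' * F.ρ := by
      rw [← E_gr F, E_comm]
      exact (show ∀ u : M6, M6.comm M6.gr u = true by decide +kernel) u'
    rw [hu'] at h
    calc n⁻¹ * F.ρ * n * F.E u = n⁻¹ * (F.ρ * (n * F.E u * n⁻¹)) * n := by group
      _ = n⁻¹ * (n * F.E u * n⁻¹ * F.ρ) * n := by rw [h]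
      _ = F.E u * (n⁻¹ * F.ρ * n) := by group
  have hne : v ≠ M6.one ∧ v ≠ M6.gz := by
    constructor <;> rintro rfl
    · rw [E_one] at hv
      have h : F.ρ = 1 := by
        calc F.ρ = n * (n⁻¹ * F.ρ * n) * n⁻¹ := by group
          _ = 1 := by rw [← hv]; group
      rw [← E_gr F, ← E_one F] at h
      exact absurd (F.E_inj h) (by decide)
    · rw [E_gz] at hv
      have h : F.ρ = B.z := by
        calc F.ρ = n * (n⁻¹ * F.ρ * n) * n⁻¹ := by group
          _ = B.z := by rw [← hv]; exact hnz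
      rw [← E_gr F, ← E_gz F] at h
      exact absurd (F.E_inj h) (by decide)
  have hv' : v = M6.gr ∨ v = M6.mul M6.gz M6.gr :=
    (show ∀ v : M6, M6.comm v M6.gt = true → M6.comm v M6.gP = true → M6.comm v M6.gQ = true →
      M6.comm v M6.gf = true → v ≠ M6.one → v ≠ M6.gz → v = M6.gr ∨ v = M6.mul M6.gz M6.gr by
      decide +kernel) v (hcomm _) (hcomm _) (hcomm _) (hcomm _) hne.1 hne.2
  have e : F.E (M6.mul M6.gr w) = n * F.E (M6.mul v M6.gt) * n⁻¹ := by
    rw [← E_mul, ← E_mul, hv, E_gr, E_gt, ← hnt]; group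
  rw [e, Base.Cls_conj_iff]
  rcases hv' with rfl | rfl
  · refine (F.clsLow _ rfl).trans ?_
    exact (show ∀ b : Bool, M6.inCl b (M6.mul M6.gr M6.gt) = true ↔ b = true by decide +kernel) _
  · refine (F.clsLow _ rfl).trans ?_
    exact (show ∀ b : Bool, M6.inCl b (M6.mul (M6.mul M6.gz M6.gr) M6.gt) = true ↔ b = true by
      decide +kernel) _

open scoped Classical in
/-- The class elements of `T0` form one of the admissible configurations. -/
theorem classify : ∃ c : Cfg, M6.good F.wide c = true ∧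
    ∀ w : M6, B.Cls (F.E w) ↔ M6.clB F.wide c w = true := by
  set c : Cfg := ((decide (B.Cls (F.E (false, false, false, false, false, true))),
      decide (B.Cls (F.E (false, false, false, true, false, true))),
      decide (B.Cls (F.E (false, false, false, false, true, true))),
      decide (B.Cls (F.E (false, false, true, true, true, true)))),
    (decide (B.Cls (F.E (false, true, false, false, false, true))),
      decide (B.Cls (F.E (false, true, false, true, false, true))),
      decide (B.Cls (F.E (false, true, false, false, true, true))),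
      decide (B.Cls (F.E (false, true, true, true, true, true))))) with hc
  have hiff : ∀ w : M6, B.Cls (F.E w) ↔ M6.clB F.wide c w = true := by
    intro w
    cases hf : w.bf
    · have hl : w.low = true := by simp [M6.low, hf]
      refine (F.clsLow w hl).trans ?_
      simp [M6.clB, hf]
    · have hz : ∀ a b d e g : Bool, B.Cls (F.E (a, b, d, e, g, true)) ↔
          B.Cls (F.E (false, b, d, e, g, true)) := by
        intro a b d e g
        cases a
        · exact Iff.rfl
        · have := F.cls_z (w := (false, b, d, e, g, true))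
          rw [(show ∀ b d e g : Bool, M6.mul M6.gz (false, b, d, e, g, true) =
            (true, b, d, e, g, true) by decide +kernel) b d e g] at this
          exact this
      constructor
      · intro h
        have hs : w.sq1 = true := by
          have := Base.Cls_sq B h
          rw [E_mul, ← E_one F] at this
          exact decide_eq_true (F.E_inj this)
        obtain ⟨a, b, d, e, g, k⟩ := w
        simp only [M6.bf] at hf
        subst hf
        rw [hz] at h
        rcases M6.f_high _ rfl hs with e' | e' | e' | e' <;>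
          simp only [M6.bz, M6.br, Prod.mk.injEq, and_true, true_and] at e' <;>
          obtain ⟨rfl, rfl, rfl⟩ := e' <;> cases b <;>
          simp only [M6.clB, M6.bf, M6.br, M6.pick, M6.bt, M6.bP, M6.bQ, hc, if_true,
            Bool.false_eq_true, if_false, decide_eq_true_eq] <;> exact h
      · intro h
        obtain ⟨a, b, d, e, g, k⟩ := w
        simp only [M6.bf] at hf
        subst hf
        rw [hz]
        cases b <;> cases d <;> cases e <;> cases g <;>
          simp only [M6.clB, M6.bf, M6.br, M6.pick, M6.bt, M6.bP, M6.bQ, hc, if_true,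
            Bool.false_eq_true, if_false, decide_eq_true_eq] at h <;> exact h
  refine ⟨c, ?_, hiff⟩
  rw [M6.good, Bool.and_eq_true]
  refine ⟨?_, List.all_eq_true.2 fun w _ => ?_⟩
  · have hr : ∀ d e g : Bool, B.Cls (F.E (false, false, d, e, g, true)) →
        (B.Cls (F.E (false, true, d, e, g, true)) ↔ F.wide = true) := by
      intro d e g h
      have := F.cls_r h
      rwa [(show ∀ d e g : Bool, M6.mul M6.gr (false, false, d, e, g, true) =
        (false, true, d, e, g, true) by decide +kernel) d e g] at this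
    have hr' : ∀ d e g : Bool, B.Cls (F.E (false, true, d, e, g, true)) →
        (B.Cls (F.E (false, false, d, e, g, true)) ↔ F.wide = true) := by
      intro d e g h
      have := F.cls_r h
      rwa [(show ∀ d e g : Bool, M6.mul M6.gr (false, true, d, e, g, true) =
        (false, false, d, e, g, true) by decide +kernel) d e g] at this
    cases hw : F.wide
    · simp only [M6.rule, Bool.false_eq_true, if_false, Bool.and_eq_true, Bool.not_eq_true',
        Bool.and_eq_false_iff, hc, decide_eq_false_iff_not]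
      simp only [hw, Bool.false_eq_true, iff_false] at hr
      exact ⟨⟨⟨(em' _).imp_right (hr _ _ _), (em' _).imp_right (hr _ _ _)⟩,
        (em' _).imp_right (hr _ _ _)⟩, (em' _).imp_right (hr _ _ _)⟩
    · simp only [hw, iff_true] at hr hr'
      simp only [M6.rule, if_true, decide_eq_true_eq, hc, Prod.mk.injEq]
      refine ⟨?_, ?_, ?_, ?_⟩ <;> exact decide_eq_decide.2 ⟨hr _ _ _, hr' _ _ _⟩
  · rw [Bool.or_eq_true]
    cases hcl : M6.clB F.wide c w
    · exact Or.inl rfl
    refine Or.inr (beq_iff_eq.2 ?_)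
    have hw := (hiff w).2 hcl
    obtain ⟨n, hnt, hnz, hn⟩ := F.exists_move hw
    have e1 : F.E '' {v | (M6.clB F.wide c v && M6.comm w v) = true} =
        {x | x ∈ F.T0 ∧ B.Cls x ∧ x * F.E w = F.E w * x} := by
      ext x
      constructor
      · rintro ⟨v, hv, rfl⟩
        simp only [Set.mem_ofPred_eq, Bool.and_eq_true] at hv
        exact ⟨F.E_mem v, (hiff v).2 hv.1, ((F.E_comm w v).2 hv.2).symm⟩
      · rintro ⟨hx, hc', hx'⟩
        obtain ⟨v, rfl⟩ := F.mem_T0.1 hx
        refine ⟨v, ?_, rfl⟩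
        show (M6.clB F.wide c v && M6.comm w v) = true
        rw [(hiff v).1 hc', (F.E_comm w v).1 hx'.symm]; rfl
    have e2 : F.E '' {v | (!v.bf && M6.inCl F.wide v) = true} =
        {x | x ∈ F.T0 ∧ B.Cls x ∧ x * B.t = B.t * x} := by
      ext x
      constructor
      · rintro ⟨v, hv, rfl⟩
        simp only [Set.mem_ofPred_eq, Bool.and_eq_true] at hv
        exact ⟨F.E_mem v, (F.clsLow v hv.1).2 hv.2,
          Base.S_comm_t B ((F.range_S _).2 ⟨v, hv.1, rfl⟩)⟩
      · rintro ⟨hx, hc', hx'⟩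
        obtain ⟨v, rfl⟩ := F.mem_T0.1 hx
        rw [← E_gt F, E_comm] at hx'
        have hl : v.low = true := (show ∀ v : M6, M6.comm v M6.gt = true → v.low = true by
          decide +kernel) v hx'
        refine ⟨v, ?_, rfl⟩
        show (v.low && M6.inCl F.wide v) = true
        rw [hl, (F.clsLow v hl).1 hc']; rfl
    have hmap : (fun x => n * x * n⁻¹) '' {x | x ∈ F.T0 ∧ B.Cls x ∧ x * B.t = B.t * x} =
        {x | x ∈ F.T0 ∧ B.Cls x ∧ x * F.E w = F.E w * x} := by
      ext y
      constructor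
      · rintro ⟨x, ⟨hx, hc', hx'⟩, rfl⟩
        refine ⟨(mem_normalizer_iff.1 hn x).1 hx, Base.Cls_conj B hc' n, ?_⟩
        rw [← hnt]
        calc n * x * n⁻¹ * (n * B.t * n⁻¹) = n * (x * B.t) * n⁻¹ := by group
          _ = n * (B.t * x) * n⁻¹ := by rw [hx']
          _ = n * B.t * n⁻¹ * (n * x * n⁻¹) := by group
      · rintro ⟨hy, hc', hy'⟩
        have e : n * (n⁻¹ * y * n) * n⁻¹ = y := by group
        refine ⟨n⁻¹ * y * n, ⟨(mem_normalizer_iff.1 hn _).2 (e.symm ▸ hy),
          (Base.Cls_conj_iff B (n := n)).1 (e.symm ▸ hc'), ?_⟩, e⟩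
        rw [← hnt] at hy'
        calc n⁻¹ * y * n * B.t = n⁻¹ * (y * (n * B.t * n⁻¹)) * n := by group
          _ = n⁻¹ * (n * B.t * n⁻¹ * y) * n := by rw [hy']
          _ = B.t * (n⁻¹ * y * n) := by group
    have := congrArg Set.ncard hmap
    rw [Set.ncard_image_of_injective _ (fun x y h => mul_left_cancel (mul_right_cancel h)), ← e1,
      ← e2, F.ncard_image, F.ncard_image, (M6.cnt_low F.wide).1] at this
    exact this.symm

end Frame

end Cfsg.Agent.Block.STwoSix
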