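import Cfsg.Agent.Lib.Block.STwoSix.ThreeMain

/-!
The three-element shape of the orbit of `t` is impossible.
-/

set_option autoImplicit false
set_option linter.unusedSectionVars false
set_option synthInstance.maxSize 4096
set_option synthInstance.maxHeartbeats 400000
set_option maxRecDepth 8000

namespace Cfsg.Agent.Block.STwoSix

open Subgroup

namespace M6

/-- The triple of the `P`-side. -/
def eP : Fin 3 → M6 := ![gP, mul gP gz, gr]
/-- The triple of the `Q`-side. -/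
def eQ : Fin 3 → M6 := ![grz, mul gr gQ, mul (mul gr gQ) gz]

/-- The seven points of a triple. -/
def pts7 (e : Fin 3 → M6) (o : Option (Fin 3 × Bool)) : M6 :=
  o.elim gt fun q => if q.2 then mul gt (e q.1) else e q.1

end M6

variable {G : Type*} [Group G] [Finite G] (B : Base G)

namespace Base

theorem C_fix_t {x : G} (h : x * B.t * x⁻¹ = B.t) : x * B.t = B.t * x := mul_inv_eq_iff_eq_mul.1 h

/-- Moving along the orbit of `t` in the centre. -/
theorem three_cycle {n : G} (hn : n ∈ B.N) {v w : M6} (hv : v.inZ = true) (hw : w.inZ = true)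
    (hvw : v ≠ w) (hvt : v ≠ M6.gt) (hwt : w ≠ M6.gt) (hcw : B.Cls (B.E w))
    (hO : ∀ u : M6, u.inZ = true → B.Cls (B.E u) → u = M6.gt ∨ u = v ∨ u = w)
    (he : n * B.t * n⁻¹ = B.E v) :
    n * n * B.t * (n * n)⁻¹ = B.E w ∧ n * n * B.E w * (n * n)⁻¹ = B.E v ∧
      n * n * B.E v * (n * n)⁻¹ = B.t := by
  have hcv : B.Cls (B.E v) := he ▸ Cls_conj B (Cls_t B) n
  have step : ∀ u : M6, u.inZ = true → B.Cls (B.E u) → n * B.E u * n⁻¹ = B.E M6.gt ∨
      n * B.E u * n⁻¹ = B.E v ∨ n * B.E u * n⁻¹ = B.E w := by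
    intro u hu hc
    obtain ⟨u', hu', e'⟩ := N_conj_Z B hn hu
    rw [e']
    rcases hO u' hu' (e' ▸ Cls_conj B hc n) with rfl | rfl | rfl
    · exact Or.inl rfl
    · exact Or.inr (Or.inl rfl)
    · exact Or.inr (Or.inr rfl)
  have inj : ∀ x y : G, n * x * n⁻¹ = n * y * n⁻¹ → x = y := fun x y h =>
    mul_left_cancel (mul_right_cancel h)
  have neq : ∀ a b : M6, a.inZ = true → b.inZ = true → a ≠ b → B.E a ≠ B.E b := fun a b ha hb h e =>
    h (E_inj B (M6.inZ_low _ ha) (M6.inZ_low _ hb) e)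
  have h1 : n * B.E v * n⁻¹ = B.E w := by
    rcases step v hv hcv with h | h | h
    · exfalso
      -- then `w` is fixed
      have h2 : n * B.E w * n⁻¹ = B.E w := by
        rcases step w hw hcw with h' | h' | h'
        · exact absurd (inj _ _ (h.trans h'.symm)) (neq _ _ hv hw hvw)
        · refine absurd (inj _ _ (?_ : n * B.E M6.gt * n⁻¹ = n * B.E w * n⁻¹))
            (neq _ _ rfl hw hwt.symm)
          rw [E_gt, he, h']
        · exact h'
      obtain ⟨m, hm, hmw⟩ := exists_N_of_class B hw hcw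
      have h3 : m⁻¹ * n * m * B.t * (m⁻¹ * n * m)⁻¹ = B.t := by
        calc m⁻¹ * n * m * B.t * (m⁻¹ * n * m)⁻¹ = m⁻¹ * (n * (m * B.t * m⁻¹) * n⁻¹) * m := by group
          _ = B.t := by rw [hmw, h2, ← hmw]; group
      have h4 := N_fix_t B (B.N.mul_mem (B.N.mul_mem (B.N.inv_mem hm) hn) hm) h3
      have h5 := conj_S B hm h4
      rw [show m * (m⁻¹ * n * m) * m⁻¹ = n by group] at h5
      have h6 := S_comm_t B h5
      rw [h6, mul_inv_cancel_right, ← E_gt B] at he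
      exact neq _ _ rfl hv hvt.symm he
    · refine absurd (inj _ _ (?_ : n * B.E M6.gt * n⁻¹ = n * B.E v * n⁻¹))
        (neq _ _ rfl hv hvt.symm)
      rw [E_gt, he, h]
    · exact h
  have h2 : n * B.E w * n⁻¹ = B.E M6.gt := by
    rcases step w hw hcw with h | h | h
    · exact h
    · refine absurd (inj _ _ (?_ : n * B.E M6.gt * n⁻¹ = n * B.E w * n⁻¹))
        (neq _ _ rfl hw hwt.symm)
      rw [E_gt, he, h]
    · exact absurd (inj _ _ (h1.trans h.symm)) (neq _ _ hv hw hvw)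
  refine ⟨?_, ?_, ?_⟩
  · rw [show n * n * B.t * (n * n)⁻¹ = n * (n * B.t * n⁻¹) * n⁻¹ by group, he, h1]
  · rw [show n * n * B.E w * (n * n)⁻¹ = n * (n * B.E w * n⁻¹) * n⁻¹ by group, h2, E_gt, he]
  · rw [show n * n * B.E v * (n * n)⁻¹ = n * (n * B.E v * n⁻¹) * n⁻¹ by group, h1, h2, E_gt]

theorem Cls_list {u : M6} (hu : u.low = true) (hs : u.sq1 = true) {v w : M6}
    (hO : ∀ u : M6, u.inZ = true → B.Cls (B.E u) → u = M6.gt ∨ u = v ∨ u = w)
    (hz : u.can.inZ = true) :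
    B.Cls (B.E u) → u.can = M6.gt ∨ u.can = v ∨ u.can = w :=
  fun h => hO _ hz ((Cls_can B hu hs).1 h)

/-- Five points in `A1`. -/
theorem five_case {v w : M6} {n : G} (hn : n ∈ B.N)
    (hg : n * n * B.t * (n * n)⁻¹ = B.E w ∧ n * n * B.E w * (n * n)⁻¹ = B.E v ∧
      n * n * B.E v * (n * n)⁻¹ = B.t)
    (hO : ∀ u : M6, u.inZ = true → B.Cls (B.E u) → u = M6.gt ∨ u = v ∨ u = w)
    (L : Fin 5 → M6) (hL0 : L 0 = M6.gt)
    (hL : ∀ i, (L i).selP = true ∧ (L i).sq1 = true)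
    (hLinj : Function.Injective L)
    (hLmem : ∀ u : M6, u.selP = true → u.sq1 = true →
      (u.can = M6.gt ∨ u.can = v ∨ u.can = w) → ∃ i, u = L i)
    (huniq : ∀ i, (L i).can = (L 1).can → i = 1)
    (hcyc : ∀ i : Fin 5, M6.endo (M6.mul (M6.mul M6.gP M6.gz) M6.gr) M6.gP M6.gt
      (M6.mul M6.gP M6.gz) M6.one M6.one (L i) = L (![0, 1, 3, 4, 2] i))
    (hvw : (w = L 1 ∧ v = L 4) ∨ (w = L 4 ∧ v = L 1)) : False := by
  have hlow : ∀ i, (L i).low = true := fun i => selP_low _ (hL i).1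
  have hE0 : B.E (L 0) = B.t := by rw [hL0, E_gt]
  set M := normalizer (B.A1 : Set G)
  have hgM := (sq_mem_normalizer B hn).1
  have hcM := c_mem_normalizer B
  have hreach : ∀ i, ∃ m ∈ M, m * B.E (L 0) * m⁻¹ = B.E (L i) := by
    have h1 : ∃ m ∈ M, m * B.t * m⁻¹ = B.E w := ⟨_, hgM, hg.1⟩
    have h2 : ∃ m ∈ M, m * B.t * m⁻¹ = B.E v := ⟨_, M.mul_mem hgM hgM, by
      rw [show n * n * (n * n) * B.t * (n * n * (n * n))⁻¹ =
        n * n * (n * n * B.t * (n * n)⁻¹) * (n * n)⁻¹ by group, hg.1, hg.2.1]⟩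
    obtain ⟨h1', h4⟩ : (∃ m ∈ M, m * B.t * m⁻¹ = B.E (L 1)) ∧
        ∃ m ∈ M, m * B.t * m⁻¹ = B.E (L 4) := by
      rcases hvw with ⟨rfl, rfl⟩ | ⟨rfl, rfl⟩
      · exact ⟨h1, h2⟩
      · exact ⟨h2, h1⟩
    have hc : ∀ i, (∃ m ∈ M, m * B.t * m⁻¹ = B.E (L i)) →
        ∃ m ∈ M, m * B.t * m⁻¹ = B.E (L (![0, 1, 3, 4, 2] i)) := by
      rintro i ⟨m, hm, e⟩
      refine ⟨B.c * m, M.mul_mem hcM hm, ?_⟩
      rw [show B.c * m * B.t * (B.c * m)⁻¹ = B.c * (m * B.t * m⁻¹) * B.c⁻¹ by group, e,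
        c_E B (hL i).1, hcyc]
    have h2' := hc 4 h4
    intro i
    rw [hE0]
    fin_cases i
    · exact ⟨1, M.one_mem, by simp [hE0]⟩
    · exact h1'
    · exact h2'
    · exact hc 2 h2'
    · exact h4
  refine five_false M (fun i => B.E (L i))
    (fun i j h => hLinj (E_inj B (hlow i) (hlow j) h)) ?_ hreach ?_ ?_
  · intro m hm i
    have hA : m * B.E (L i) * m⁻¹ ∈ B.A1 :=
      (mem_normalizer_iff.1 hm (B.E (L i))).1 ⟨_, (hL i).1, rfl⟩
    obtain ⟨u, hu, e⟩ := hA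
    have hcls : B.Cls (B.E u) := by
      rw [e]
      refine Cls_conj B ?_ m
      obtain ⟨k, -, hk⟩ := hreach i
      rw [← hk, hE0]
      exact Cls_conj B (Cls_t B) k
    have hs := sq1_of_Cls B (selP_low u hu) hcls
    obtain ⟨j, hj⟩ := hLmem u hu hs (Cls_list B (selP_low u hu) hs hO
      ((show ∀ u : M6, u.selP = true → u.sq1 = true → u.can.inZ = true by decide +kernel) u hu hs)
      hcls)
    exact ⟨j, by rw [← e, hj]⟩
  · intro m hm h0
    simp only [hE0] at h0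
    have hA : m * B.E (L 1) * m⁻¹ ∈ B.A1 :=
      (mem_normalizer_iff.1 hm (B.E (L 1))).1 ⟨_, (hL 1).1, rfl⟩
    obtain ⟨u, hu, e⟩ := hA
    have hcls : B.Cls (B.E u) := by
      rw [e]
      refine Cls_conj B ?_ m
      obtain ⟨k, -, hk⟩ := hreach 1
      rw [← hk, hE0]
      exact Cls_conj B (Cls_t B) k
    have hs := sq1_of_Cls B (selP_low u hu) hcls
    obtain ⟨j, rfl⟩ := hLmem u hu hs (Cls_list B (selP_low u hu) hs hO
      ((show ∀ u : M6, u.selP = true → u.sq1 = true → u.can.inZ = true by decide +kernel) u hu hs)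
      hcls)
    have := B.can_eq _ _ (hlow 1) (hlow j) (hL 1).2 (hL j).2 m (C_fix_t B h0) e.symm
    rw [huniq j this.symm] at e
    exact e.symm
  · intro i h
    have h' := h B.c hcM (by simp only [hE0]; exact c_t B)
    simp only [c_E B (hL i).1, hcyc] at h'
    have := hLinj (E_inj B (hlow _) (hlow _) h')
    revert this
    fin_cases i <;> decide

/-- Seven points in one of the two subgroups. -/
theorem seven_case {v w : M6} {n : G} (hn : n ∈ B.N)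
    (hg : n * n * B.t * (n * n)⁻¹ = B.E w ∧ n * n * B.E w * (n * n)⁻¹ = B.E v ∧
      n * n * B.E v * (n * n)⁻¹ = B.t)
    (hwt : B.E w ≠ B.t)
    (hO : ∀ u : M6, u.inZ = true → B.Cls (B.E u) → u = M6.gt ∨ u = v ∨ u = w)
    (A : Subgroup G) (sel : M6 → Bool) (hA : ∀ x, x ∈ A ↔ ∃ u : M6, sel u = true ∧ B.E u = x)
    (e : Fin 3 → M6) (hsel : ∀ o, sel (M6.pts7 e o) = true ∧ (M6.pts7 e o).sq1 = true)
    (hsellow : ∀ u, sel u = true → u.low = true)
    (hselcan : ∀ u : M6, sel u = true → u.sq1 = true → u.can.inZ = true)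
    (hinj : Function.Injective (M6.pts7 e))
    (hmem : ∀ u : M6, sel u = true → u.sq1 = true →
      (u.can = M6.gt ∨ u.can = v ∨ u.can = w) → ∃ o, u = M6.pts7 e o)
    (huniq : ∀ i o, (M6.pts7 e o).can = (e i).can → ∃ j, o = some (j, false))
    {cc : G} (hcA : cc ∈ normalizer (A : Set G)) (hct : cc * B.t * cc⁻¹ = B.t)
    (hcyc : ∀ i, cc * B.E (e i) * cc⁻¹ = B.E (e (i + 1)))
    (hgA : n * n ∈ normalizer (A : Set G))
    (hvw : ∃ i b, w = M6.pts7 e (some (i, b)) ∧ v = M6.pts7 e (some (i, !b)))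
    {sv : M6} (hsv : sv.low = true) (hsA : B.E sv ∈ normalizer (A : Set G))
    (hssq : sv.sq1 = true) (hsmove : ∃ i, M6.comm sv (e i) = false)
    (hgs : ∃ ζ : M6, ζ.inZ = true ∧
      n * n * B.E sv * (n * n)⁻¹ = B.E sv * B.E ζ) : False := by
  set M := normalizer (A : Set G)
  have hlow : ∀ o, (M6.pts7 e o).low = true := fun o => hsellow _ (hsel o).1
  have helow : ∀ i, (e i).low = true := fun i => hlow (some (i, false))
  have hp : ∀ o : Option (Fin 3 × Bool), B.E (M6.pts7 e o) =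
      o.elim B.t fun q => if q.2 then B.t * B.E (e q.1) else B.E (e q.1) := by
    rintro (_ | ⟨i, b⟩)
    · exact E_gt B
    · cases b
      · rfl
      · show B.E (M6.mul M6.gt (e i)) = B.t * B.E (e i)
        rw [← E_mul B rfl (helow i), E_gt]
  have hreach : ∀ o, ∃ m ∈ M, m * B.t * m⁻¹ = B.E (M6.pts7 e o) := by
    have hc : ∀ i b, (∃ m ∈ M, m * B.t * m⁻¹ = B.E (M6.pts7 e (some (i, b)))) →
        ∃ m ∈ M, m * B.t * m⁻¹ = B.E (M6.pts7 e (some (i + 1, b))) := by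
      rintro i b ⟨m, hm, he⟩
      refine ⟨cc * m, M.mul_mem hcA hm, ?_⟩
      rw [show cc * m * B.t * (cc * m)⁻¹ = cc * (m * B.t * m⁻¹) * cc⁻¹ by group, he, hp, hp]
      cases b
      · exact hcyc i
      · show cc * (B.t * B.E (e i)) * cc⁻¹ = B.t * B.E (e (i + 1))
        rw [← hcyc i]
        conv_rhs => rw [← hct]
        group
    obtain ⟨i, b, hw, hv⟩ := hvw
    have h1 : ∃ m ∈ M, m * B.t * m⁻¹ = B.E (M6.pts7 e (some (i, b))) := ⟨_, hgA, hw ▸ hg.1⟩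
    have h2 : ∃ m ∈ M, m * B.t * m⁻¹ = B.E (M6.pts7 e (some (i, !b))) :=
      ⟨_, M.mul_mem hgA hgA, by
      rw [← hv, show n * n * (n * n) * B.t * (n * n * (n * n))⁻¹ =
        n * n * (n * n * B.t * (n * n)⁻¹) * (n * n)⁻¹ by group, hg.1, hg.2.1]⟩
    intro o
    rcases o with _ | ⟨j, c⟩
    · exact ⟨1, M.one_mem, by simp [hp]⟩
    · have hk : ∀ c, (∃ m ∈ M, m * B.t * m⁻¹ = B.E (M6.pts7 e (some (i, c)))) →
          ∃ m ∈ M, m * B.t * m⁻¹ = B.E (M6.pts7 e (some (j, c))) := by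
        intro c h
        rcases (show ∀ i j : Fin 3, j = i ∨ j = i + 1 ∨ j = i + 1 + 1 by decide) i j with
          rfl | rfl | rfl
        · exact h
        · exact hc _ _ h
        · exact hc _ _ (hc _ _ h)
      refine hk c ?_
      cases b <;> cases c <;> first | exact h1 | exact h2
  have hinvO : ∀ m ∈ M, ∀ o, ∃ o', m * B.E (M6.pts7 e o) * m⁻¹ = B.E (M6.pts7 e o') := by
    intro m hm o
    obtain ⟨u, hu, he⟩ := (hA _).1 ((mem_normalizer_iff.1 hm (B.E (M6.pts7 e o))).1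
      ((hA _).2 ⟨_, (hsel o).1, rfl⟩))
    have hcls : B.Cls (B.E u) := by
      rw [he]
      refine Cls_conj B ?_ m
      obtain ⟨k, -, hk⟩ := hreach o
      rw [← hk]
      exact Cls_conj B (Cls_t B) k
    have hl := hsellow u hu
    have hs := sq1_of_Cls B hl hcls
    obtain ⟨o', ho'⟩ := hmem u hu hs (Cls_list B hl hs hO (hselcan u hu hs) hcls)
    exact ⟨o', by rw [← he, ho']⟩
  -- the element of order three
  obtain ⟨ζ, hζ, hsζ⟩ := hgs
  set g0 := n * n with hg0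
  set g := g0 * g0 * (g0 * g0) with hgdef
  have hgM : g ∈ M := M.mul_mem (M.mul_mem hgA hgA) (M.mul_mem hgA hgA)
  have h3 : g0 * g0 * g0 * B.t * (g0 * g0 * g0)⁻¹ = B.t := by
    rw [show g0 * g0 * g0 * B.t * (g0 * g0 * g0)⁻¹ =
      g0 * (g0 * (g0 * B.t * g0⁻¹) * g0⁻¹) * g0⁻¹ by group, hg.1, hg.2.1, hg.2.2]
  have hS3 := N_fix_t B (B.N.mul_mem (B.N.mul_mem (B.N.mul_mem hn hn) (B.N.mul_mem hn hn))
    (B.N.mul_mem hn hn)) h3
  have hg3 : g * g * g = 1 := by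
    have e4 : g * g * g = (g0 * g0 * g0) * (g0 * g0 * g0) * ((g0 * g0 * g0) * (g0 * g0 * g0)) := by
      rw [hgdef]; group
    rcases sq_mem B hS3 with h | h
    · rw [e4, h, mul_one]
    · rw [e4, h]; exact B.five.zz
  have hgt : g * B.t * g⁻¹ = B.E w := by
    rw [hgdef, show g0 * g0 * (g0 * g0) * B.t * (g0 * g0 * (g0 * g0))⁻¹ =
      g0 * (g0 * g0 * g0 * B.t * (g0 * g0 * g0)⁻¹) * g0⁻¹ by group, h3, hg.1]
  have hsc : ∀ (ζ : M6), ζ.inZ = true → ∀ y ∈ B.S, B.E ζ * y * (B.E ζ)⁻¹ = y := fun ζ hζ y hy => by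
    rw [← (central_iff B (M6.inZ_low _ hζ)).2 hζ y hy, mul_inv_cancel_right]
  obtain ⟨ξ, hξ, hsξ⟩ : ∃ ξ : M6, ξ.inZ = true ∧ g * B.E sv * g⁻¹ = B.E sv * B.E ξ := by
    have hstep : ∀ (k : G), k ∈ B.N →
        (∃ ξ : M6, ξ.inZ = true ∧ k * B.E sv * k⁻¹ = B.E sv * B.E ξ) →
        ∃ ξ : M6, ξ.inZ = true ∧ g0 * k * B.E sv * (g0 * k)⁻¹ = B.E sv * B.E ξ := by
      rintro k hk ⟨ξ, hξ, he⟩
      obtain ⟨ξ', hξ', he'⟩ := N_conj_Z B (B.N.mul_mem hn hn) hξ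
      refine ⟨ζ.mul ξ', (show ∀ a b : M6, a.inZ = true → b.inZ = true → (M6.mul a b).inZ = true by
        decide +kernel) _ _ hζ hξ', ?_⟩
      rw [show g0 * k * B.E sv * (g0 * k)⁻¹ = g0 * (k * B.E sv * k⁻¹) * g0⁻¹ by group, he,
        show g0 * (B.E sv * B.E ξ) * g0⁻¹ = g0 * B.E sv * g0⁻¹ * (g0 * B.E ξ * g0⁻¹) by group,
        hsζ, he', mul_assoc, E_mul B (M6.inZ_low _ hζ) (M6.inZ_low _ hξ')]
    have hN := B.N.mul_mem hn hn
    have s1 : ∃ ξ : M6, ξ.inZ = true ∧ g0 * B.E sv * g0⁻¹ = B.E sv * B.E ξ := ⟨ζ, hζ, hsζ⟩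
    have s2 := hstep g0 hN s1
    have s3 := hstep (g0 * g0) (B.N.mul_mem hN hN) s2
    have s4 := hstep (g0 * (g0 * g0)) (B.N.mul_mem hN (B.N.mul_mem hN hN)) s3
    obtain ⟨ξ, hξ, he⟩ := s4
    exact ⟨ξ, hξ, by rw [hgdef]; simpa [mul_assoc] using he⟩
  refine seven_false M B.t (fun i => B.E (e i)) ?_ ?_ ?_ ?_ hgM hsA hg3 (by rw [hgt]; exact hwt)
    ?_ ?_ ?_
  · intro o o' h
    refine hinj (E_inj B (hlow o) (hlow o') ?_)
    rw [hp, hp]
    exact h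
  · intro m hm o
    obtain ⟨o', ho'⟩ := hinvO m hm o
    exact ⟨o', by rw [← hp, ← hp]; exact ho'⟩
  · intro o
    obtain ⟨m, hm, he⟩ := hreach o
    exact ⟨m, hm, he.trans (hp o)⟩
  · intro m hm hmt i
    obtain ⟨o', ho'⟩ := hinvO m hm (some (i, false))
    have := B.can_eq (e i) _ (helow i) (hlow o') (hsel (some (i, false))).2 (hsel o').2 m
      (C_fix_t B hmt) ho'
    obtain ⟨j, rfl⟩ := huniq i o' this.symm
    exact ⟨j, ho'⟩
  · rw [E_mul B hsv hsv, of_decide_eq_true hssq, E_one]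
  · obtain ⟨i, hi⟩ := hsmove
    refine ⟨i, fun h => ?_⟩
    have h' := (E_comm B hsv (helow i)).1 (mul_inv_eq_iff_eq_mul.1 h)
    rw [hi] at h'
    exact Bool.false_ne_true h'
  · intro o
    rw [← hp]
    obtain ⟨o', ho'⟩ := hinvO g hgM o
    have hS : B.E (M6.pts7 e o') ∈ B.S := E_mem B (hlow o')
    calc g * B.E sv * B.E (M6.pts7 e o) * (g * B.E sv)⁻¹
        = g * B.E sv * g⁻¹ * (g * B.E (M6.pts7 e o) * g⁻¹) * (g * B.E sv * g⁻¹)⁻¹ := by group
      _ = B.E sv * (B.E ξ * B.E (M6.pts7 e o') * (B.E ξ)⁻¹) * (B.E sv)⁻¹ := by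
          rw [hsξ, ho']; group
      _ = B.E sv * g * B.E (M6.pts7 e o) * (B.E sv * g)⁻¹ := by
          rw [hsc ξ hξ _ hS, ← ho']; group

theorem selP_normalizer_Q : B.E M6.gQ ∈ normalizer (B.A1 : Set G) := by
  refine mem_normalizer_fintype ?_
  rintro _ ⟨u, hu, rfl⟩
  have hl := selP_low u hu
  refine ⟨M6.mul (M6.mul M6.gQ u) M6.gQ,
    (show ∀ u : M6, u.selP = true → (M6.mul (M6.mul M6.gQ u) M6.gQ).selP = true by decide +kernel)
      u hu, ?_⟩
  have hinv : (B.E M6.gQ)⁻¹ = B.E M6.gQ := inv_eq_of_mul_eq_one_right (by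
    rw [E_gQ]; exact B.five.QQ)
  rw [hinv, E_mul B rfl hl, E_mul B (M6.low_mul _ _ rfl hl) rfl]

theorem selQ_normalizer_P : B.E M6.gP ∈ normalizer (B.A2 : Set G) := by
  refine mem_normalizer_fintype ?_
  rintro _ ⟨u, hu, rfl⟩
  have hl := selQ_low u hu
  refine ⟨M6.mul (M6.mul M6.gP u) M6.gP,
    (show ∀ u : M6, u.selQ = true → (M6.mul (M6.mul M6.gP u) M6.gP).selQ = true by decide +kernel)
      u hu, ?_⟩
  have hinv : (B.E M6.gP)⁻¹ = B.E M6.gP := inv_eq_of_mul_eq_one_right (by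
    rw [E_gP]; exact B.five.PP)
  rw [hinv, E_mul B rfl hl, E_mul B (M6.low_mul _ _ rfl hl) rfl]

/-- The shape with three elements does not occur. -/
theorem not_three (h1 : ¬B.Cls (B.E M6.gtz))
    (h2 : B.Cls (B.E M6.gr) ↔ ¬B.Cls (B.E M6.grz))
    (h3 : B.Cls (B.E M6.gtr) ↔ ¬B.Cls (B.E M6.gtrz)) : False := by
  classical
  obtain ⟨w, hw, hcw, hw', hnw⟩ : ∃ w, (w = M6.gr ∨ w = M6.grz) ∧ B.Cls (B.E w) ∧
      w.inZ = true ∧ ∀ u, (u = M6.gr ∨ u = M6.grz) → B.Cls (B.E u) → u = w := by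
    by_cases h : B.Cls (B.E M6.gr)
    · exact ⟨_, Or.inl rfl, h, rfl, fun u hu hc =>
        hu.elim id (fun e => absurd (e ▸ hc) (h2.1 h))⟩
    · exact ⟨_, Or.inr rfl, not_not.1 fun hh => h (h2.2 hh), rfl, fun u hu hc =>
        hu.elim (fun e => absurd (e ▸ hc) h) id⟩
  obtain ⟨v, hv, hcv, hv', hnv⟩ : ∃ v, (v = M6.gtr ∨ v = M6.gtrz) ∧ B.Cls (B.E v) ∧
      v.inZ = true ∧ ∀ u, (u = M6.gtr ∨ u = M6.gtrz) → B.Cls (B.E u) → u = v := by
    by_cases h : B.Cls (B.E M6.gtr)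
    · exact ⟨_, Or.inl rfl, h, rfl, fun u hu hc =>
        hu.elim id (fun e => absurd (e ▸ hc) (h3.1 h))⟩
    · exact ⟨_, Or.inr rfl, not_not.1 fun hh => h (h3.2 hh), rfl, fun u hu hc =>
        hu.elim (fun e => absurd (e ▸ hc) h) id⟩
  have hO : ∀ u : M6, u.inZ = true → B.Cls (B.E u) → u = M6.gt ∨ u = v ∨ u = w := by
    intro u hu hc
    rcases M6.inZ_cases u hu with rfl | rfl | rfl | rfl | rfl | rfl | rfl | rfl
    · exact absurd (E_one B ▸ hc) (Cls_one B)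
    · exact absurd (E_gz B ▸ hc) (Cls_z B)
    · exact Or.inl rfl
    · exact absurd hc h1
    · exact Or.inr (Or.inr (hnw _ (Or.inl rfl) hc))
    · exact Or.inr (Or.inr (hnw _ (Or.inr rfl) hc))
    · exact Or.inr (Or.inl (hnv _ (Or.inl rfl) hc))
    · exact Or.inr (Or.inl (hnv _ (Or.inr rfl) hc))
  obtain ⟨n, hn, he⟩ := exists_N_of_class B hv' hcv
  have hne : v ≠ w ∧ v ≠ M6.gt ∧ w ≠ M6.gt := by
    rcases hv with rfl | rfl <;> rcases hw with rfl | rfl <;> decide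
  have hg := three_cycle B hn hv' hw' hne.1 hne.2.1 hne.2.2 hcw hO he
  have hwt : B.E w ≠ B.t := by
    rw [← E_gt B]
    exact fun h => hne.2.2 (E_inj B (M6.inZ_low _ hw') rfl h)
  obtain ⟨vP, vQ, eP, eQ, tP, tQ⟩ := sq_types B hn
  have hgQ : ∃ ζ : M6, ζ.inZ = true ∧
      n * n * B.E M6.gQ * (n * n)⁻¹ = B.E M6.gQ * B.E ζ := by
    obtain ⟨ζ, hζ, e⟩ := (show ∀ v : M6, v.typQ = true → ∃ ζ ∈ [M6.one, M6.gz, M6.gt, M6.gtz,
      M6.gr, M6.grz, M6.gtr, M6.gtrz], v = M6.mul M6.gQ ζ by decide +kernel) vQ tQ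
    have hζ' : ζ.inZ = true :=
      (show ∀ ζ ∈ [M6.one, M6.gz, M6.gt, M6.gtz, M6.gr, M6.grz, M6.gtr, M6.gtrz],
        M6.inZ ζ = true by decide +kernel) ζ hζ
    exact ⟨ζ, hζ', by rw [E_mul B rfl (M6.inZ_low _ hζ'), ← e, E_gQ, eQ]⟩
  have hgP : ∃ ζ : M6, ζ.inZ = true ∧
      n * n * B.E M6.gP * (n * n)⁻¹ = B.E M6.gP * B.E ζ := by
    obtain ⟨ζ, hζ, e⟩ := (show ∀ v : M6, v.typP = true → ∃ ζ ∈ [M6.one, M6.gz, M6.gt, M6.gtz,
      M6.gr, M6.grz, M6.gtr, M6.gtrz], v = M6.mul M6.gP ζ by decide +kernel) vP tP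
    have hζ' : ζ.inZ = true :=
      (show ∀ ζ ∈ [M6.one, M6.gz, M6.gt, M6.gtz, M6.gr, M6.grz, M6.gtr, M6.gtrz],
        M6.inZ ζ = true by decide +kernel) ζ hζ
    exact ⟨ζ, hζ', by rw [E_mul B rfl (M6.inZ_low _ hζ'), ← e, E_gP, eP]⟩
  rcases hv with rfl | rfl <;> rcases hw with rfl | rfl
  · refine seven_case B hn hg hwt hO B.A1 M6.selP (fun x => Iff.rfl) M6.eP (by decide +kernel)
      selP_low (by decide +kernel) (by decide +kernel) (by decide +kernel) (by decide +kernel)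
      (c_mem_normalizer B) (c_t B) ?_ (sq_mem_normalizer B hn).1 ⟨2, false, rfl, rfl⟩
      (sv := M6.gQ) rfl (selP_normalizer_Q B) rfl ⟨0, rfl⟩ hgQ
    intro i
    rw [c_E B ((show ∀ i : Fin 3, (M6.eP i).selP = true by decide +kernel) i)]
    exact congrArg B.E ((show ∀ i : Fin 3, M6.endo (M6.mul (M6.mul M6.gP M6.gz) M6.gr) M6.gP M6.gt
      (M6.mul M6.gP M6.gz) M6.one M6.one (M6.eP i) = M6.eP (i + 1) by decide +kernel) i)
  · exact five_case B hn hg hO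
      ![M6.gt, M6.grz, M6.mul M6.gt M6.gP, M6.mul M6.gt (M6.mul M6.gP M6.gz), M6.gtr]
      rfl (by decide +kernel) (by decide +kernel) (by decide +kernel) (by decide +kernel)
      (by decide +kernel) (Or.inl ⟨rfl, rfl⟩)
  · exact five_case B hn hg hO
      ![M6.gt, M6.gtrz, M6.gP, M6.mul M6.gP M6.gz, M6.gr]
      rfl (by decide +kernel) (by decide +kernel) (by decide +kernel) (by decide +kernel)
      (by decide +kernel) (Or.inr ⟨rfl, rfl⟩)
  · refine seven_case B hn hg hwt hO B.A2 M6.selQ (fun x => Iff.rfl) M6.eQ (by decide +kernel)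
      selQ_low (by decide +kernel) (by decide +kernel) (by decide +kernel) (by decide +kernel)
      (ρ_mem_normalizer B) (ρ_t B) ?_ (sq_mem_normalizer B hn).2 ⟨0, false, rfl, ?_⟩
      (sv := M6.gP) rfl (selQ_normalizer_P B) rfl ⟨1, rfl⟩ hgP
    · intro i
      rw [ρ_E B ((show ∀ i : Fin 3, (M6.eQ i).selQ = true by decide +kernel) i)]
      exact congrArg B.E ((show ∀ i : Fin 3, M6.endo M6.gQ M6.gr M6.gt M6.one
        (M6.mul M6.gQ M6.gz) M6.one (M6.eQ i) = M6.eQ (i + 1) by decide +kernel) i)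
    · rfl

end Base


end Cfsg.Agent.Block.STwoSix
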