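import Cfsg.Agent.Lib.Block.STwoSix.TwoCase
import Cfsg.Agent.Lib.Invol.CentralTransfer

/-!
The orbit `{t, t z}`, when the exchanging element exchanges the two types of involutions.
-/

set_option autoImplicit false
set_option linter.unusedSectionVars false
set_option synthInstance.maxSize 4096
set_option synthInstance.maxHeartbeats 400000
set_option maxRecDepth 8000

namespace Cfsg.Agent.Block.STwoSix

open Subgroup

variable {G : Type*} [Group G] [Finite G]

/-- A proper subgroup of a 2-group is properly normalised inside it. -/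
theorem exists_normalizing {K P : Subgroup G} (hP : IsPGroup 2 P) (hlt : K < P) :
    ∃ n ∈ P, n ∉ K ∧ ∀ x ∈ K, n * x * n⁻¹ ∈ K := by
  have : Group.IsNilpotent P := hP.isNilpotent
  have hlt' : K.subgroupOf P < ⊤ := lt_top_iff_ne_top.2 fun h =>
    not_le_of_gt hlt (Subgroup.subgroupOf_eq_top.1 h)
  obtain ⟨n, hn, hnK⟩ := SetLike.exists_of_lt (Group.normalizerCondition_of_isNilpotent _ hlt')
  refine ⟨n, n.2, fun h => hnK (Subgroup.mem_subgroupOf.2 h), fun x hx => ?_⟩
  exact Subgroup.mem_subgroupOf.1 ((mem_normalizer_iff.1 hn ⟨x, hlt.le hx⟩).1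
    (Subgroup.mem_subgroupOf.2 hx))

theorem card_ext_inter {H : Subgroup G} {x : G} {hn : ∀ h ∈ H, x * h * x⁻¹ ∈ H} {hx : x * x ∈ H}
    (v : G) : Nat.card ↥(extSub H x hn hx ⊓ centralizer ({v} : Set G)) ≤
      2 * Nat.card ↥(H ⊓ centralizer ({v} : Set G)) := by
  classical
  set D := extSub H x hn hx ⊓ centralizer ({v} : Set G)
  set D0 := H ⊓ centralizer ({v} : Set G)
  by_cases h : ∃ g0 ∈ D, g0 ∉ H
  · obtain ⟨g0, hg0, hg0H⟩ := h
    have hsub : (D : Set G) ⊆ (D0 : Set G) ∪ (fun y => g0 * y) '' (D0 : Set G) := by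
      intro g hg
      by_cases hgH : g ∈ H
      · exact Or.inl ⟨hgH, hg.2⟩
      · refine Or.inr ⟨g0⁻¹ * g, ⟨?_, ?_⟩, mul_inv_cancel_left _ _⟩
        · have a1 : x⁻¹ * g0 ∈ H := hg0.1.resolve_left hg0H
          have a2 : x⁻¹ * g ∈ H := hg.1.resolve_left hgH
          have := H.mul_mem (H.inv_mem a1) a2
          rwa [show (x⁻¹ * g0)⁻¹ * (x⁻¹ * g) = g0⁻¹ * g by group] at this
        · exact (centralizer ({v} : Set G)).mul_mem ((centralizer _).inv_mem hg0.2) hg.2
    have h1 := (Set.ncard_le_ncard hsub).trans (Set.ncard_union_le _ _)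
    rw [Set.ncard_image_of_injective _ (mul_right_injective g0), ← Nat.card_coe_set_eq,
      ← Nat.card_coe_set_eq] at h1
    calc Nat.card ↥D = Nat.card ↥(D : Set G) := rfl
      _ ≤ _ := h1
      _ = 2 * Nat.card ↥D0 := by rw [two_mul]; rfl
  · push Not at h
    have : Nat.card ↥D ≤ Nat.card ↥D0 :=
      Nat.card_le_card_of_injective (fun g => ⟨g.1, h g.1 g.2, g.2.2⟩)
        fun a b e => Subtype.ext (congrArg (fun y : D0 => (y : G)) e)
    omega

namespace M6

/-- The possible actions of the exchanging element. -/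
def swapImgs : List (M6 × M6 × M6) :=
  [gr, grz].flatMap fun i => [mul gQ gr, mul gz (mul gQ gr)].flatMap fun p =>
    [mul gP gr, mul gz (mul gP gr)].map fun q => (i, p, q)

/-- The action. -/
def sw (θ : M6 × M6 × M6) (u : M6) : M6 := endo gz θ.1 gtz θ.2.1 θ.2.2 one u

/-- The character used when `t` is a square. -/
def phiA (c : Bool) (u : M6) : Bool := u.br ^^ u.bP ^^ (c && u.bt)

/-- The checked properties of an action on one vector. -/
def swOk (θ : M6 × M6 × M6) (u : M6) : Bool :=
  !u.low || ((sw θ u).low && (sw θ u).bt == u.bt && phiA false (sw θ u) == phiA false u &&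
    phiA true (sw θ u) == phiA true u && (!u.typP || (sw θ u).typQ) &&
    (!u.typQ || (sw θ u).typP))

theorem swOk_all : (swapImgs.all fun θ => allM.all fun u => swOk θ u) = true := by decide +kernel

theorem sw_basic (θ : M6 × M6 × M6) (hθ : θ ∈ swapImgs) (u : M6) (hu : u.low = true) :
    (sw θ u).low = true ∧ (sw θ u).bt = u.bt ∧ (∀ c, phiA c (sw θ u) = phiA c u) ∧
      (u.typP = true → (sw θ u).typQ = true) ∧ (u.typQ = true → (sw θ u).typP = true) := by
  have h := List.all_eq_true.1 (List.all_eq_true.1 swOk_all θ hθ) u (mem_allM u)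
  simp only [swOk, hu, Bool.not_true, Bool.false_or, Bool.and_eq_true, beq_iff_eq,
    Bool.or_eq_true, Bool.not_eq_true'] at h
  obtain ⟨⟨⟨⟨⟨h1, h2⟩, h3⟩, h4⟩, h5⟩, h6⟩ := h
  refine ⟨h1, h2, fun c => ?_, fun hp => ?_, fun hq => ?_⟩
  · cases c
    · exact h3
    · exact h4
  · exact h5.resolve_left (by rw [hp]; decide)
  · exact h6.resolve_left (by rw [hq]; decide)

theorem swFix_all : (swapImgs.all fun θ => allM.all fun s => !s.low ||
    decide ((allM.countP fun u => u.low && decide (sw θ (mul (mul s u) s.inv) = u)) ≤ 8)) = true := by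
  decide +kernel

theorem sw_fix (θ : M6 × M6 × M6) (hθ : θ ∈ swapImgs) (s : M6) (hs : s.low = true) :
    (allM.countP fun u => u.low && decide (sw θ (mul (mul s u) s.inv) = u)) ≤ 8 := by
  have h := List.all_eq_true.1 (List.all_eq_true.1 swFix_all θ hθ) s (mem_allM s)
  simpa [hs] using h

theorem swTa_all : (swapImgs.all fun θ => !decide (θ.1 = grz) ||
    (decide (sw θ gtr = gtr) && decide (sw θ gtrz = gtrz))) = true := by decide +kernel

theorem sw_ta (θ : M6 × M6 × M6) (hθ : θ ∈ swapImgs) (h0 : θ.1 = grz) :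
    sw θ gtr = gtr ∧ sw θ gtrz = gtrz := by
  have h := List.all_eq_true.1 swTa_all θ hθ
  simpa [h0] using h

theorem two_count :
    (allM.countP fun u => u.low && u.sq1 && decide (u.can ∈ [gt, gtz]) && u.bt) = 6 := by
  decide +kernel

theorem phiA_add : ∀ c : Bool, ∀ u : M6, u.low = true → ∀ v : M6, v.low = true →
    phiA c (mul u v) = (phiA c u ^^ phiA c v) := by
  rintro c ⟨a1, a2, a3, a4, a5, a6⟩ - ⟨b1, b2, b3, b4, b5, b6⟩ -
  simp only [phiA, mul, br, bP, bt]
  revert c a2 a3 a4 b2 b3 b4
  decide +kernel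

end M6

variable {B : Base G}

namespace Base

variable (h1 : B.Cls (B.E M6.gtz)) (h2 : ¬B.Cls (B.E M6.gr)) (h3 : ¬B.Cls (B.E M6.grz))
  (h4 : ¬B.Cls (B.E M6.gtr)) (h5 : ¬B.Cls (B.E M6.gtrz))
include h1 h2 h3 h4 h5

set_option maxHeartbeats 800000 in
theorem two_swapping {f : G} (hf : f ∈ B.N) (hft : f * B.t * f⁻¹ = B.z * B.t) {vP vQ : M6}
    (eP : f * B.P * f⁻¹ = B.E vP) (eQ : f * B.Q * f⁻¹ = B.E vQ) (tP : vP.typQ = true)
    (tQ : vQ.typP = true) : ∃ H : Subgroup G, H.index = 2 := by
  classical
  obtain ⟨ir0, hir0, ea⟩ : ∃ w, (w = M6.gr ∨ w = M6.grz) ∧ f * B.a * f⁻¹ = B.E w := by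
    rcases shift_a B hf hft with h | h
    · exact ⟨_, Or.inl rfl, by rw [E_gr, h]⟩
    · exact ⟨_, Or.inr rfl, by rw [E_grz, h]⟩
  have lir0 : ir0.low = true := by rcases hir0 with rfl | rfl <;> rfl
  have lP := M6.typQ_low _ tP
  have lQ := M6.typP_low _ tQ
  have ez : f * B.z * f⁻¹ = B.E M6.gz := by rw [E_gz]; exact conj_z B hf
  have et : f * B.t * f⁻¹ = B.E M6.gtz := by rw [E_gtz]; exact hft
  set θ : M6 × M6 × M6 := (ir0, vP, vQ) with hθdef
  have hconj : ∀ u : M6, u.low = true → f * B.E u * f⁻¹ = B.E (M6.sw θ u) := fun u hu =>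
    ev_conj_free B f hu ez (by exact ea) et (fun _ => eP) (fun _ => eQ) rfl lir0 rfl lP lQ
  have himg : ∀ u : M6, u.low = true → u.sq1 = true ∧ u.can ∈ [M6.gt, M6.gtz] →
      (M6.sw θ u).low = true →
      (M6.sw θ u).sq1 = true ∧ (M6.sw θ u).can ∈ [M6.gt, M6.gtz] := fun u hu hc hl => by
    refine (two_cls h1 h2 h3 h4 h5 hl).1 ?_
    rw [← hconj u hu]
    exact Cls_conj B ((two_cls h1 h2 h3 h4 h5 hu).2 hc) f
  have hθ : θ ∈ M6.swapImgs := by
    have key : ∀ i ∈ [M6.gr, M6.grz], ∀ p : M6, p.typQ = true → ∀ q : M6, q.typP = true →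
        (M6.sw (i, p, q) (M6.mul (M6.mul M6.gt M6.gP) M6.gr)).low = true ∧
        (M6.sw (i, p, q) (M6.mul M6.gt M6.gQ)).low = true := by
      decide +kernel
    have hi : ir0 ∈ [M6.gr, M6.grz] := by rcases hir0 with rfl | rfl <;> decide
    have a1 := himg (M6.mul (M6.mul M6.gt M6.gP) M6.gr) rfl (by decide) (key _ hi _ tP _ tQ).1
    have a2 := himg (M6.mul M6.gt M6.gQ) rfl (by decide) (key _ hi _ tP _ tQ).2
    have k1 : ∀ i ∈ [M6.gr, M6.grz], ∀ p : M6, p.typQ = true →
        (M6.sw (i, p, M6.one) (M6.mul (M6.mul M6.gt M6.gP) M6.gr)).sq1 = true ∧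
          (M6.sw (i, p, M6.one) (M6.mul (M6.mul M6.gt M6.gP) M6.gr)).can ∈ [M6.gt, M6.gtz] →
        p = M6.mul M6.gQ M6.gr ∨ p = M6.mul M6.gz (M6.mul M6.gQ M6.gr) := by decide +kernel
    have k2 : ∀ i ∈ [M6.gr, M6.grz], ∀ q : M6, q.typP = true →
        (M6.sw (i, M6.one, q) (M6.mul M6.gt M6.gQ)).sq1 = true ∧
          (M6.sw (i, M6.one, q) (M6.mul M6.gt M6.gQ)).can ∈ [M6.gt, M6.gtz] →
        q = M6.mul M6.gP M6.gr ∨ q = M6.mul M6.gz (M6.mul M6.gP M6.gr) := by decide +kernel
    have b1 := k1 _ hi _ tP a1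
    have b2 := k2 _ hi _ tQ a2
    rw [hθdef]
    rcases hir0 with rfl | rfl <;> rcases b1 with rfl | rfl <;> rcases b2 with rfl | rfl <;>
      decide +kernel
  obtain ⟨uy, huy, hy⟩ := shift_sq_mem B hf hft
  have hfS := shift_not_mem B hf hft
  have hnorm : ∀ h ∈ B.S, f * h * f⁻¹ ∈ B.S := fun h hh => conj_S B hf hh
  set K := extSub B.S f hnorm (shift_sq_mem B hf hft) with hK
  have hKcard : Nat.card K = 64 := by rw [hK, card_extSub hfS, card_S]
  have hKP : IsPGroup 2 K := IsPGroup.of_card (n := 6) (by rw [hKcard]; rfl)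
  have hNK : ∀ n ∈ B.N, n ∈ K := by
    intro n hn
    rcases two_N h1 h2 h3 h4 h5 hn with h | h
    · exact Or.inl (N_fix_t B hn h)
    · refine Or.inr (N_fix_t B (B.N.mul_mem (B.N.inv_mem hf) hn) ?_)
      calc f⁻¹ * n * B.t * (f⁻¹ * n)⁻¹ = f⁻¹ * (n * B.t * n⁻¹) * f := by group
        _ = B.t := by rw [h, ← hft]; group
  obtain ⟨m, hm, hC⟩ := B.card_C
  cases hbt : uy.bt
  · -- `t` gives a character
    have hhom := homOn_extFun (x := f) hnorm (shift_sq_mem B hf hft) hfS
      (sfun_hom B M6.bt fun u _ v _ => rfl) (fun h hh => by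
        obtain ⟨u, hu, rfl⟩ := hh
        rw [hconj u hu, sfun_E B _ (M6.sw_basic θ hθ u hu).1, sfun_E B _ hu,
          (M6.sw_basic θ hθ u hu).2.1])
      (by rw [← hy, sfun_E B _ huy, hbt]; rfl) 1
    rw [← hK] at hhom
    set φ := extFun B.S f (B.sfun M6.bt) 1 with hφ
    set X0 := {x ∈ hits K φ B.t | x ∈ B.S}
    set X1 := {x ∈ hits K φ B.t | x ∉ B.S}
    have hsplit : (hits K φ B.t).ncard = X0.ncard + X1.ncard := by
      rw [← Set.ncard_union_eq (Set.disjoint_left.2 fun x ha hb => hb.2 ha.2)]
      congr 1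
      ext x
      exact ⟨fun h => (em (x ∈ B.S)).elim (fun h' => Or.inl ⟨h, h'⟩) (fun h' => Or.inr ⟨h, h'⟩),
        fun h => h.elim And.left And.left⟩
    have e0 : X0.ncard = 6 := by
      rw [← M6.two_count]
      have hi : Set.InjOn B.E {u : M6 | (u.low && u.sq1 && decide (u.can ∈ [M6.gt, M6.gtz]) &&
          u.bt) = true} := fun u hu v hv h => by
        simp only [Set.mem_ofPred_eq, Bool.and_eq_true] at hu hv
        exact E_inj B hu.1.1.1 hv.1.1.1 h
      have e : X0 = B.E '' {u : M6 | (u.low && u.sq1 && decide (u.can ∈ [M6.gt, M6.gtz]) &&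
          u.bt) = true} := by
        ext x
        constructor
        · rintro ⟨⟨-, hc, hne⟩, hxS⟩
          obtain ⟨u, hu, rfl⟩ := hxS
          refine ⟨u, ?_, rfl⟩
          obtain ⟨hs, hcan⟩ := (two_cls h1 h2 h3 h4 h5 hu).1 hc
          rw [hφ, extFun_of_mem (E_mem B hu), sfun_E B _ hu] at hne
          cases hb : u.bt
          · rw [hb] at hne; exact absurd rfl hne
          · simp only [Set.mem_ofPred_eq, hu, hs, hcan, hb, decide_true, Bool.and_self]
        · rintro ⟨u, hu, rfl⟩
          simp only [Set.mem_ofPred_eq, Bool.and_eq_true, decide_eq_true_eq] at hu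
          refine ⟨⟨le_extSub (E_mem B hu.1.1.1), (two_cls h1 h2 h3 h4 h5 hu.1.1.1).2 ⟨hu.1.1.2,
            hu.1.2⟩, ?_⟩, E_mem B hu.1.1.1⟩
          rw [hφ, extFun_of_mem (E_mem B hu.1.1.1), sfun_E B _ hu.1.1.1, hu.2]
          exact one'_ne
      rw [e, hi.ncard_image]
      have : {u : M6 | (u.low && u.sq1 && decide (u.can ∈ [M6.gt, M6.gtz]) && u.bt) = true} =
          ↑(M6.allM.filter fun u => u.low && u.sq1 && decide (u.can ∈ [M6.gt, M6.gtz]) &&
            u.bt).toFinset := by
        ext u; simp [M6.mem_allM]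
      rw [this, Set.ncard_coe_finset, List.toFinset_card_of_nodup (M6.allM_nodup.filter _),
        List.countP_eq_length_filter]
    have e1 : 2 ^ 2 ∣ X1.ncard := by
      refine pow_dvd_card_of_index hKP X1 ?_ ?_
      · rintro r hr x ⟨⟨hx, hc, hne⟩, hxS⟩
        refine ⟨⟨K.mul_mem (K.mul_mem hr hx) (K.inv_mem hr), Cls_conj B hc r, ?_⟩, fun h => hxS ?_⟩
        · rwa [hhom _ (K.mul_mem hr hx) _ (K.inv_mem hr), hhom _ hr _ hx, hhom.map_inv hr,
            mul_comm (φ r), mul_assoc, C2_mul_self, mul_one]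
        · have hrN : r⁻¹ ∈ B.N := B.N.inv_mem (by
            rcases hr with hr | hr
            · exact S_le_N B hr
            · simpa using B.N.mul_mem hf (S_le_N B hr))
          have := conj_S B hrN h
          rwa [show r⁻¹ * (r * x * r⁻¹) * r⁻¹⁻¹ = x by group] at this
      · rintro x ⟨⟨hx, -, -⟩, hxS⟩
        obtain ⟨s, hs, hse⟩ := hx.resolve_left hxS
        have hle := card_ext_inter (H := B.S) (x := f) (hn := hnorm)
          (hx := shift_sq_mem B hf hft) x
        have h8 : Nat.card ↥(B.S ⊓ centralizer ({x} : Set G)) ≤ 8 := by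
          have hi : Set.InjOn B.E {u : M6 | (u.low && decide (M6.sw θ
              (M6.mul (M6.mul s u) s.inv) = u)) = true} := fun u hu v hv h => by
            simp only [Set.mem_ofPred_eq, Bool.and_eq_true] at hu hv
            exact E_inj B hu.1 hv.1 h
          refine le_trans ?_ (M6.sw_fix θ hθ s hs)
          have hsub : ((B.S ⊓ centralizer ({x} : Set G) : Subgroup G) : Set G) ⊆
              B.E '' {u : M6 | (u.low && decide (M6.sw θ (M6.mul (M6.mul s u) s.inv) = u)) = true} := by
            rintro y ⟨⟨u, hu, rfl⟩, hyx⟩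
            refine ⟨u, ?_, rfl⟩
            have hxe : x = f * B.E s := by rw [hse]; group
            have hcm := mem_centralizer_singleton_iff.1 hyx
            have hl := M6.low_mul _ _ (M6.low_mul _ _ hs hu) (M6.low_inv s hs)
            have : B.E (M6.sw θ (M6.mul (M6.mul s u) s.inv)) = B.E u := by
              rw [← hconj _ hl, ← E_mul B (M6.low_mul _ _ hs hu) (M6.low_inv s hs),
                ← E_mul B hs hu]
              have hinv : B.E s.inv = (B.E s)⁻¹ := (inv_eq_of_mul_eq_one_right
                (by rw [E_mul B hs (M6.low_inv s hs), M6.mul_inv, E_one])).symm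
              rw [hinv]
              calc f * (B.E s * B.E u * (B.E s)⁻¹) * f⁻¹ = x * B.E u * x⁻¹ := by rw [hxe]; group
                _ = B.E u := by rw [← hcm, mul_inv_cancel_right]
            simp only [Set.mem_ofPred_eq, hu, Bool.true_and,
              decide_eq_true (E_inj B (M6.sw_basic θ hθ _ hl).1 hu this)]
          have := (Set.ncard_le_ncard hsub).trans_eq hi.ncard_image
          rw [← Nat.card_coe_set_eq] at this
          refine le_trans this (le_of_eq ?_)
          have : {u : M6 | (u.low && decide (M6.sw θ (M6.mul (M6.mul s u) s.inv) = u)) = true} =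
              ↑(M6.allM.filter fun u => u.low && decide (M6.sw θ
                (M6.mul (M6.mul s u) s.inv) = u)).toFinset := by
            ext u; simp [M6.mem_allM]
          rw [this, Set.ncard_coe_finset, List.toFinset_card_of_nodup (M6.allM_nodup.filter _),
            List.countP_eq_length_filter]
        rw [hKcard]
        rw [← hK] at hle
        omega
    refine index_two_of_hits (v := B.t) (tt B) hhom (c := 5) (e := 1) hC hm (b := 1)
      (by rw [hKcard]; rfl) (m := (X0.ncard + X1.ncard) / 2) (by rw [hsplit]; omega) ?_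
    rw [Nat.odd_iff]
    omega
  · -- all involutions of `K` lie in `S`
    have hbth : HomOn B.S (B.sfun M6.bt) := sfun_hom B M6.bt fun u _ v _ => rfl
    have hinvS : ∀ x ∈ K, x * x = 1 → x ∈ B.S := by
      intro x hx hxx
      refine hx.elim id fun hh => ?_
      exfalso
      obtain ⟨s, hs, hse⟩ := hh
      have hxe : x = f * B.E s := by rw [hse]; group
      have hmem : f⁻¹ * B.E s * f ∈ B.S := by
        have := conj_S B (B.N.inv_mem hf) (E_mem B hs)
        rwa [inv_inv] at this
      obtain ⟨w, hw, hwe⟩ := hmem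
      have hbw : w.bt = s.bt := by
        have h := hconj w hw
        rw [hwe, show f * (f⁻¹ * B.E s * f) * f⁻¹ = B.E s by group] at h
        rw [E_inj B hs (M6.sw_basic θ hθ w hw).1 h, (M6.sw_basic θ hθ w hw).2.1]
      have e : x * x = f * f * ((f⁻¹ * B.E s * f) * B.E s) := by rw [hxe]; group
      rw [hxx, ← hwe, ← hy] at e
      have := congrArg (B.sfun M6.bt) e
      rw [hbth.map_one, hbth _ (E_mem B huy) _ (B.S.mul_mem (E_mem B hw) (E_mem B hs)),
        hbth _ (E_mem B hw) _ (E_mem B hs), sfun_E B _ huy, sfun_E B _ hw, sfun_E B _ hs, hbt,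
        hbw, C2_mul_self, mul_one] at this
      exact one'_ne this.symm
    set cc := uy.br ^^ uy.bP with hcc
    have hhom := homOn_extFun (x := f) hnorm (shift_sq_mem B hf hft) hfS
      (sfun_hom B (M6.phiA cc) (M6.phiA_add cc)) (fun h hh => by
        obtain ⟨u, hu, rfl⟩ := hh
        rw [hconj u hu, sfun_E B _ (M6.sw_basic θ hθ u hu).1, sfun_E B _ hu,
          (M6.sw_basic θ hθ u hu).2.2.1])
      (by rw [← hy, sfun_E B _ huy, M6.phiA, hbt, hcc]; cases uy.br <;> cases uy.bP <;> rfl) 1
    rw [← hK] at hhom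
    set φ := extFun B.S f (B.sfun (M6.phiA cc)) 1 with hφ
    have hφa : φ B.a = one' := by
      rw [← E_gr B, hφ, extFun_of_mem (E_mem B rfl), sfun_E B _ rfl, M6.phiA]
      cases cc <;> rfl
    have hcentS : ∀ s ∈ B.S, s * B.a = B.a * s := by
      intro s hs
      rw [← E_gr B]
      exact (central_iff B rfl).2 rfl s hs
    have haa : B.a * B.a = 1 := B.five.aa
    rcases shift_a B hf hft with hfa | hfa
    · -- `a` is central in the Sylow 2-subgroup `K`
      obtain ⟨P, hKle⟩ := hKP.exists_le_sylow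
      have hstable : ∀ n : G, (∀ x ∈ K, n * x * n⁻¹ ∈ K) → n ∈ K := by
        intro n hn
        refine hNK n (mem_normalizer_fintype ?_)
        rintro _ ⟨u, hu, rfl⟩
        have hgen : ∀ g : G, g ∈ B.S → g * g = 1 → n * g * n⁻¹ ∈ B.S := fun g hg hgg =>
          hinvS _ (hn g (le_extSub hg)) (by
            rw [show n * g * n⁻¹ * (n * g * n⁻¹) = n * (g * g) * n⁻¹ by group, hgg]; group)
        have hb : ∀ (g : G) (b : Bool), g ∈ B.S → g * g = 1 → n * bp g b * n⁻¹ ∈ B.S := by
          intro g b hg hgg; cases b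
          · simp [bp, B.S.one_mem]
          · exact hgen g hg hgg
        show n * B.E u * n⁻¹ ∈ B.S
        have hu' : u.bf = false := by simpa [M6.low] using hu
        have e : n * B.E u * n⁻¹ = (n * bp B.z u.bz * n⁻¹) * ((n * bp B.a u.br * n⁻¹) *
            ((n * bp B.t u.bt * n⁻¹) * ((n * bp B.P u.bP * n⁻¹) * (n * bp B.Q u.bQ * n⁻¹)))) := by
          rw [Base.E, ev, hu', bp_false]; group
        rw [e]
        exact B.S.mul_mem (hb _ _ (z_mem B) B.five.zz) (B.S.mul_mem (hb _ _ (a_mem B) haa)
          (B.S.mul_mem (hb _ _ (t_mem B) B.five.tt) (B.S.mul_mem (hb _ _ (P_mem B) B.five.PP)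
            (hb _ _ (Q_mem B) B.five.QQ))))
      have hPK : (P : Subgroup G) = K := by
        refine le_antisymm ?_ hKle
        by_contra hcon
        obtain ⟨n, -, hnK, hn⟩ := exists_normalizing P.isPGroup' (lt_of_le_not_ge hKle hcon)
        exact hnK (hstable n hn)
      have haK : B.a ∈ K := le_extSub (a_mem B)
      have hcentK : ∀ s ∈ K, s * B.a = B.a * s := by
        rintro s (hs | hs)
        · exact hcentS s hs
        · have h := hcentS _ hs
          have h' : f * B.a = B.a * f := mul_inv_eq_iff_eq_mul.1 hfa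
          calc s * B.a = f * (f⁻¹ * s * B.a) := by group
            _ = f * B.a * (f⁻¹ * s) := by rw [h]; group
            _ = B.a * s := by rw [h']; group
      refine Invol.exists_index_two_of_fixed_central P
        (hhom.toHom.comp (MulEquiv.subgroupCongr hPK).toMonoidHom) haa (hPK ▸ haK) ?_ ?_ ?_
      · show φ B.a ≠ 1
        rw [hφa]; exact one'_ne
      · intro s hs
        exact hcentK s (hPK ▸ hs)
      · intro n hn
        rw [hPK] at hn
        rw [hcentK n (hstable n fun x hx => (mem_normalizer_iff.1 hn x).1 hx), mul_inv_cancel_right]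
    · -- `S` is a Sylow 2-subgroup of the centraliser of `a`
      have hirz : θ.1 = M6.grz := by
        have h := ea
        rw [hfa, ← E_grz B] at h
        exact (E_inj B rfl lir0 h).symm
      set Ca := centralizer ({B.a} : Set G) with hCa
      have hSCa : B.S ≤ Ca := fun s hs => mem_centralizer_singleton_iff.2 (hcentS s hs)
      obtain ⟨P, hPle⟩ := ((isPGroup_S B).comap_subtype (K := Ca)).exists_le_sylow
      set P' := (P : Subgroup Ca).map Ca.subtype with hP'
      have hP'p : IsPGroup 2 P' := P.isPGroup'.map _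
      have hSP' : B.S ≤ P' := fun s hs => ⟨⟨s, hSCa hs⟩, hPle hs, rfl⟩
      have hP'S : P' = B.S := by
        refine le_antisymm ?_ hSP'
        by_contra hcon
        obtain ⟨n, hnP, hnS, hn⟩ := exists_normalizing hP'p (lt_of_le_not_ge hSP' hcon)
        obtain ⟨y, -, rfl⟩ := hnP
        rcases hNK _ (mem_normalizer_fintype fun x hx => hn x hx) with h | h
        · exact hnS h
        · have hy' := mem_centralizer_singleton_iff.1 y.2
          have hh := hcentS _ h
          set q := f⁻¹ * Ca.subtype y with hq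
          have hyq : (y : G) = f * q := by rw [hq, Subgroup.coe_subtype]; group
          have : f * B.a = B.a * f := by
            refine mul_right_cancel (b := q) ?_
            calc f * B.a * q = f * (B.a * q) := by group
              _ = f * q * B.a := by rw [← hh]; group
              _ = B.a * (f * q) := by rw [← hyq, hy']
              _ = B.a * f * q := by group
          rw [this, mul_inv_cancel_right, ← E_grz B, ← E_gr B] at hfa
          exact absurd (E_inj B rfl rfl hfa) (by decide)
      have hcardCa : ∃ k, Odd k ∧ Nat.card Ca = 2 ^ 5 * k := by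
        have hP32 : Nat.card (P : Subgroup Ca) = 32 := by
          rw [← Subgroup.card_map_of_injective (f := Ca.subtype) Ca.subtype_injective, ← hP',
            hP'S, card_S]
        rw [P.card_eq_multiplicity] at hP32
        refine ⟨Nat.card Ca / 2 ^ (Nat.card Ca).factorization 2, ?_, ?_⟩
        · rw [← Nat.not_even_iff_odd, even_iff_two_dvd]
          exact Nat.not_dvd_ordCompl Nat.prime_two Nat.card_pos.ne'
        · conv_lhs => rw [← Nat.ordProj_mul_ordCompl_eq_self (Nat.card Ca) 2]
          rw [hP32]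
          rfl
      obtain ⟨k, hk, hcardk⟩ := hcardCa
      have hcent_dvd : ∀ v : G, IsConj B.a v → ∀ U : Subgroup G, Nat.card U = 64 →
          (∀ y ∈ U, y * v = v * y) → False := by
        intro v hv U hU hUv
        obtain ⟨g, rfl⟩ := isConj_iff.1 hv
        have hle : U.map (MulAut.conj g⁻¹).toMonoidHom ≤ Ca := by
          rintro _ ⟨y, hy, rfl⟩
          refine mem_centralizer_singleton_iff.2 ?_
          have h := hUv y hy
          show g⁻¹ * y * g⁻¹⁻¹ * B.a = B.a * (g⁻¹ * y * g⁻¹⁻¹)
          calc g⁻¹ * y * g⁻¹⁻¹ * B.a = g⁻¹ * (y * (g * B.a * g⁻¹)) * g := by group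
            _ = g⁻¹ * (g * B.a * g⁻¹ * y) * g := by rw [h]
            _ = B.a * (g⁻¹ * y * g⁻¹⁻¹) := by group
        have hd := Subgroup.card_dvd_of_le hle
        rw [Subgroup.card_map_of_injective (MulAut.conj g⁻¹).injective, hU, hcardk] at hd
        have : 2 ∣ k := (Nat.mul_dvd_mul_iff_left (by norm_num : 0 < 2 ^ 5)).1
          (by rw [show (2 : ℕ) ^ 5 * 2 = 64 from rfl]; exact hd)
        exact Nat.not_even_iff_odd.2 hk (even_iff_two_dvd.2 this)
      have hfixed : ∀ v : M6, v.inZ = true → M6.sw θ v = v → IsConj B.a (B.E v) → False := by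
        intro v hv hfx hc
        refine hcent_dvd _ hc K hKcard ?_
        have hcs := (central_iff B (M6.inZ_low v hv)).2 hv
        have hff := hconj v (M6.inZ_low v hv)
        rw [hfx] at hff
        have hf' : f * B.E v = B.E v * f := mul_inv_eq_iff_eq_mul.1 hff
        rintro y (hy | hy)
        · exact hcs y hy
        · have h' := hcs _ hy
          calc y * B.E v = f * (f⁻¹ * y * B.E v) := by group
            _ = f * B.E v * (f⁻¹ * y) := by rw [h']; group
            _ = B.E v * y := by rw [hf']; group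
      set Y0 := {x ∈ hits K φ B.a | ∀ s ∈ B.S, s * x = x * s}
      set Y1 := {x ∈ hits K φ B.a | ¬∀ s ∈ B.S, s * x = x * s}
      have hsplit : (hits K φ B.a).ncard = Y0.ncard + Y1.ncard := by
        rw [← Set.ncard_union_eq (Set.disjoint_left.2 fun x ha hb => hb.2 ha.2)]
        congr 1
        ext x
        exact ⟨fun h => (em (∀ s ∈ B.S, s * x = x * s)).elim (fun h' => Or.inl ⟨h, h'⟩)
          (fun h' => Or.inr ⟨h, h'⟩), fun h => h.elim And.left And.left⟩
      have hinv : ∀ x ∈ hits K φ B.a, x ∈ B.S ∧ x * x = 1 := by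
        rintro x ⟨hx, hc, -⟩
        obtain ⟨g, hg⟩ := isConj_iff.1 hc
        have hxx : x * x = 1 := by
          rw [← hg, show g * B.a * g⁻¹ * (g * B.a * g⁻¹) = g * (B.a * B.a) * g⁻¹ by group, haa]
          group
        exact ⟨hinvS x hx hxx, hxx⟩
      have e0 : Y0 = {B.E M6.gr, B.E M6.grz} := by
        ext x
        constructor
        · rintro ⟨hxh, hcomm⟩
          obtain ⟨u, hu, rfl⟩ := (hinv x hxh).1
          obtain ⟨-, hc, hne⟩ := hxh
          have hz := (central_iff B hu).1 hcomm
          rw [hφ, extFun_of_mem (E_mem B hu), sfun_E B _ hu] at hne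
          have hne' : M6.phiA cc u = true := by
            cases hp : M6.phiA cc u
            · rw [hp] at hne; exact absurd rfl hne
            · rfl
          have hct : B.Cls B.t → ∀ v : M6, B.Cls (B.E v) → IsConj B.a (B.E v) → False :=
            fun _ v hv ha => h2 (by rw [E_gr]; exact hv.trans ha.symm)
          rcases M6.inZ_cases u hz with rfl | rfl | rfl | rfl | rfl | rfl | rfl | rfl
          · exact absurd hne' ((show ∀ k : Bool, ¬M6.phiA k M6.one = true by decide) cc)
          · exact absurd hne' ((show ∀ k : Bool, ¬M6.phiA k M6.gz = true by decide) cc)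
          · exact (hct (Cls_t B) _ (by rw [E_gt]; exact Cls_t B) hc).elim
          · exact (hct (Cls_t B) _ h1 hc).elim
          · exact Or.inl rfl
          · exact Or.inr rfl
          · exact (hfixed _ rfl (M6.sw_ta θ hθ hirz).1 hc).elim
          · exact (hfixed _ rfl (M6.sw_ta θ hθ hirz).2 hc).elim
        · rintro (rfl | rfl)
          · refine ⟨⟨le_extSub (E_mem B rfl), by rw [E_gr], ?_⟩, (central_iff B rfl).2 rfl⟩
            rw [E_gr, hφa]; exact one'_ne
          · refine ⟨⟨le_extSub (E_mem B rfl), ?_, ?_⟩, (central_iff B rfl).2 rfl⟩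
            · exact isConj_iff.2 ⟨f, by rw [hfa, E_grz]⟩
            · rw [hφ, extFun_of_mem (E_mem B rfl), sfun_E B _ rfl, M6.phiA]
              cases cc <;> exact one'_ne
      have hY0 : Y0.ncard = 2 := by
        rw [e0, Set.ncard_pair fun h => absurd (E_inj B rfl rfl h) (by decide)]
      have e1 : 2 ^ 2 ∣ Y1.ncard := by
        refine pow_dvd_card_of_index hKP Y1 ?_ ?_
        · rintro r hr x ⟨⟨hx, hc, hne⟩, hnc⟩
          refine ⟨⟨K.mul_mem (K.mul_mem hr hx) (K.inv_mem hr),
            hc.trans (isConj_iff.2 ⟨r, rfl⟩), ?_⟩, fun h => hnc fun s hs => ?_⟩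
          · rwa [hhom _ (K.mul_mem hr hx) _ (K.inv_mem hr), hhom _ hr _ hx, hhom.map_inv hr,
              mul_comm (φ r), mul_assoc, C2_mul_self, mul_one]
          · have hrN : r ∈ B.N := by
              rcases hr with hr | hr
              · exact S_le_N B hr
              · simpa using B.N.mul_mem hf (S_le_N B hr)
            have h' := h _ (conj_S B hrN hs)
            have := congrArg (fun y => r⁻¹ * y * r) h'
            simpa [mul_assoc] using this
        · rintro x ⟨hxh, hnc⟩
          obtain ⟨u, hu, rfl⟩ := (hinv x hxh).1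
          have hs1 : u.sq1 = true := by
            have := (hinv _ hxh).2
            rw [E_mul B hu hu, ← E_one B] at this
            exact decide_eq_true (E_inj B (M6.low_mul _ _ hu hu) rfl this)
          have hnz : u.inZ ≠ true := fun h => hnc ((central_iff B hu).2 h)
          have htyp : u.typP = true ∨ u.typQ = true :=
            (show ∀ u : M6, u.low = true → u.sq1 = true → u.inZ ≠ true →
              u.typP = true ∨ u.typQ = true by decide +kernel) u hu hs1 hnz
          have hsub : K ⊓ centralizer ({B.E u} : Set G) ≤ B.S := by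
            rintro y ⟨hy, hyc⟩
            refine hy.elim id fun hh => ?_
            exfalso
            obtain ⟨s, hs, hse⟩ := hh
            have hye : y = f * B.E s := by rw [hse]; group
            have hcm := mem_centralizer_singleton_iff.1 hyc
            have hinv' : B.E s.inv = (B.E s)⁻¹ := (inv_eq_of_mul_eq_one_right
              (by rw [E_mul B hs (M6.low_inv s hs), M6.mul_inv, E_one])).symm
            have hl := M6.low_mul _ _ (M6.low_mul _ _ hs hu) (M6.low_inv s hs)
            have e : B.E (M6.sw θ (M6.mul (M6.mul s u) s.inv)) = B.E u := by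
              rw [← hconj _ hl, ← E_mul B (M6.low_mul _ _ hs hu) (M6.low_inv s hs),
                ← E_mul B hs hu, hinv']
              calc f * (B.E s * B.E u * (B.E s)⁻¹) * f⁻¹ = y * B.E u * y⁻¹ := by rw [hye]; group
                _ = B.E u := by rw [hcm, mul_inv_cancel_right]
            have e' := E_inj B (M6.sw_basic θ hθ _ hl).1 hu e
            obtain ⟨-, -, -, hPQ', hQP'⟩ := M6.sw_basic θ hθ _ hl
            rw [e'] at hPQ' hQP'
            have hsame : ((M6.mul (M6.mul s u) s.inv).bP = u.bP) ∧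
                ((M6.mul (M6.mul s u) s.inv).bQ = u.bQ) := by
              obtain ⟨a1, a2, a3, a4, a5, a6⟩ := s
              obtain ⟨b1, b2, b3, b4, b5, b6⟩ := u
              simp only [M6.mul, M6.inv, M6.bP, M6.bQ]
              constructor <;> cases a4 <;> cases a5 <;> cases b4 <;> cases b5 <;> rfl
            have hlw : (M6.mul (M6.mul s u) s.inv).bf = false := by simpa [M6.low] using hl
            have hub : u.bf = false := by simpa [M6.low] using hu
            simp only [M6.typP, M6.typQ, hsame.1, hsame.2, hlw, hub] at hPQ' hQP' htyp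
            revert hPQ' hQP' htyp
            cases u.bP <;> cases u.bQ <;> simp
          have hproper : ¬B.S ≤ K ⊓ centralizer ({B.E u} : Set G) := fun h => hnc fun s hs =>
            mem_centralizer_singleton_iff.1 (h hs).2
          have hd := Subgroup.card_dvd_of_le hsub
          rw [card_S] at hd
          have hne : Nat.card ↥(K ⊓ centralizer ({B.E u} : Set G)) ≠ 32 := fun h =>
            hproper (Subgroup.eq_of_le_of_card_ge hsub (by rw [card_S, h])).ge
          have : Nat.card ↥(K ⊓ centralizer ({B.E u} : Set G)) ≤ 16 := by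
            have h32 := Nat.le_of_dvd (by norm_num) hd
            generalize Nat.card ↥(K ⊓ centralizer ({B.E u} : Set G)) = q at hd hne h32 ⊢
            revert hd hne
            interval_cases q <;> decide
          rw [hKcard]
          omega
      refine index_two_of_hits (v := B.a) haa hhom (c := 5) (e := 1) hcardk hk (b := 1)
        (by rw [hKcard]; rfl) (m := (Y0.ncard + Y1.ncard) / 2) (by rw [hsplit]; omega) ?_
      rw [Nat.odd_iff]
      omega

theorem two_case : ∃ H : Subgroup G, H.index = 2 := by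
  obtain ⟨f, hf, hft⟩ := exists_shift B h1
  obtain ⟨vP, vQ, eP, eQ, h | h⟩ := N_types B hf
  · exact two_preserving h1 h2 h3 h4 h5 hf hft eP eQ h.1 h.2
  · exact two_swapping h1 h2 h3 h4 h5 hf hft eP eQ h.1 h.2

end Base

end Cfsg.Agent.Block.STwoSix
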