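import Cfsg.Agent.Lib.Block.STwoSix.Make
import Cfsg.Agent.Lib.Block.STwoSix.FourMain
import Cfsg.Agent.Lib.Block.STwoSix.NotThree
import Cfsg.Agent.Lib.Block.STwoSix.TwoSwap

/-!
An involution with centraliser `C₂ × S₆` or `C₂ × S₇` forces a subgroup of index two.
-/

set_option autoImplicit false
set_option linter.unusedSectionVars false
set_option synthInstance.maxSize 4096
set_option synthInstance.maxHeartbeats 400000
set_option maxRecDepth 8000

namespace Cfsg.Agent.Block.STwoSix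

open Equiv Subgroup

variable {G : Type*} [Group G] [Finite G]

/-- Any shape except `{t, tz, a, az}`. -/
theorem Base.case_split (B : Base G) (hno : ¬∃ H : Subgroup G, H.index = 2) :
    B.Cls (B.E M6.gtz) ∧ B.Cls (B.E M6.gr) ∧ B.Cls (B.E M6.grz) ∧ ¬B.Cls (B.E M6.gtr) ∧
      ¬B.Cls (B.E M6.gtrz) := by
  rcases B.shape hno with ⟨a1, a2, a3, a4, a5⟩ | ⟨a1, a2, a3, a4, a5⟩ | h | ⟨a1, a2, a3, a4, a5⟩ |
    ⟨a1, a2, a3⟩
  · exact absurd (Base.two_case a1 a2 a3 a4 a5) hno
  · exact absurd (Four.four_case ⟨a1, a4, a5, a2, a3⟩) hno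
  · exact h
  · obtain ⟨f, hf, hft⟩ := Base.exists_shift B a1
    exact (Base.not_six B hf hft a2 a4).elim
  · exact (Base.not_three B a1 a2 a3).elim

/-- Multiplication of the first factor by the sign. -/
def twist (m : ℕ) : C2 × Perm (Fin m) →* C2 × Perm (Fin m) :=
  MonoidHom.mk' (fun x => (x.1 * sgn2 (Perm.sign x.2), x.2)) fun x y => by
    refine Prod.ext ?_ rfl
    show x.1 * y.1 * sgn2 (Perm.sign (x.2 * y.2)) =
      x.1 * sgn2 (Perm.sign x.2) * (y.1 * sgn2 (Perm.sign y.2))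
    rw [map_mul, map_mul]
    ac_rfl

theorem twist_twist (m : ℕ) (x : C2 × Perm (Fin m)) : twist m (twist m x) = x := by
  refine Prod.ext ?_ rfl
  show x.1 * sgn2 (Perm.sign x.2) * sgn2 (Perm.sign x.2) = x.1
  rw [mul_assoc, C2_mul_self, mul_one]

theorem index_two_of_model {m : ℕ} (hm : m = 6 ∨ m = 7) (t : G)
    (ι : C2 × Perm (Fin m) →* G) (hι : Function.Injective ι)
    (hr : ι.range = Subgroup.centralizer ({t} : Set G)) (ht : ι (one', 1) = t)
    (ℓ : Perm (Fin 6) →* Perm (Fin m)) (hℓ : Function.Injective ℓ)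
    (hsupp : ∀ σ, (ℓ σ).support.card = σ.support.card)
    (hsign : ∀ σ, Perm.sign (ℓ σ) = Perm.sign σ)
    (hJ : ∀ i j : Fin m,
      (ℓ pa i = i ∧ ℓ pz i = i ∧ (ℓ pP i = i ∨ ℓ pQ i = i)) →
      (ℓ pa j = j ∧ ℓ pz j = j ∧ (ℓ pP j = j ∨ ℓ pQ j = j)) → i = j)
    (hrange : ∀ π : Perm (Fin m),
      (∀ j : Fin m, (∀ σ, ℓ σ j = j) → π j = j) → π ∈ ℓ.range) :
    ∃ H : Subgroup G, H.index = 2 := by
  by_contra hno
  obtain ⟨B, bt, ba, bz⟩ := exists_base hm t ι hι hr ht ℓ hℓ hsupp hsign hJ hrange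
  obtain ⟨h1, h2, h3, -, -⟩ := B.case_split hno
  have hinj : Function.Injective (ι.comp (twist m)) :=
    hι.comp (Function.LeftInverse.injective (twist_twist m))
  have hr' : (ι.comp (twist m)).range = Subgroup.centralizer ({t} : Set G) := by
    rw [← hr]
    refine le_antisymm ?_ ?_
    · rintro _ ⟨x, rfl⟩; exact ⟨_, rfl⟩
    · rintro _ ⟨x, rfl⟩; exact ⟨twist m x, congrArg ι (twist_twist m x)⟩
  have ht' : ι.comp (twist m) (one', 1) = t := by
    rw [← ht]
    refine congrArg ι (Prod.ext ?_ rfl)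
    show one' * sgn2 (Perm.sign (1 : Perm (Fin m))) = one'
    rw [map_one, map_one, mul_one]
  obtain ⟨B', bt', ba', bz'⟩ := exists_base hm t (ι.comp (twist m)) hinj hr' ht' ℓ hℓ hsupp hsign
    hJ hrange
  obtain ⟨-, -, -, h4, -⟩ := B'.case_split hno
  apply h4
  have ea : B'.a = B.t * B.a := by
    rw [ba', ba, bt, ← ht, ← map_mul]
    refine congrArg ι (Prod.ext ?_ ?_)
    · show (1 : C2) * sgn2 (Perm.sign (ℓ pa)) = one' * 1
      rw [hsign, sign_facts.1]
      decide
    · exact (one_mul _).symm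
  have hcl : ∀ g : G, B'.Cls g ↔ B.Cls g := fun g => by rw [Base.Cls, Base.Cls, bt, bt']
  rw [hcl, Base.E_gtr, ea, bt', ← bt, B.five.ta, mul_assoc, B.five.tt, mul_one, ← Base.E_gr]
  exact h2

theorem sgn_eq_one_of_comm {n : ℕ} (hn : 3 ≤ n) (σ : Perm (Fin n))
    (h : ∀ π : Perm (Fin n), σ * π = π * σ) : σ = 1 := by
  ext1 i
  by_contra hi
  have : (({i, σ i} : Finset (Fin n))ᶜ).Nonempty := by
    rw [← Finset.card_pos, Finset.card_compl, Fintype.card_fin]
    have := (Finset.card_le_two : ({i, σ i} : Finset (Fin n)).card ≤ 2)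
    omega
  obtain ⟨k, hk⟩ := this
  simp only [Finset.mem_compl, Finset.mem_insert, Finset.mem_singleton, not_or] at hk
  have h1 := DFunLike.congr_fun (h (swap i k)) i
  rw [Perm.mul_apply, Perm.mul_apply, swap_apply_left,
    swap_apply_of_ne_of_ne (show σ i ≠ i from hi) (Ne.symm hk.2)] at h1
  exact hk.1 (σ.injective h1)

/-- The embedding data from the isomorphism. -/
theorem exists_iota {n : ℕ} (hn : 3 ≤ n) (t : G) (ht : orderOf t = 2)
    (e : ↥(Subgroup.centralizer ({t} : Set G)) ≃* C2 × Perm (Fin n)) :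
    ∃ ι : C2 × Perm (Fin n) →* G, Function.Injective ι ∧
      ι.range = Subgroup.centralizer ({t} : Set G) ∧ ι (one', 1) = t := by
  set C := Subgroup.centralizer ({t} : Set G)
  refine ⟨C.subtype.comp e.symm.toMonoidHom, fun x y h => e.symm.injective (Subtype.ext h), ?_, ?_⟩
  · refine le_antisymm ?_ fun g hg => ⟨e ⟨g, hg⟩, by simp⟩
    rintro _ ⟨x, rfl⟩
    exact (e.symm x).2
  · have htC : t ∈ C := Subgroup.mem_centralizer_singleton_iff.2 rfl
    have hcent : ∀ x : C, (⟨t, htC⟩ : C) * x = x * ⟨t, htC⟩ := fun x =>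
      Subtype.ext (Subgroup.mem_centralizer_singleton_iff.1 x.2).symm
    have h2 : (e ⟨t, htC⟩).2 = 1 := sgn_eq_one_of_comm hn _ fun π => by
      have := congrArg (fun x => (e x).2) (hcent (e.symm (1, π)))
      simpa using this
    have h1 : (e ⟨t, htC⟩).1 = one' := by
      refine (C2_cases _).resolve_left fun h => ?_
      have : e ⟨t, htC⟩ = 1 := Prod.ext h h2
      rw [map_eq_one_iff e e.injective] at this
      have ht1 : t = 1 := congrArg Subtype.val this
      rw [ht1, orderOf_one] at ht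
      omega
    have : e.symm (one', 1) = ⟨t, htC⟩ := by
      rw [MulEquiv.symm_apply_eq]
      exact Prod.ext h1.symm h2.symm
    exact congrArg Subtype.val this

/-- The centraliser `C₂ × S₆`. -/
theorem index_two_six (t : G) (ht : orderOf t = 2)
    (e : ↥(Subgroup.centralizer ({t} : Set G)) ≃* C2 × Perm (Fin 6)) :
    ∃ H : Subgroup G, H.index = 2 := by
  obtain ⟨ι, hι, hr, ht'⟩ := exists_iota (by norm_num) t ht e
  exact index_two_of_model (Or.inl rfl) t ι hι hr ht' (MonoidHom.id _) (fun _ _ h => h)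
    (fun _ => rfl) (fun _ => rfl)
    (fun i j hi => ((show ∀ i : Fin 6, ¬(pa i = i ∧ pz i = i ∧ (pP i = i ∨ pQ i = i)) by
      decide +kernel) i hi).elim)
    (fun π _ => ⟨π, rfl⟩)

/-- `S₆` as the stabiliser of the last point of `S₇`. -/
def ext7 : Perm (Fin 6) →* Perm (Fin 7) :=
  Perm.extendDomainHom (finSuccAboveEquiv (6 : Fin 7))

theorem ext7_hJ : ∀ i j : Fin 7,
    (ext7 pa i = i ∧ ext7 pz i = i ∧ (ext7 pP i = i ∨ ext7 pQ i = i)) →
    (ext7 pa j = j ∧ ext7 pz j = j ∧ (ext7 pP j = j ∨ ext7 pQ j = j)) → i = j := by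
  decide +kernel

theorem ext7_last (π : Perm (Fin 7)) (hπ : π 6 = 6) : π ∈ ext7.range := by
  let f := finSuccAboveEquiv (6 : Fin 7)
  have h : ∀ x, π x ≠ 6 ↔ x ≠ 6 := fun x =>
    not_congr ⟨fun e => π.injective (e.trans hπ.symm), fun e => by rw [e, hπ]⟩
  refine ⟨f.symm.permCongr (π.subtypePerm h), ?_⟩
  refine Equiv.ext fun x => ?_
  show Perm.extendDomain (f.symm.permCongr (π.subtypePerm h)) f x = π x
  by_cases hx : x = 6
  · subst hx
    exact (Perm.extendDomain_apply_not_subtype _ f (fun h => h rfl)).trans hπ.symm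
  · rw [Perm.extendDomain_apply_subtype _ f hx]
    simp [Equiv.permCongr_apply]

/-- The centraliser `C₂ × S₇`. -/
theorem index_two_seven (t : G) (ht : orderOf t = 2)
    (e : ↥(Subgroup.centralizer ({t} : Set G)) ≃* C2 × Perm (Fin 7)) :
    ∃ H : Subgroup G, H.index = 2 := by
  obtain ⟨ι, hι, hr, ht'⟩ := exists_iota (by norm_num) t ht e
  exact index_two_of_model (Or.inr rfl) t ι hι hr ht' ext7 (Perm.extendDomainHom_injective _)
    (fun σ => Perm.card_support_extend_domain _)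
    (fun σ => Perm.sign_extendDomain σ _)
    ext7_hJ
    (fun π h => ext7_last π (h 6 fun σ =>
      Perm.extendDomain_apply_not_subtype _ _ (by simp)))

end Cfsg.Agent.Block.STwoSix
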