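import Cfsg.Agent.Lib.Block.STwoSix.Base

/-!
Construction of the data from an explicit centraliser `C₂ × S₆` or `C₂ × S₇`.
-/

set_option autoImplicit false
set_option linter.unusedSectionVars false
set_option synthInstance.maxSize 4096
set_option synthInstance.maxHeartbeats 400000
set_option maxRecDepth 8000

namespace Cfsg.Agent.Block.STwoSix

open Equiv

/-- `(45)`. -/
def pa : Perm (Fin 6) := swap 4 5
/-- `(01)`. -/
def pP : Perm (Fin 6) := swap 0 1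
/-- `(02)(13)`. -/
def pQ : Perm (Fin 6) := swap 0 2 * swap 1 3
/-- `(01)(23)`. -/
def pz : Perm (Fin 6) := swap 0 1 * swap 2 3
/-- `(01) → (23) → (45) → (01)`. -/
def pc : Perm (Fin 6) := swap 0 2 * swap 2 4 * (swap 1 3 * swap 3 5)
/-- `(123)`. -/
def pρ : Perm (Fin 6) := swap 1 2 * swap 2 3

/-- The permutation part of a low vector. -/
def pu (u : M6) : Perm (Fin 6) := ev pz pa 1 pP pQ 1 u

theorem pu_inj : ∀ u : M6, u.low = true → u.bt = false → pu u = 1 → u = M6.one := by decide +kernel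

theorem pu_sq : ∀ u : M6, u.low = true → u.sq1 = true →
    ∃ d ∈ ([1, swap 2 4 * swap 3 5, swap 0 4 * swap 1 5, swap 1 2, swap 1 3] :
      List (Perm (Fin 6))), d * pu u * d⁻¹ = pu u.can := by decide +kernel

theorem can_facts : ∀ u : M6, u.low = true → u.sq1 = true →
    u.can.inZ = true ∧ u.can.bt = u.bt ∧
      (pu u.can).support.card = (pu u).support.card := by decide +kernel

theorem code_inj : ∀ u : M6, u.inZ = true → ∀ v : M6, v.inZ = true → u.bt = v.bt →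
    (pu u).support.card = (pu v).support.card → u = v := by decide +kernel

theorem pu_cent : ∀ σ : Perm (Fin 6), σ * pa = pa * σ → σ * pP = pP * σ → σ * pQ = pQ * σ →
    σ ∈ ([pu M6.one, pu M6.gz, pu M6.gr, pu (M6.mul M6.gz M6.gr)] : List (Perm (Fin 6))) := by
  decide +kernel

theorem pu_centA1 : ∀ σ : Perm (Fin 6), σ * pa = pa * σ → σ * pP = pP * σ → σ * pz = pz * σ →
    σ ∈ ([pu M6.one, pu M6.gz, pu M6.gr, pu (M6.mul M6.gz M6.gr), pu M6.gP,
      pu (M6.mul M6.gz M6.gP), pu (M6.mul M6.gr M6.gP),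
      pu (M6.mul (M6.mul M6.gz M6.gr) M6.gP)] : List (Perm (Fin 6))) := by
  decide +kernel

theorem pu_centA2 : ∀ σ : Perm (Fin 6), σ * pa = pa * σ → σ * pQ = pQ * σ → σ * pz = pz * σ →
    σ ∈ ([pu M6.one, pu M6.gz, pu M6.gr, pu (M6.mul M6.gz M6.gr), pu M6.gQ,
      pu (M6.mul M6.gz M6.gQ), pu (M6.mul M6.gr M6.gQ),
      pu (M6.mul (M6.mul M6.gz M6.gr) M6.gQ)] : List (Perm (Fin 6))) := by
  decide +kernel

/-- The 16 permutation parts of the low vectors. -/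
def lowList : List M6 :=
  [M6.one, M6.gz, M6.gr, M6.mul M6.gz M6.gr, M6.gP, M6.mul M6.gz M6.gP, M6.mul M6.gr M6.gP,
    M6.mul (M6.mul M6.gz M6.gr) M6.gP, M6.gQ, M6.mul M6.gz M6.gQ, M6.mul M6.gr M6.gQ,
    M6.mul (M6.mul M6.gz M6.gr) M6.gQ, M6.mul M6.gP M6.gQ, M6.mul M6.gz (M6.mul M6.gP M6.gQ),
    M6.mul M6.gr (M6.mul M6.gP M6.gQ), M6.mul (M6.mul M6.gz M6.gr) (M6.mul M6.gP M6.gQ)]

theorem mem_lowList : ∀ u : M6, u.low = true →
    (u.bz, u.br, false, u.bP, u.bQ, false) ∈ lowList := by decide +kernel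

theorem lowList_low : ∀ u ∈ lowList, u.low = true ∧ u.bt = false := by decide +kernel

theorem pu_norm : ∀ σ : Perm (Fin 6), σ * pa * σ⁻¹ ∈ lowList.map pu →
    σ * pP * σ⁻¹ ∈ lowList.map pu → σ * pQ * σ⁻¹ ∈ lowList.map pu → σ ∈ lowList.map pu := by
  decide +kernel

theorem cycle_facts : pc * pa * pc⁻¹ = pP ∧ pc * pP * pc⁻¹ = pP * pz ∧
    pc * (pP * pz) * pc⁻¹ = pa ∧ pc * pc * pc = 1 ∧ pρ * pa * pρ⁻¹ = pa ∧
    pρ * pz * pρ⁻¹ = pQ ∧ pρ * pQ * pρ⁻¹ = pQ * pz ∧ pρ * pρ * pρ = 1 := by decide +kernel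

theorem five_facts : pz * pz = 1 ∧ pa * pa = 1 ∧ pP * pP = 1 ∧ pQ * pQ = 1 ∧ pa * pz = pz * pa ∧
    pP * pz = pz * pP ∧ pQ * pz = pz * pQ ∧ pP * pa = pa * pP ∧ pQ * pa = pa * pQ ∧
    pQ * pP = pz * (pP * pQ) := by decide +kernel

theorem sign_facts : Perm.sign pa = -1 ∧ Perm.sign pz = 1 := by decide +kernel

variable {G : Type*} [Group G] [Finite G]

theorem bp_map {A B : Type*} [Group A] [Group B] (f : A →* B) (g : A) (b : Bool) :
    f (bp g b) = bp (f g) b := by cases b <;> simp [bp]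

theorem ev_map {A B : Type*} [Group A] [Group B] (f : A →* B) (z r t P Q h : A) (u : M6) :
    f (ev z r t P Q h u) = ev (f z) (f r) (f t) (f P) (f Q) (f h) u := by
  simp [ev, bp_map]

/-- Bool as an element of the group of order two. -/
def bc (b : Bool) : C2 := bp one' b

theorem bc_inj : ∀ b b' : Bool, bc b = bc b' → b = b' := by decide

theorem bc_surj : ∀ e : C2, ∃ b : Bool, bc b = e := by decide

/-- Sign with values in the group of order two. -/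
def sgn2 : ℤˣ →* C2 := MonoidHom.mk' (fun u => if u = 1 then 1 else one') (by decide)

theorem exists_base {m : ℕ} (hm : m = 6 ∨ m = 7) (t : G)
    (ι : C2 × Perm (Fin m) →* G) (hι : Function.Injective ι)
    (hr : ι.range = Subgroup.centralizer ({t} : Set G)) (ht : ι (one', 1) = t)
    (ℓ : Perm (Fin 6) →* Perm (Fin m)) (hℓ : Function.Injective ℓ)
    (hsupp : ∀ σ, (ℓ σ).support.card = σ.support.card)
    (hsign : ∀ σ, Perm.sign (ℓ σ) = Perm.sign σ)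
    (hJ : ∀ i j : Fin m,
      (ℓ pa i = i ∧ ℓ pz i = i ∧ (ℓ pP i = i ∨ ℓ pQ i = i)) →
      (ℓ pa j = j ∧ ℓ pz j = j ∧ (ℓ pP j = j ∨ ℓ pQ j = j)) → i = j)
    (hrange : ∀ π : Perm (Fin m),
      (∀ j : Fin m, (∀ σ, ℓ σ j = j) → π j = j) → π ∈ ℓ.range) :
    ∃ B : Base G, B.t = t ∧ B.a = ι (1, ℓ pa) ∧ B.z = ι (1, ℓ pz) := by
  classical
  set e6 : Perm (Fin 6) → G := fun σ => ι (1, ℓ σ) with he6
  let j : Perm (Fin 6) →* G := ι.comp (((1 : Perm (Fin 6) →* C2)).prod ℓ)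
  have hj : ∀ σ, j σ = e6 σ := fun σ => rfl
  have hjt : ∀ σ, e6 σ * t = t * e6 σ := fun σ => by
    rw [he6, ← ht, ← map_mul, ← map_mul]; congr 1
  have hev : ∀ u : M6, ev (e6 pz) (e6 pa) t (e6 pP) (e6 pQ) 1 u = ι (bc u.bt, ℓ (pu u)) := by
    intro u
    have h1 : (bc u.bt, ℓ (pu u)) = ev ((1 : C2), ℓ pz) (1, ℓ pa) (one', 1) (1, ℓ pP) (1, ℓ pQ) 1 u := by
      have hfst := ev_map (MonoidHom.fst C2 (Perm (Fin m))) ((1 : C2), ℓ pz) (1, ℓ pa) (one', 1)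
        (1, ℓ pP) (1, ℓ pQ) 1 u
      have hsnd := ev_map (MonoidHom.snd C2 (Perm (Fin m))) ((1 : C2), ℓ pz) (1, ℓ pa) (one', 1)
        (1, ℓ pP) (1, ℓ pQ) 1 u
      simp only [MonoidHom.coe_fst, MonoidHom.coe_snd, Prod.fst_one, Prod.snd_one] at hfst hsnd
      refine Prod.ext ?_ ?_
      · show bc u.bt = _
        rw [hfst]
        simp only [ev, bp, ite_self, one_mul, mul_one, bc]
      · show ℓ (pu u) = _
        rw [hsnd, pu, ev_map]
        simp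
    rw [h1, ev_map, ht, map_one]
  have hmemC : ∀ p, ι p * t = t * ι p := fun p => by
    rw [← ht, ← map_mul, ← map_mul]
    congr 1
    exact Prod.ext (mul_comm _ _) (by simp)
  have hC : ∀ x : G, x * t = t * x → ∃ p, ι p = x := fun x hx => by
    have : x ∈ ι.range := hr ▸ Subgroup.mem_centralizer_singleton_iff.2 hx
    exact this
  have hpe : ∀ (e e' : C2) (π π' : Perm (Fin m)),
      ι (e, π) * ι (e', π') * (ι (e, π))⁻¹ = ι (e', π * π' * π⁻¹) := fun e e' π π' => by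
    rw [← map_inv, ← map_mul, ← map_mul]
    refine congrArg ι (Prod.ext ?_ rfl)
    show e * e' * e⁻¹ = e'
    rw [mul_inv_cancel_comm]
  have hcomm : ∀ (e : C2) (π : Perm (Fin m)) (σ : Perm (Fin 6)),
      ι (e, π) * e6 σ = e6 σ * ι (e, π) → π * ℓ σ = ℓ σ * π := fun e π σ h => by
    rw [he6, ← map_mul, ← map_mul] at h
    exact congrArg Prod.snd (hι h)
  -- the lift of a permutation fixing the common fixed point
  have hlift : ∀ π : Perm (Fin m), ∀ g : Perm (Fin 6), (g = pP ∨ g = pQ) →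
      (∀ i, ℓ pa i = i → ℓ pz i = i → ℓ g i = i →
        ℓ pa (π i) = π i ∧ ℓ pz (π i) = π i ∧ ℓ g (π i) = π i) → ∃ σ, ℓ σ = π := by
    intro π g hg h
    refine hrange π fun i hi => ?_
    obtain ⟨h1, h2, h3⟩ := h i (hi _) (hi _) (hi _)
    exact hJ _ _ ⟨h1, h2, hg.elim (fun e => Or.inl (e ▸ h3)) (fun e => Or.inr (e ▸ h3))⟩
      ⟨hi _, hi _, Or.inl (hi _)⟩
  have hcfix : ∀ (π : Perm (Fin m)) (σ : Perm (Fin 6)) (i : Fin m), π * ℓ σ = ℓ σ * π →
      ℓ σ i = i → ℓ σ (π i) = π i := fun π σ i h hi => by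
    rw [← Perm.mul_apply, ← h, Perm.mul_apply, hi]
  have hfromlist : ∀ (e : C2) (σ : Perm (Fin 6)) (l : List M6),
      σ ∈ l.map pu → (∀ u ∈ l, u.low = true) → ∃ v ∈ l,
        ev (e6 pz) (e6 pa) t (e6 pP) (e6 pQ) 1
          (v.bz, v.br, decide (e = one'), v.bP, v.bQ, false) = ι (e, ℓ σ) := by
    intro e σ l hσ hl
    obtain ⟨v, hv, rfl⟩ := List.mem_map.1 hσ
    refine ⟨v, hv, ?_⟩
    rw [hev]
    have hl' := hl v hv
    obtain ⟨v1, v2, v3, v4, v5, v6⟩ := v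
    simp only [M6.low, M6.bf, Bool.not_eq_true'] at hl'
    subst hl'
    refine congrArg ι (Prod.ext ?_ ?_)
    · show bc (decide (e = one')) = e
      rcases C2_cases e with rfl | rfl <;> rfl
    · show ℓ (pu _) = ℓ (pu _)
      congr 1
      simp only [pu, ev, M6.bz, M6.br, M6.bt, M6.bP, M6.bQ, M6.bf]
      cases v3 <;> simp [bp]
  obtain ⟨f1, f2, f3, f4, f5, f6, f7, f8, f9, f10⟩ := five_facts
  obtain ⟨c1, c2, c3, c4, c5, c6, c7, c8⟩ := cycle_facts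
  have hm2 : ∀ σ τ : Perm (Fin 6), e6 (σ * τ) = e6 σ * e6 τ := fun σ τ => by
    rw [← hj, ← hj, ← hj, map_mul]
  have hconj : ∀ σ τ υ : Perm (Fin 6), σ * τ * σ⁻¹ = υ → e6 σ * e6 τ * (e6 σ)⁻¹ = e6 υ := by
    intro σ τ υ h
    rw [← hj, ← hj, ← hj, ← map_inv, ← map_mul, ← map_mul, h]
  have h11 : e6 1 = 1 := by rw [← hj, map_one]
  have hcube : ∀ σ : Perm (Fin 6), σ * σ * σ = 1 → e6 σ * e6 σ * e6 σ = 1 := fun σ h => by
    rw [← hm2, ← hm2, h, h11]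
  have hsq : ∀ σ : Perm (Fin 6), σ * σ = 1 → e6 σ * e6 σ = 1 := fun σ h => by rw [← hm2, h, h11]
  have hcm : ∀ σ τ : Perm (Fin 6), σ * τ = τ * σ → e6 σ * e6 τ = e6 τ * e6 σ := fun σ τ h => by
    rw [← hm2, ← hm2, h]
  refine ⟨{
    t := t, a := e6 pa, z := e6 pz, P := e6 pP, Q := e6 pQ, c := e6 pc, ρ := e6 pρ
    five := ⟨hsq _ f1, hsq _ f2, ?_, hsq _ f3, hsq _ f4, hcm _ _ f5, (hjt _).symm, hcm _ _ f6,
      hcm _ _ f7, (hjt _).symm, hcm _ _ f8, hcm _ _ f9, hjt _, hjt _, ?_⟩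
    inj := ?_
    aC := hjt _
    cC := hjt _
    ρC := hjt _
    card_C := ?_
    cent_Z := ?_
    norm_S := ?_
    cent_A1 := ?_
    cent_A2 := ?_
    conj_can := ?_
    can_eq := ?_
    ca := hconj _ _ _ c1
    cP := (hconj _ _ _ c2).trans (hm2 _ _)
    cPz := by rw [← hm2 pP pz]; exact hconj _ _ _ c3
    c3 := hcube _ c4
    ρa := hconj _ _ _ c5
    ρz := hconj _ _ _ c6
    ρQ := (hconj _ _ _ c7).trans (hm2 _ _)
    ρ3 := hcube _ c8
    chi := ?_ }, rfl, rfl, rfl⟩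
  · rw [← ht, ← map_mul]
    exact (congrArg ι (Prod.ext (C2_mul_self _) (mul_one 1))).trans (map_one ι)
  · rw [← hm2, f10, hm2, hm2]
  · intro u hu h
    rw [hev, ← map_one ι] at h
    obtain ⟨h1, h2⟩ := Prod.ext_iff.1 (hι h)
    refine pu_inj u hu (bc_inj _ _ (h1.trans rfl)) (hℓ ?_)
    rw [map_one]; exact h2
  · have hk : Nat.card (Subgroup.centralizer ({t} : Set G)) = 2 * m.factorial := by
      rw [← hr, ← Nat.card_congr (MonoidHom.ofInjective hι).toEquiv, Nat.card_prod,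
        Nat.card_perm, Nat.card_fin]
      simp [C2]
    rcases hm with rfl | rfl
    · exact ⟨45, by decide, by rw [hk]; rfl⟩
    · exact ⟨315, by decide, by rw [hk]; rfl⟩
  · intro x hx ha hP hQ
    obtain ⟨⟨e, π⟩, rfl⟩ := hC x hx
    have hz' : π * ℓ pz = ℓ pz * π := by
      have c1' : Commute π (ℓ pQ) := hcomm _ _ _ hQ
      have c2' : Commute π (ℓ pP) := hcomm _ _ _ hP
      have : pz = pQ * pP * (pP * pQ)⁻¹ := by rw [f10, mul_inv_cancel_right]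
      rw [this, map_mul, map_mul, map_inv, map_mul]
      exact ((c1'.mul_right c2').mul_right (c2'.mul_right c1').inv_right).eq
    obtain ⟨σ, rfl⟩ := hlift π pP (Or.inl rfl) fun i h1 h2 h3 =>
      ⟨hcfix _ _ _ (hcomm _ _ _ ha) h1, hcfix _ _ _ hz' h2, hcfix _ _ _ (hcomm _ _ _ hP) h3⟩
    have hl := pu_cent σ (hℓ (by rw [map_mul, map_mul]; exact hcomm _ _ _ ha))
      (hℓ (by rw [map_mul, map_mul]; exact hcomm _ _ _ hP))
      (hℓ (by rw [map_mul, map_mul]; exact hcomm _ _ _ hQ))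
    obtain ⟨v, hv, hval⟩ := hfromlist e σ
      [M6.one, M6.gz, M6.gr, M6.mul M6.gz M6.gr] hl (by decide)
    refine ⟨_, ?_, hval⟩
    revert v
    simp only [List.mem_cons, List.not_mem_nil, or_false]
    rintro v (rfl | rfl | rfl | rfl) - <;> rfl
  · rintro x hx ⟨u, hu, h1⟩ ⟨v, hv, h2⟩ ⟨w, hw, h3⟩
    obtain ⟨⟨e, π⟩, rfl⟩ := hC x hx
    rw [hev, hpe] at h1 h2 h3
    obtain ⟨-, g1⟩ := Prod.ext_iff.1 (hι h1)
    obtain ⟨-, g2⟩ := Prod.ext_iff.1 (hι h2)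
    obtain ⟨-, g3⟩ := Prod.ext_iff.1 (hι h3)
    dsimp only at g1 g2 g3
    have hJu : ∀ (u : M6) (i : Fin m), (∀ σ, ℓ σ i = i) → ℓ (pu u) i = i := fun u i hi => hi _
    have back : ∀ (g g' : Perm (Fin 6)) (i : Fin m), ℓ g' = π * ℓ g * π⁻¹ → ℓ g' i = i →
        ℓ g (π⁻¹ i) = π⁻¹ i := by
      intro g g' i h hi
      rw [h, Perm.mul_apply, Perm.mul_apply] at hi
      exact π.injective (by rw [hi, Perm.inv_def, Equiv.apply_symm_apply])
    obtain ⟨σ, hσ⟩ : ∃ σ, ℓ σ = π := by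
      refine hrange π fun i hi => ?_
      have e1 := back _ _ i g1 (hi _)
      have e2 := back _ _ i g2 (hi _)
      have e3 := back _ _ i g3 (hi _)
      have e4 : ℓ pz (π⁻¹ i) = π⁻¹ i := by
        have : pz = pQ * pP * (pQ⁻¹ * pP⁻¹) := by
          rw [← mul_inv_rev, f10, mul_inv_cancel_right]
        rw [this, map_mul, map_mul, map_mul, map_inv, map_inv, Perm.mul_apply, Perm.mul_apply,
          Perm.mul_apply, Perm.inv_eq_iff_eq.2 e2.symm, Perm.inv_eq_iff_eq.2 e3.symm, e2, e3]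
      have := hJ _ _ ⟨e1, e4, Or.inl e2⟩ ⟨hi _, hi _, Or.inl (hi _)⟩
      conv_lhs => rw [← this]
      rw [Perm.inv_def, Equiv.apply_symm_apply]
    subst hσ
    have conv : ∀ (g : Perm (Fin 6)) (u : M6), u.low = true → ℓ (pu u) = ℓ σ * ℓ g * (ℓ σ)⁻¹ →
        σ * g * σ⁻¹ ∈ lowList.map pu := by
      intro g u hu h
      rw [← map_inv, ← map_mul, ← map_mul] at h
      rw [← hℓ h]
      refine List.mem_map.2 ⟨_, mem_lowList u hu, ?_⟩
      obtain ⟨u1, u2, u3, u4, u5, u6⟩ := u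
      simp only [M6.low, M6.bf, Bool.not_eq_true'] at hu
      subst hu
      simp only [pu, ev, M6.bz, M6.br, M6.bt, M6.bP, M6.bQ, M6.bf]
      cases u3 <;> simp [bp]
    have hl := pu_norm σ (conv _ u hu g1) (conv _ v hv g2) (conv _ w hw g3)
    obtain ⟨v', -, hval⟩ := hfromlist e σ lowList hl (fun u hu => (lowList_low u hu).1)
    exact ⟨_, rfl, hval⟩
  · intro x hx ha hP hz
    obtain ⟨⟨e, π⟩, rfl⟩ := hC x hx
    obtain ⟨σ, rfl⟩ := hlift π pP (Or.inl rfl) fun i h1 h2 h3 =>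
      ⟨hcfix _ _ _ (hcomm _ _ _ ha) h1, hcfix _ _ _ (hcomm _ _ _ hz) h2,
        hcfix _ _ _ (hcomm _ _ _ hP) h3⟩
    have hl := pu_centA1 σ (hℓ (by rw [map_mul, map_mul]; exact hcomm _ _ _ ha))
        (hℓ (by rw [map_mul, map_mul]; exact hcomm _ _ _ hP))
        (hℓ (by rw [map_mul, map_mul]; exact hcomm _ _ _ hz))
    obtain ⟨v, hv, hval⟩ := hfromlist e σ [M6.one, M6.gz, M6.gr, M6.mul M6.gz M6.gr, M6.gP,
      M6.mul M6.gz M6.gP, M6.mul M6.gr M6.gP, M6.mul (M6.mul M6.gz M6.gr) M6.gP] hl (by decide)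
    refine ⟨_, rfl, ?_, hval⟩
    revert v
    simp only [List.mem_cons, List.not_mem_nil, or_false]
    rintro v (rfl | rfl | rfl | rfl | rfl | rfl | rfl | rfl) - <;> rfl
  · intro x hx ha hQ hz
    obtain ⟨⟨e, π⟩, rfl⟩ := hC x hx
    obtain ⟨σ, rfl⟩ := hlift π pQ (Or.inr rfl) fun i h1 h2 h3 =>
      ⟨hcfix _ _ _ (hcomm _ _ _ ha) h1, hcfix _ _ _ (hcomm _ _ _ hz) h2,
        hcfix _ _ _ (hcomm _ _ _ hQ) h3⟩
    have hl := pu_centA2 σ (hℓ (by rw [map_mul, map_mul]; exact hcomm _ _ _ ha))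
        (hℓ (by rw [map_mul, map_mul]; exact hcomm _ _ _ hQ))
        (hℓ (by rw [map_mul, map_mul]; exact hcomm _ _ _ hz))
    obtain ⟨v, hv, hval⟩ := hfromlist e σ [M6.one, M6.gz, M6.gr, M6.mul M6.gz M6.gr, M6.gQ,
      M6.mul M6.gz M6.gQ, M6.mul M6.gr M6.gQ, M6.mul (M6.mul M6.gz M6.gr) M6.gQ] hl (by decide)
    refine ⟨_, rfl, ?_, hval⟩
    revert v
    simp only [List.mem_cons, List.not_mem_nil, or_false]
    rintro v (rfl | rfl | rfl | rfl | rfl | rfl | rfl | rfl) - <;> rfl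
  · intro u hu hs
    obtain ⟨d, -, hd⟩ := pu_sq u hu hs
    refine ⟨e6 d, hjt _, ?_⟩
    rw [hev, hev, (can_facts u hu hs).2.1, he6, hpe, ← map_inv ℓ, ← map_mul, ← map_mul, hd]
  · intro u v hu hv hus hvs d hd h
    obtain ⟨⟨e, π⟩, rfl⟩ := hC d hd
    rw [hev, hev, hpe] at h
    obtain ⟨h1, h2⟩ := Prod.ext_iff.1 (hι h)
    dsimp only at h1 h2
    have hcard : (pu u).support.card = (pu v).support.card := by
      rw [← hsupp, ← hsupp (pu v), ← h2, Perm.card_support_conj]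
    obtain ⟨a1, b1, d1⟩ := can_facts u hu hus
    obtain ⟨a2, b2, d2⟩ := can_facts v hv hvs
    exact code_inj _ a1 _ a2 (by rw [b1, b2, bc_inj _ _ h1]) (by rw [d1, d2, hcard])
  · let F : (C2 × Perm (Fin m) →* C2) → G → C2 := fun φ g =>
      if h : ∃ p, ι p = g then φ h.choose else 1
    have hF : ∀ φ p, F φ (ι p) = φ p := fun φ p => by
      have h : ∃ q, ι q = ι p := ⟨p, rfl⟩
      show (if h : ∃ q, ι q = ι p then φ h.choose else 1) = φ p
      rw [dif_pos h, hι h.choose_spec]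
    have hom : ∀ φ, HomOn (Subgroup.centralizer ({t} : Set G)) (F φ) := fun φ x hx y hy => by
      obtain ⟨p, rfl⟩ := (hr ▸ hx : x ∈ ι.range)
      obtain ⟨q, rfl⟩ := (hr ▸ hy : y ∈ ι.range)
      rw [← map_mul, hF, hF, hF, map_mul]
    let φ1 : C2 × Perm (Fin m) →* C2 := MonoidHom.fst _ _
    let φ2 : C2 × Perm (Fin m) →* C2 := (sgn2.comp Perm.sign).comp (MonoidHom.snd _ _)
    refine ⟨F φ1, F φ2, hom _, hom _, ?_, hF _ _, hF _ _, ?_, ?_, ?_⟩
    · rw [← ht, hF]; rfl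
    · rw [← ht, hF]; simp [φ2]
    · rw [he6, hF]; simp [φ2, hsign, sign_facts.1, sgn2]
    · rw [he6, hF]; simp [φ2, hsign, sign_facts.2, sgn2]

end Cfsg.Agent.Block.STwoSix
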