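import Cfsg.Agent.Lib.Block.STwoSix.Ext

/-!
A model of the group of order 64 generated by `z, r, t, P, Q, f` (the product of a group of
order two and an extraspecial group of order 32) and of its extension by an involution `y`.
-/

set_option autoImplicit false
set_option linter.unusedSectionVars false
set_option synthInstance.maxSize 4096
set_option synthInstance.maxHeartbeats 400000

namespace Cfsg.Agent.Block.STwoSix

/-- Exponent vectors of `z, r, t, P, Q, f`. -/
abbrev M6 := Bool × Bool × Bool × Bool × Bool × Bool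

namespace M6

/-- Exponent of `z`. -/
def bz (u : M6) : Bool := u.1
/-- Exponent of `r`. -/
def br (u : M6) : Bool := u.2.1
/-- Exponent of `t`. -/
def bt (u : M6) : Bool := u.2.2.1
/-- Exponent of `P`. -/
def bP (u : M6) : Bool := u.2.2.2.1
/-- Exponent of `Q`. -/
def bQ (u : M6) : Bool := u.2.2.2.2.1
/-- Exponent of `f`. -/
def bf (u : M6) : Bool := u.2.2.2.2.2

/-- Multiplication. -/
def mul (u v : M6) : M6 :=
  ((u.bz ^^ v.bz) ^^ ((u.bQ && v.bP) ^^ (u.bf && v.bt)), u.br ^^ v.br, u.bt ^^ v.bt,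
    u.bP ^^ v.bP, u.bQ ^^ v.bQ, u.bf ^^ v.bf)

/-- The identity. -/
def one : M6 := (false, false, false, false, false, false)

/-- `z`. -/
def gz : M6 := (true, false, false, false, false, false)
/-- `r`. -/
def gr : M6 := (false, true, false, false, false, false)
/-- `t`. -/
def gt : M6 := (false, false, true, false, false, false)
/-- `P`. -/
def gP : M6 := (false, false, false, true, false, false)
/-- `Q`. -/
def gQ : M6 := (false, false, false, false, true, false)
/-- `f`. -/
def gf : M6 := (false, false, false, false, false, true)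

/-- Inverse. -/
def inv (u : M6) : M6 :=
  (u.bz ^^ ((u.bQ && u.bP) ^^ (u.bf && u.bt)), u.br, u.bt, u.bP, u.bQ, u.bf)

theorem mul_inv : ∀ u : M6, mul u (inv u) = one := by decide +kernel

theorem inv_mul : ∀ u : M6, mul (inv u) u = one := by decide +kernel

set_option synthInstance.maxSize 4096 in
set_option synthInstance.maxHeartbeats 400000 in
theorem eq_of_inv_mul : ∀ u v : M6, mul (inv v) u = one → u = v := by decide +kernel

/-- Power with Boolean exponent. -/
def pw (u : M6) (b : Bool) : M6 := if b then u else one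

/-- The endomorphism with the given values on the six generators. -/
def endo (iz ir it iP iQ iF : M6) (u : M6) : M6 :=
  mul (pw iz u.bz) (mul (pw ir u.br) (mul (pw it u.bt)
    (mul (pw iP u.bP) (mul (pw iQ u.bQ) (pw iF u.bf)))))

/-- `u` and `v` commute. -/
def comm (u v : M6) : Bool := decide (mul u v = mul v u)

/-- `u` lies in the centre. -/
def central (u : M6) : Bool := !u.bt && !u.bP && !u.bQ && !u.bf

end M6

variable {G : Type*} [Group G]

/-- Power with Boolean exponent. -/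
def bp (g : G) (b : Bool) : G := if b then g else 1

theorem bp_true (g : G) : bp g true = g := rfl
theorem bp_false (g : G) : bp g false = 1 := rfl

theorem bp_mem {K : Subgroup G} {g : G} (hg : g ∈ K) (b : Bool) : bp g b ∈ K := by
  cases b
  · exact K.one_mem
  · exact hg

/-- The relations between the six elements. -/
structure Six (z r t P Q f : G) : Prop where
  zz : z * z = 1
  rr : r * r = 1
  tt : t * t = 1
  PP : P * P = 1
  QQ : Q * Q = 1
  ff : f * f = 1
  rz : r * z = z * r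
  tz : t * z = z * t
  Pz : P * z = z * P
  Qz : Q * z = z * Q
  fz : f * z = z * f
  tr : t * r = r * t
  Pr : P * r = r * P
  Qr : Q * r = r * Q
  fr : f * r = r * f
  Pt : P * t = t * P
  Qt : Q * t = t * Q
  QP : Q * P = z * (P * Q)
  ft : f * t = z * (t * f)
  fP : f * P = P * f
  fQ : f * Q = Q * f

/-- Evaluation of an exponent vector. -/
def ev (z r t P Q f : G) (u : M6) : G :=
  bp z u.bz * (bp r u.br * (bp t u.bt * (bp P u.bP * (bp Q u.bQ * bp f u.bf))))

theorem bp_sq {g : G} (h : g * g = 1) (i j : Bool) : bp g i * bp g j = bp g (i ^^ j) := by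
  cases i <;> cases j <;> simp [bp, h]

theorem bp_sq' {g : G} (h : g * g = 1) (i j : Bool) (x : G) :
    bp g i * (bp g j * x) = bp g (i ^^ j) * x := by rw [← mul_assoc, bp_sq h]

theorem bp_comm {a b : G} (h : a * b = b * a) (i j : Bool) :
    bp a i * bp b j = bp b j * bp a i := by
  cases i <;> cases j <;> simp [bp, h]

theorem bp_comm' {a b : G} (h : a * b = b * a) (i j : Bool) (x : G) :
    bp a i * (bp b j * x) = bp b j * (bp a i * x) := by
  rw [← mul_assoc, bp_comm h, mul_assoc]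

theorem bp_twist {a b c : G} (h : a * b = c * (b * a)) (i j : Bool) :
    bp a i * bp b j = bp c (i && j) * (bp b j * bp a i) := by
  cases i <;> cases j <;> simp [bp, h]

theorem bp_twist' {a b c : G} (h : a * b = c * (b * a)) (i j : Bool) (x : G) :
    bp a i * (bp b j * x) = bp c (i && j) * (bp b j * (bp a i * x)) := by
  rw [← mul_assoc, bp_twist h, mul_assoc, mul_assoc]

variable {z r t P Q f : G}

theorem Six.ev_mul (s : Six z r t P Q f) (u v : M6) :
    ev z r t P Q f u * ev z r t P Q f v = ev z r t P Q f (u.mul v) := by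
  obtain ⟨u1, u2, u3, u4, u5, u6⟩ := u
  obtain ⟨v1, v2, v3, v4, v5, v6⟩ := v
  simp only [ev, M6.mul, M6.bz, M6.br, M6.bt, M6.bP, M6.bQ, M6.bf, mul_assoc]
  simp only [bp_comm' s.rz, bp_comm' s.tz, bp_comm' s.Pz, bp_comm' s.Qz, bp_comm' s.fz,
    bp_comm' s.tr, bp_comm' s.Pr, bp_comm' s.Qr, bp_comm' s.fr, bp_comm' s.Pt, bp_comm' s.Qt,
    bp_twist' s.QP, bp_twist' s.ft, bp_comm' s.fP, bp_comm' s.fQ, bp_sq' s.zz, bp_sq' s.rr,
    bp_sq' s.tt, bp_sq' s.PP, bp_sq' s.QQ, bp_sq s.ff]
  congr 2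
  revert u1 u5 u6 v1 v3 v4
  decide

theorem ev_one : ev z r t P Q f M6.one = 1 := by simp [ev, M6.one, M6.bz, M6.br, M6.bt, M6.bP, M6.bQ, M6.bf, bp]

theorem ev_gz : ev z r t P Q f M6.gz = z := by simp [ev, M6.gz, M6.bz, M6.br, M6.bt, M6.bP, M6.bQ, M6.bf, bp]
theorem ev_gr : ev z r t P Q f M6.gr = r := by simp [ev, M6.gr, M6.bz, M6.br, M6.bt, M6.bP, M6.bQ, M6.bf, bp]
theorem ev_gt : ev z r t P Q f M6.gt = t := by simp [ev, M6.gt, M6.bz, M6.br, M6.bt, M6.bP, M6.bQ, M6.bf, bp]
theorem ev_gP : ev z r t P Q f M6.gP = P := by simp [ev, M6.gP, M6.bz, M6.br, M6.bt, M6.bP, M6.bQ, M6.bf, bp]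
theorem ev_gQ : ev z r t P Q f M6.gQ = Q := by simp [ev, M6.gQ, M6.bz, M6.br, M6.bt, M6.bP, M6.bQ, M6.bf, bp]
theorem ev_gf : ev z r t P Q f M6.gf = f := by simp [ev, M6.gf, M6.bz, M6.br, M6.bt, M6.bP, M6.bQ, M6.bf, bp]

theorem ev_pw (u : M6) (b : Bool) : ev z r t P Q f (M6.pw u b) = bp (ev z r t P Q f u) b := by
  cases b
  · exact ev_one
  · rfl

theorem Six.ev_mem (_s : Six z r t P Q f) {K : Subgroup G} (hz : z ∈ K) (hr : r ∈ K) (ht : t ∈ K)
    (hP : P ∈ K) (hQ : Q ∈ K) (hf : f ∈ K) (u : M6) : ev z r t P Q f u ∈ K :=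
  K.mul_mem (bp_mem hz _) (K.mul_mem (bp_mem hr _) (K.mul_mem (bp_mem ht _)
    (K.mul_mem (bp_mem hP _) (K.mul_mem (bp_mem hQ _) (bp_mem hf _)))))

/-- The subgroup of all values. -/
def Six.range (s : Six z r t P Q f) : Subgroup G where
  carrier := Set.range (ev z r t P Q f)
  one_mem' := ⟨M6.one, ev_one⟩
  mul_mem' := by rintro _ _ ⟨u, rfl⟩ ⟨v, rfl⟩; exact ⟨u.mul v, (s.ev_mul u v).symm⟩
  inv_mem' := by
    rintro _ ⟨u, rfl⟩
    exact ⟨u.inv, eq_inv_of_mul_eq_one_right (by rw [s.ev_mul, M6.mul_inv, ev_one])⟩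

theorem Six.mem_range (s : Six z r t P Q f) {g : G} :
    g ∈ s.range ↔ ∃ u, ev z r t P Q f u = g := Iff.rfl

/-- Conjugation by an element described by its values on the generators. -/
theorem Six.conj_ev (s : Six z r t P Q f) (x : G) {iz ir it iP iQ iF : M6}
    (hz : x * z * x⁻¹ = ev z r t P Q f iz) (hr : x * r * x⁻¹ = ev z r t P Q f ir)
    (ht : x * t * x⁻¹ = ev z r t P Q f it) (hP : x * P * x⁻¹ = ev z r t P Q f iP)
    (hQ : x * Q * x⁻¹ = ev z r t P Q f iQ) (hf : x * f * x⁻¹ = ev z r t P Q f iF) (u : M6) :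
    x * ev z r t P Q f u * x⁻¹ = ev z r t P Q f (M6.endo iz ir it iP iQ iF u) := by
  have hb : ∀ (g : G) (b : Bool), x * bp g b * x⁻¹ = bp (x * g * x⁻¹) b := by
    intro g b; cases b <;> simp [bp]
  rw [M6.endo, ← s.ev_mul, ← s.ev_mul, ← s.ev_mul, ← s.ev_mul, ← s.ev_mul, ev_pw, ev_pw, ev_pw,
    ev_pw, ev_pw, ev_pw, ← hz, ← hr, ← ht, ← hP, ← hQ, ← hf, ← hb, ← hb, ← hb, ← hb, ← hb, ← hb]
  simp only [ev, mul_assoc, inv_mul_cancel_left]

theorem Six.ev_injective (s : Six z r t P Q f)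
    (h : ∀ u : M6, u.bf = false → ev z r t P Q f u = 1 → u = M6.one)
    (hf : ∀ u : M6, u.bf = false → ev z r t P Q f u ≠ f) :
    Function.Injective (ev z r t P Q f) := by
  intro u v e
  obtain ⟨w, hw, hinj⟩ : ∃ w, M6.mul w v = M6.one ∧ (M6.mul w u = M6.one → u = v) :=
    ⟨M6.inv v, M6.inv_mul v, M6.eq_of_inv_mul u v⟩
  have e1 : ev z r t P Q f (M6.mul w u) = 1 := by
    rw [← s.ev_mul, e, s.ev_mul, hw, ev_one]
  refine hinj ?_
  cases hc : (M6.mul w u).bf with
  | false => exact h _ hc e1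
  | true =>
    exfalso
    have key := s.ev_mul (M6.mul w u) M6.gf
    rw [e1, ev_gf, one_mul] at key
    exact hf _ (by simp only [M6.mul, M6.bf, M6.gf] at hc ⊢; rw [hc]; rfl) key.symm

theorem card_M6 : Nat.card M6 = 64 := by
  rw [Nat.card_eq_fintype_card]; rfl

theorem Six.card_range (s : Six z r t P Q f) (hi : Function.Injective (ev z r t P Q f)) :
    Nat.card s.range = 64 :=
  (Nat.card_congr (Equiv.ofInjective _ hi).symm).trans card_M6

theorem Six.comm_iff (s : Six z r t P Q f) (hi : Function.Injective (ev z r t P Q f)) (u v : M6) :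
    ev z r t P Q f u * ev z r t P Q f v = ev z r t P Q f v * ev z r t P Q f u ↔
      M6.comm u v = true := by
  rw [s.ev_mul, s.ev_mul, M6.comm, decide_eq_true_iff]
  exact hi.eq_iff

end Cfsg.Agent.Block.STwoSix
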