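import Cfsg.Agent.Lib.Block.STwoSix.Model

/-!
A model of the groups of order 128 and class two generated by `z, a, t, P, Q, g, h`.
-/

set_option autoImplicit false
set_option linter.unusedSectionVars false
set_option synthInstance.maxSize 4096
set_option synthInstance.maxHeartbeats 400000
set_option maxRecDepth 8000

namespace Cfsg.Agent.Block.STwoSix

/-- Exponent vectors of `t, P, Q, g, h`. -/
abbrev V5 := Bool × Bool × Bool × Bool × Bool

/-- Exponent vectors of `z, a`. -/
abbrev U2 := Bool × Bool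

/-- The parameters: the `a`-exponent of `[g, P]`, the exponent of `z a` in `[h, Q]` and the two
exponents of `[h, g]`. -/
abbrev Par := Bool × Bool × Bool × Bool

namespace V5

/-- Sum. -/
def add (v w : V5) : V5 :=
  (v.1 ^^ w.1, v.2.1 ^^ w.2.1, v.2.2.1 ^^ w.2.2.1, v.2.2.2.1 ^^ w.2.2.2.1, v.2.2.2.2 ^^ w.2.2.2.2)

/-- Zero. -/
def zero : V5 := (false, false, false, false, false)
/-- `t`. -/
def et : V5 := (true, false, false, false, false)
/-- `P`. -/
def eP : V5 := (false, true, false, false, false)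
/-- `Q`. -/
def eQ : V5 := (false, false, true, false, false)
/-- `g`. -/
def eg : V5 := (false, false, false, true, false)
/-- `h`. -/
def eh : V5 := (false, false, false, false, true)

/-- All vectors. -/
def all : List V5 :=
  [false, true].flatMap fun a => [false, true].flatMap fun b => [false, true].flatMap fun c =>
    [false, true].flatMap fun d => [false, true].map fun e => (a, b, c, d, e)

theorem mem_all : ∀ v : V5, v ∈ all := by decide +kernel

theorem all_nodup : all.Nodup := by decide +kernel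

theorem add_zero : ∀ v : V5, add v zero = v := by decide +kernel
theorem zero_add : ∀ v : V5, add zero v = v := by decide +kernel
theorem add_self : ∀ v : V5, add v v = zero := by decide +kernel

theorem add_eq_zero : ∀ v w : V5, add v w = zero → v = w := by decide +kernel

/-- Scalar. -/
def sc (v : V5) (b : Bool) : V5 := if b then v else zero

/-- The linear map with the given images of the basis. -/
def lin (i : V5 × V5 × V5 × V5 × V5) (v : V5) : V5 :=
  add (sc i.1 v.1) (add (sc i.2.1 v.2.1) (add (sc i.2.2.1 v.2.2.1)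
    (add (sc i.2.2.2.1 v.2.2.2.1) (sc i.2.2.2.2 v.2.2.2.2))))

end V5

namespace U2

/-- Sum. -/
def add (u w : U2) : U2 := (u.1 ^^ w.1, u.2 ^^ w.2)

/-- All vectors. -/
def all : List U2 := [(false, false), (true, false), (false, true), (true, true)]

theorem mem_all : ∀ u : U2, u ∈ all := by decide

theorem add_eq : ∀ u w : U2, add u w = (false, false) ↔ u = w := by decide

end U2

/-- The cocycle. -/
def cz (p : Par) (v w : V5) : U2 :=
  (((v.2.2.1 && w.2.1) ^^ (v.2.2.2.2 && w.1)) ^^ ((p.2.1 && (v.2.2.2.2 && w.2.2.1)) ^^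
      (p.2.2.1 && (v.2.2.2.2 && w.2.2.2.1))),
    ((v.2.2.2.1 && w.1) ^^ (v.2.2.2.2 && w.1)) ^^ ((p.1 && (v.2.2.2.1 && w.2.1)) ^^
      ((p.2.1 && (v.2.2.2.2 && w.2.2.1)) ^^ (p.2.2.2 && (v.2.2.2.2 && w.2.2.2.1)))))

/-- The commutator. -/
def com (p : Par) (v w : V5) : U2 := U2.add (cz p v w) (cz p w v)

/-- The square. -/
def qu (p : Par) (v : V5) : U2 := cz p v v

/-- Exponent vectors of `z, a, t, P, Q, g, h`. -/
abbrev M7 := U2 × V5

namespace M7

/-- Multiplication. -/
def mul (p : Par) (x y : M7) : M7 := (U2.add (U2.add x.1 y.1) (cz p x.2 y.2), V5.add x.2 y.2)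

/-- The identity. -/
def one : M7 := ((false, false), V5.zero)

/-- Inverse. -/
def inv (p : Par) (x : M7) : M7 := (U2.add x.1 (qu p x.2), x.2)

theorem mul_inv : ∀ p : Par, ∀ x : M7, mul p x (inv p x) = one := by
  rintro ⟨p1, p2, p3, p4⟩ ⟨⟨u1, u2⟩, v1, v2, v3, v4, v5⟩
  cases u1 <;> cases u2 <;> cases v1 <;> cases v2 <;> cases v3 <;> cases v4 <;> cases v5 <;>
    simp [mul, inv, qu, cz, U2.add, V5.add, one, V5.zero]

end M7

variable {G : Type*} [Group G]

/-- The relations between the seven elements. -/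
structure Seven (p : Par) (z a t P Q g h : G) : Prop where
  zz : z * z = 1
  aa : a * a = 1
  tt : t * t = 1
  PP : P * P = 1
  QQ : Q * Q = 1
  gg : g * g = 1
  hh : h * h = 1
  az : a * z = z * a
  tz : t * z = z * t
  Pz : P * z = z * P
  Qz : Q * z = z * Q
  gz : g * z = z * g
  hz : h * z = z * h
  ta : t * a = a * t
  Pa : P * a = a * P
  Qa : Q * a = a * Q
  ga : g * a = a * g
  ha : h * a = a * h
  Pt : P * t = t * P
  Qt : Q * t = t * Q
  QP : Q * P = z * (P * Q)
  gt : g * t = a * (t * g)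
  gP : g * P = bp a p.1 * (P * g)
  gQ : g * Q = Q * g
  ht : h * t = z * a * (t * h)
  hP : h * P = P * h
  hQ : h * Q = bp (z * a) p.2.1 * (Q * h)
  hg : h * g = bp z p.2.2.1 * bp a p.2.2.2 * (g * h)

/-- Evaluation. -/
def ev7 (z a t P Q g h : G) (x : M7) : G :=
  bp z x.1.1 * (bp a x.1.2 * (bp t x.2.1 * (bp P x.2.2.1 * (bp Q x.2.2.2.1 *
    (bp g x.2.2.2.2.1 * bp h x.2.2.2.2.2)))))

variable {p : Par} {z a t P Q g h : G}

theorem Seven.ev_mul (s : Seven p z a t P Q g h) (x y : M7) :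
    ev7 z a t P Q g h x * ev7 z a t P Q g h y = ev7 z a t P Q g h (M7.mul p x y) := by
  obtain ⟨⟨x1, x2⟩, x3, x4, x5, x6, x7⟩ := x
  obtain ⟨⟨y1, y2⟩, y3, y4, y5, y6, y7⟩ := y
  obtain ⟨p1, p2, p3, p4⟩ := p
  have hbb : ∀ (c : G) (i j : Bool), bp (bp c i) j = bp c (i && j) := by
    intro c i j; cases i <;> cases j <;> rfl
  have hbm : ∀ (c d : G) (j : Bool), bp (c * d) j = bp c j * bp d j := by
    intro c d j; cases j <;> simp [bp]
  have hgP := s.gP
  have hhQ := s.hQ
  have hhg := s.hg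
  simp only at hgP hhQ hhg
  simp only [ev7, M7.mul, cz, U2.add, V5.add, mul_assoc]
  simp only [bp_comm' s.az, bp_comm' s.tz, bp_comm' s.Pz, bp_comm' s.Qz, bp_comm' s.gz,
    bp_comm' s.hz, bp_comm' s.ta, bp_comm' s.Pa, bp_comm' s.Qa, bp_comm' s.ga, bp_comm' s.ha,
    bp_comm' s.Pt, bp_comm' s.Qt, bp_twist' s.QP, bp_twist' s.gt, bp_twist' hgP, bp_comm' s.gQ,
    bp_twist' s.ht, bp_comm' s.hP, bp_twist' hhQ, bp_twist' hhg, hbm, hbb, mul_assoc,
    bp_sq' s.zz, bp_sq' s.aa, bp_sq' s.tt, bp_sq' s.PP, bp_sq' s.QQ, bp_sq' s.gg, bp_sq s.hh]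
  clear s hgP hhQ hhg hbb hbm
  congr 1
  · congr 1
    revert x1 y1 x5 y4 x7 y3 y5 y6 p2 p3
    decide +kernel
  · congr 2
    revert x2 y2 x6 y3 x7 y4 y5 y6 p1 p2 p4
    decide +kernel

theorem ev7_one : ev7 z a t P Q g h M7.one = 1 := by simp [ev7, M7.one, V5.zero, bp]

theorem ev7_U (u : U2) : ev7 z a t P Q g h (u, V5.zero) = bp z u.1 * bp a u.2 := by
  simp [ev7, V5.zero, bp]

end Cfsg.Agent.Block.STwoSix
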