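import Cfsg.Agent.Lib.Block.STwoSix.Base

/-!
Fusion of the centre of the Sylow 2-subgroup `S` of `C(t)`: the possible orbits of `t`.
-/

set_option autoImplicit false
set_option linter.unusedSectionVars false
set_option synthInstance.maxSize 4096
set_option synthInstance.maxHeartbeats 400000

namespace Cfsg.Agent.Block.STwoSix

open Subgroup

namespace M6

theorem low_mul : ∀ u v : M6, u.low = true → v.low = true → (mul u v).low = true := by
  rintro ⟨u1, u2, u3, u4, u5, u6⟩ ⟨v1, v2, v3, v4, v5, v6⟩ hu hv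
  simp_all [low, mul, bf]

theorem low_inv : ∀ u : M6, u.low = true → (inv u).low = true := by decide +kernel

theorem inZ_low : ∀ u : M6, u.inZ = true → u.low = true := by decide +kernel

/-- `t z`. -/
def gtz : M6 := mul gz gt
/-- `a z`. -/
def grz : M6 := mul gz gr
/-- `t a`. -/
def gtr : M6 := mul gr gt
/-- `t a z`. -/
def gtrz : M6 := mul (mul gz gr) gt

theorem inZ_cases : ∀ u : M6, u.inZ = true →
    u = one ∨ u = gz ∨ u = gt ∨ u = gtz ∨ u = gr ∨ u = grz ∨ u = gtr ∨ u = gtrz := by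
  decide +kernel

end M6

open scoped Classical in
/-- Evaluation on low vectors. -/
def Base.E {G : Type*} [Group G] (B : Base G) (u : M6) : G := ev B.z B.a B.t B.P B.Q 1 u

variable {G : Type*} [Group G] [Finite G] (B : Base G)

namespace Base

theorem E_mul {u v : M6} (hu : u.low = true) (hv : v.low = true) :
    B.E u * B.E v = B.E (u.mul v) := B.five.ev_mul u v hu hv

theorem E_one : B.E M6.one = 1 := ev_one
theorem E_gz : B.E M6.gz = B.z := ev_gz
theorem E_gr : B.E M6.gr = B.a := ev_gr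
theorem E_gt : B.E M6.gt = B.t := ev_gt
theorem E_gP : B.E M6.gP = B.P := ev_gP
theorem E_gQ : B.E M6.gQ = B.Q := ev_gQ

theorem E_inj {u v : M6} (hu : u.low = true) (hv : v.low = true) (h : B.E u = B.E v) : u = v := by
  refine M6.eq_of_inv_mul u v (B.inj _ (M6.low_mul _ _ (M6.low_inv v hv) hu) ?_)
  show B.E _ = 1
  rw [← E_mul B (M6.low_inv v hv) hu, h, E_mul B (M6.low_inv v hv) hv, M6.inv_mul, E_one]

theorem tt : B.t * B.t = 1 := B.five.tt

theorem E_comm {u v : M6} (hu : u.low = true) (hv : v.low = true) :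
    B.E u * B.E v = B.E v * B.E u ↔ M6.comm u v = true := by
  rw [E_mul B hu hv, E_mul B hv hu, M6.comm, decide_eq_true_iff]
  exact ⟨fun h => E_inj B (M6.low_mul _ _ hu hv) (M6.low_mul _ _ hv hu) h, congrArg B.E⟩

/-- The Sylow 2-subgroup `S` of the centraliser. -/
def S : Subgroup G where
  carrier := {g | ∃ u : M6, u.low = true ∧ B.E u = g}
  one_mem' := ⟨M6.one, rfl, E_one B⟩
  mul_mem' := by
    rintro _ _ ⟨u, hu, rfl⟩ ⟨v, hv, rfl⟩
    exact ⟨u.mul v, M6.low_mul u v hu hv, (E_mul B hu hv).symm⟩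
  inv_mem' := by
    rintro _ ⟨u, hu, rfl⟩
    refine ⟨u.inv, M6.low_inv u hu, eq_inv_of_mul_eq_one_right ?_⟩
    rw [E_mul B hu (M6.low_inv u hu), M6.mul_inv, E_one]

theorem mem_S {g : G} : g ∈ B.S ↔ ∃ u : M6, u.low = true ∧ B.E u = g := Iff.rfl

theorem E_mem {u : M6} (hu : u.low = true) : B.E u ∈ B.S := ⟨u, hu, rfl⟩

theorem t_mem : B.t ∈ B.S := ⟨_, rfl, E_gt B⟩
theorem a_mem : B.a ∈ B.S := ⟨_, rfl, E_gr B⟩
theorem z_mem : B.z ∈ B.S := ⟨_, rfl, E_gz B⟩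
theorem P_mem : B.P ∈ B.S := ⟨_, rfl, E_gP B⟩
theorem Q_mem : B.Q ∈ B.S := ⟨_, rfl, E_gQ B⟩

theorem card_S : Nat.card B.S = 32 := by
  have e : {u : M6 // u.low = true} ≃ B.S :=
    Equiv.ofBijective (fun u => ⟨B.E u.1, E_mem B u.2⟩)
      ⟨fun u v h => Subtype.ext (E_inj B u.2 v.2 (congrArg Subtype.val h)),
        fun ⟨g, u, hu, hg⟩ => ⟨⟨u, hu⟩, Subtype.ext hg⟩⟩
  rw [← Nat.card_congr e, Nat.card_eq_fintype_card]
  decide +kernel

theorem isPGroup_S : IsPGroup 2 B.S := IsPGroup.of_card (n := 5) (by rw [card_S]; rfl)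

theorem S_comm_t {g : G} (hg : g ∈ B.S) : g * B.t = B.t * g := by
  obtain ⟨u, hu, rfl⟩ := hg
  rw [← E_gt B, E_comm B hu rfl]
  revert u
  decide +kernel

/-- The centraliser of `t`. -/
abbrev C : Subgroup G := centralizer ({B.t} : Set G)

theorem mem_C {g : G} : g ∈ B.C ↔ g * B.t = B.t * g := mem_centralizer_singleton_iff

theorem S_le_C : B.S ≤ B.C := fun _ hg => (mem_C B).2 (S_comm_t B hg)

/-- A class element has a centraliser of the same order as `t`. -/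
theorem card_cent_of_conj {v : G} (hv : IsConj B.t v) :
    Nat.card (centralizer ({v} : Set G)) = Nat.card B.C := by
  obtain ⟨g, rfl⟩ := isConj_iff.1 hv
  refine Nat.card_congr
    { toFun := fun x => ⟨g⁻¹ * x.1 * g, mem_centralizer_singleton_iff.2 ?_⟩
      invFun := fun x => ⟨g * x.1 * g⁻¹, mem_centralizer_singleton_iff.2 ?_⟩
      left_inv := fun x => Subtype.ext (by group)
      right_inv := fun x => Subtype.ext (by group) }
  · have h := mem_centralizer_singleton_iff.1 x.2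
    calc g⁻¹ * x.1 * g * B.t = g⁻¹ * (x.1 * (g * B.t * g⁻¹)) * g := by group
      _ = g⁻¹ * (g * B.t * g⁻¹ * x.1) * g := by rw [h]
      _ = B.t * (g⁻¹ * x.1 * g) := by group
  · have h := mem_centralizer_singleton_iff.1 x.2
    calc g * x.1 * g⁻¹ * (g * B.t * g⁻¹) = g * (x.1 * B.t) * g⁻¹ := by group
      _ = g * (B.t * x.1) * g⁻¹ := by rw [h]
      _ = g * B.t * g⁻¹ * (g * x.1 * g⁻¹) := by group

theorem cent_two_part {v : G} (hv : IsConj B.t v) {U : Subgroup G} (hU : IsPGroup 2 U)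
    (hUv : ∀ x ∈ U, x * v = v * x) : Nat.card U ∣ 32 := by
  have hle : U ≤ centralizer ({v} : Set G) :=
    fun x hx => mem_centralizer_singleton_iff.2 (hUv x hx)
  have h := Subgroup.card_dvd_of_le hle
  rw [card_cent_of_conj B hv] at h
  obtain ⟨m, hm, hC⟩ := B.card_C
  obtain ⟨k, hk⟩ := hU.exists_card_eq
  rw [hC, hk] at h
  rw [hk]
  exact (Nat.Coprime.pow_left k (Nat.coprime_two_left.2 hm)).dvd_of_dvd_mul_right h

/-- Any 2-subgroup of order 32 centralising a class element is the image of `S` under an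
element conjugating `t` to it. -/
theorem exists_norm {v : G} (hv : IsConj B.t v) {U : Subgroup G} (hcard : Nat.card U = 32)
    (hUv : ∀ x ∈ U, x * v = v * x) :
    ∃ n : G, n * B.t * n⁻¹ = v ∧ ∀ x : G, x ∈ B.S ↔ n * x * n⁻¹ ∈ U := by
  obtain ⟨g, hg⟩ := isConj_iff.1 hv
  have hU : IsPGroup 2 U := IsPGroup.of_card (n := 5) hcard
  let V : Subgroup G := U.map (MulAut.conj g⁻¹).toMonoidHom
  have hVC : V ≤ B.C := by
    rintro _ ⟨x, hx, rfl⟩
    refine (mem_C B).2 ?_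
    have h := hUv x hx
    rw [← hg] at h
    show g⁻¹ * x * g⁻¹⁻¹ * B.t = B.t * (g⁻¹ * x * g⁻¹⁻¹)
    calc g⁻¹ * x * g⁻¹⁻¹ * B.t = g⁻¹ * (x * (g * B.t * g⁻¹)) * g := by group
      _ = g⁻¹ * (g * B.t * g⁻¹ * x) * g := by rw [h]
      _ = B.t * (g⁻¹ * x * g⁻¹⁻¹) := by group
  have hcardV : Nat.card V = 32 := by
    rw [Subgroup.card_map_of_injective (MulAut.conj g⁻¹).injective, hcard]
  have hfact : (Nat.card B.C).factorization 2 = 5 := by
    obtain ⟨m, hm, hC⟩ := B.card_C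
    rw [hC, Nat.factorization_mul (by norm_num) (by rintro rfl; exact absurd hm (by decide)),
      Finsupp.add_apply, Nat.Prime.factorization_pow Nat.prime_two, Finsupp.single_eq_same,
      Nat.factorization_eq_zero_of_not_dvd
        (fun h => Nat.not_even_iff_odd.2 hm (even_iff_two_dvd.2 h))]
  let P1 : Sylow 2 B.C := Sylow.ofCard (B.S.subgroupOf B.C) (by
    rw [hfact, Nat.card_congr (subgroupOfEquivOfLe (S_le_C B)).toEquiv, card_S]; rfl)
  let P2 : Sylow 2 B.C := Sylow.ofCard (V.subgroupOf B.C) (by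
    rw [hfact, Nat.card_congr (subgroupOfEquivOfLe hVC).toEquiv, hcardV]; rfl)
  obtain ⟨c, hc⟩ := MulAction.exists_smul_eq B.C P1 P2
  refine ⟨g * c.1, ?_, fun x => ?_⟩
  · have h := (mem_C B).1 c.2
    calc g * c.1 * B.t * (g * c.1)⁻¹ = g * (c.1 * B.t) * c.1⁻¹ * g⁻¹ := by group
      _ = g * (B.t * c.1) * c.1⁻¹ * g⁻¹ := by rw [h]
      _ = g * B.t * g⁻¹ := by group
      _ = v := hg
  have hc' : ∀ y : B.C, y ∈ (P1 : Subgroup B.C) ↔ c * y * c⁻¹ ∈ (P2 : Subgroup B.C) := by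
    intro y
    rw [← hc, Sylow.coe_subgroup_smul, mem_pointwise_smul_iff_inv_smul_mem, MulAut.smul_def,
      ← map_inv, MulAut.conj_apply]
    rw [show c⁻¹ * (c * y * c⁻¹) * c⁻¹⁻¹ = y by group]
  have hV : ∀ y : G, y ∈ V ↔ g * y * g⁻¹ ∈ U := by
    intro y
    constructor
    · rintro ⟨w, hw, rfl⟩
      show g * (g⁻¹ * w * g⁻¹⁻¹) * g⁻¹ ∈ U
      rwa [show g * (g⁻¹ * w * g⁻¹⁻¹) * g⁻¹ = w by group]
    · intro hy
      refine ⟨_, hy, ?_⟩
      show g⁻¹ * (g * y * g⁻¹) * g⁻¹⁻¹ = y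
      group
  have e : g * c.1 * x * (g * c.1)⁻¹ = g * (c.1 * x * c.1⁻¹) * g⁻¹ := by group
  rw [e, ← hV]
  constructor
  · intro hx
    exact (hc' ⟨x, S_le_C B hx⟩).1 hx
  · intro hx
    have hxC : c.1 * x * c.1⁻¹ ∈ B.C := hVC hx
    have : x ∈ B.C := by
      have := B.C.mul_mem (B.C.mul_mem (B.C.inv_mem c.2) hxC) c.2
      rwa [show c.1⁻¹ * (c.1 * x * c.1⁻¹) * c.1 = x by group] at this
    exact (hc' ⟨x, this⟩).2 hx

/-- The normaliser of `S`. -/
abbrev N : Subgroup G := normalizer (B.S : Set G)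

theorem mem_N {n : G} : n ∈ B.N ↔ ∀ x : G, x ∈ B.S ↔ n * x * n⁻¹ ∈ B.S :=
  mem_normalizer_iff

theorem S_le_N : B.S ≤ B.N := le_normalizer

theorem conj_S {n x : G} (hn : n ∈ B.N) (hx : x ∈ B.S) : n * x * n⁻¹ ∈ B.S :=
  ((mem_N B).1 hn x).1 hx

/-- The only nontrivial square in `S` is `z`. -/
theorem sq_mem {g : G} (hg : g ∈ B.S) : g * g = 1 ∨ g * g = B.z := by
  obtain ⟨u, hu, rfl⟩ := hg
  rcases (show ∀ u : M6, u.low = true → u.mul u = M6.one ∨ u.mul u = M6.gz by decide +kernel) u hu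
    with h | h
  · exact Or.inl (by rw [E_mul B hu hu, h, E_one])
  · exact Or.inr (by rw [E_mul B hu hu, h, E_gz])

theorem z_ne_one : B.z ≠ 1 := by
  intro h
  have := E_inj B (u := M6.gz) (v := M6.one) rfl rfl (by rw [E_gz, E_one, h])
  exact absurd this (by decide)

theorem conj_z {n : G} (hn : n ∈ B.N) : n * B.z * n⁻¹ = B.z := by
  have hz : B.z = B.P * B.Q * (B.P * B.Q) := by
    rw [← E_gz B, ← E_gP B, ← E_gQ B, E_mul B rfl rfl, E_mul B rfl rfl]
    rfl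
  have hPQ : n * (B.P * B.Q) * n⁻¹ ∈ B.S := conj_S B hn (B.S.mul_mem (P_mem B) (Q_mem B))
  have e : n * (B.P * B.Q) * n⁻¹ * (n * (B.P * B.Q) * n⁻¹) = n * B.z * n⁻¹ := by rw [hz]; group
  rcases sq_mem B hPQ with h | h
  · rw [e] at h
    exact absurd (conj_eq_one_iff.1 h) (z_ne_one B)
  · rwa [e] at h

/-- The stabiliser of `t` in the normaliser of `S` is `S`. -/
theorem N_fix_t {n : G} (hn : n ∈ B.N) (h : n * B.t * n⁻¹ = B.t) : n ∈ B.S := by
  have hn' : n * B.t = B.t * n := mul_inv_eq_iff_eq_mul.1 h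
  exact B.norm_S n hn' (conj_S B hn (a_mem B)) (conj_S B hn (P_mem B)) (conj_S B hn (Q_mem B))

/-- Centre of `S`. -/
theorem central_iff {u : M6} (hu : u.low = true) :
    (∀ g ∈ B.S, g * B.E u = B.E u * g) ↔ u.inZ = true := by
  constructor
  · intro h
    exact (show ∀ u : M6, u.low = true → M6.comm M6.gP u = true → M6.comm M6.gQ u = true →
      u.inZ = true by decide +kernel) u hu ((E_comm B rfl hu).1 (h _ (E_mem B rfl)))
      ((E_comm B rfl hu).1 (h _ (E_mem B rfl)))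
  · rintro hz g ⟨v, hv, rfl⟩
    refine (E_comm B hv hu).2 ?_
    obtain ⟨u1, u2, u3, u4, u5, u6⟩ := u
    obtain ⟨v1, v2, v3, v4, v5, v6⟩ := v
    simp only [M6.inZ, M6.low, M6.bP, M6.bQ, M6.bf, Bool.and_eq_true, Bool.not_eq_true'] at hz hv
    obtain ⟨⟨rfl, rfl⟩, rfl⟩ := hz
    subst hv
    revert u1 u2 u3 v1 v2 v3 v4 v5
    decide +kernel

/-- Fusion inside the centre of `S` is induced by the normaliser. -/
theorem exists_N_of_class {u : M6} (hu : u.inZ = true) (h : IsConj B.t (B.E u)) :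
    ∃ n ∈ B.N, n * B.t * n⁻¹ = B.E u := by
  obtain ⟨n, h1, h2⟩ := exists_norm B h (card_S B)
    ((central_iff B (M6.inZ_low u hu)).2 hu)
  exact ⟨n, (mem_N B).2 h2, h1⟩

theorem N_conj_Z {n : G} (hn : n ∈ B.N) {u : M6} (hu : u.inZ = true) :
    ∃ v : M6, v.inZ = true ∧ n * B.E u * n⁻¹ = B.E v := by
  obtain ⟨v, hv, he⟩ := conj_S B hn (E_mem B (M6.inZ_low u hu))
  refine ⟨v, (central_iff B hv).1 fun g hg => ?_, he.symm⟩
  rw [he]
  have hg' : n⁻¹ * g * n ∈ B.S := by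
    have := conj_S B (B.N.inv_mem hn) hg
    rwa [inv_inv] at this
  have h := (central_iff B (M6.inZ_low u hu)).2 hu _ hg'
  calc g * (n * B.E u * n⁻¹) = n * (n⁻¹ * g * n * B.E u) * n⁻¹ := by group
    _ = n * (B.E u * (n⁻¹ * g * n)) * n⁻¹ := by rw [h]
    _ = n * B.E u * n⁻¹ * g := by group

/-- The class of `t`. -/
def Cls (g : G) : Prop := IsConj B.t g

theorem Cls_t : B.Cls B.t := IsConj.refl _

theorem Cls_conj {g : G} (hg : B.Cls g) (n : G) : B.Cls (n * g * n⁻¹) :=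
  hg.trans (isConj_iff.2 ⟨n, rfl⟩)

theorem Cls_conj_iff {g n : G} : B.Cls (n * g * n⁻¹) ↔ B.Cls g := by
  refine ⟨fun h => ?_, fun h => Cls_conj B h n⟩
  have := Cls_conj B h n⁻¹
  rwa [show n⁻¹ * (n * g * n⁻¹) * n⁻¹⁻¹ = g by group] at this

theorem Cls_sq {g : G} (hg : B.Cls g) : g * g = 1 := by
  obtain ⟨n, rfl⟩ := isConj_iff.1 hg
  rw [show n * B.t * n⁻¹ * (n * B.t * n⁻¹) = n * (B.t * B.t) * n⁻¹ by group, tt B]
  group

theorem Cls_can {u : M6} (hu : u.low = true) (hs : u.sq1 = true) :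
    B.Cls (B.E u) ↔ B.Cls (B.E u.can) := by
  obtain ⟨d, -, hd⟩ := B.conj_can u hu hs
  rw [Base.E, Base.E, ← hd]
  exact (Cls_conj_iff B).symm

theorem sq1_of_Cls {u : M6} (hu : u.low = true) (h : B.Cls (B.E u)) : u.sq1 = true := by
  have := Cls_sq B h
  rw [E_mul B hu hu, ← E_one B] at this
  exact decide_eq_true (E_inj B (M6.low_mul u u hu hu) rfl this)

theorem Cls_z : ¬ B.Cls B.z := by
  intro h
  rw [← E_gz B] at h
  obtain ⟨n, hn, he⟩ := exists_N_of_class B rfl h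
  rw [E_gz, ← conj_z B hn] at he
  have := mul_left_cancel (mul_right_cancel he)
  rw [← E_gt B, ← E_gz B] at this
  exact absurd (E_inj B rfl rfl this) (by decide)

theorem Cls_one : ¬ B.Cls (1 : G) := by
  intro h
  obtain ⟨n, hn⟩ := isConj_iff.1 h
  have := conj_eq_one_iff.1 hn
  rw [← E_gt B, ← E_one B] at this
  exact absurd (E_inj B rfl rfl this) (by decide)

variable (hno : ¬ ∃ H : Subgroup G, H.index = 2)
include hno

open scoped Classical in
/-- Parity of the number of class elements in the centre with a given character value. -/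
theorem parity {f : G → C2} (hf : HomOn B.C f) :
    Even (Finset.univ.filter fun u : M6 => u.inZ = true ∧ B.Cls (B.E u) ∧ f (B.E u) ≠ 1).card := by
  by_contra hodd
  rw [Nat.not_even_iff_odd] at hodd
  obtain ⟨m, hm, hC⟩ := B.card_C
  refine hno (index_two_of_hits (v := B.t) (tt B) hf (c := 5) (e := 0) hC hm
    (b := m) (by rw [Nat.add_zero]; exact hC) (m := (hits B.C f B.t).ncard) (by rw [pow_zero, one_mul]) ?_)
  have hX : ∀ r ∈ B.S, ∀ x ∈ hits B.C f B.t, r * x * r⁻¹ ∈ hits B.C f B.t := by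
    rintro r hr x ⟨hx, hc, hfx⟩
    have hrC := S_le_C B hr
    refine ⟨B.C.mul_mem (B.C.mul_mem hrC hx) (B.C.inv_mem hrC), Cls_conj B hc r, ?_⟩
    rwa [hf _ (B.C.mul_mem hrC hx) _ (B.C.inv_mem hrC), hf _ hrC _ hx, hf.map_inv hrC,
      mul_comm (f r), mul_assoc, C2_mul_self, mul_one]
  rw [Nat.odd_iff, card_mod_two_fixed (isPGroup_S B) _ hX, ← Nat.odd_iff]
  have e : {x ∈ hits B.C f B.t | ∀ r ∈ B.S, r * x * r⁻¹ = x} =
      B.E '' ↑(Finset.univ.filter fun u : M6 => u.inZ = true ∧ B.Cls (B.E u) ∧ f (B.E u) ≠ 1) := by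
    ext x
    constructor
    · rintro ⟨⟨hx, hc, hfx⟩, hfix⟩
      have hcm : ∀ r ∈ B.S, x * r = r * x := fun r hr =>
        (mul_inv_eq_iff_eq_mul.1 (hfix r hr)).symm
      obtain ⟨u, hu, rfl⟩ := B.cent_Z x ((mem_C B).1 hx) (hcm _ (a_mem B)) (hcm _ (P_mem B))
        (hcm _ (Q_mem B))
      exact ⟨u, Finset.mem_coe.2 (Finset.mem_filter.2 ⟨Finset.mem_univ _, hu, hc, hfx⟩), rfl⟩
    · rintro ⟨u, hu, rfl⟩
      obtain ⟨-, hu, hc, hfx⟩ := Finset.mem_filter.1 (Finset.mem_coe.1 hu)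
      refine ⟨⟨S_le_C B (E_mem B (M6.inZ_low u hu)), hc, hfx⟩, fun r hr => ?_⟩
      rw [(central_iff B (M6.inZ_low u hu)).2 hu r hr, mul_inv_cancel_right]
  rw [e, Set.InjOn.ncard_image, Set.ncard_coe_finset]
  · exact hodd
  · intro u hu v hv h
    exact E_inj B (M6.inZ_low u (Finset.mem_filter.1 (Finset.mem_coe.1 hu)).2.1)
      (M6.inZ_low v (Finset.mem_filter.1 (Finset.mem_coe.1 hv)).2.1) h

open scoped Classical in
/-- The five possible shapes of the orbit of `t` in the centre of `S`. -/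
theorem shape :
    (B.Cls (B.E M6.gtz) ∧ ¬B.Cls (B.E M6.gr) ∧ ¬B.Cls (B.E M6.grz) ∧ ¬B.Cls (B.E M6.gtr) ∧
      ¬B.Cls (B.E M6.gtrz)) ∨
    (B.Cls (B.E M6.gtz) ∧ ¬B.Cls (B.E M6.gr) ∧ ¬B.Cls (B.E M6.grz) ∧ B.Cls (B.E M6.gtr) ∧
      B.Cls (B.E M6.gtrz)) ∨
    (B.Cls (B.E M6.gtz) ∧ B.Cls (B.E M6.gr) ∧ B.Cls (B.E M6.grz) ∧ ¬B.Cls (B.E M6.gtr) ∧
      ¬B.Cls (B.E M6.gtrz)) ∨
    (B.Cls (B.E M6.gtz) ∧ B.Cls (B.E M6.gr) ∧ B.Cls (B.E M6.grz) ∧ B.Cls (B.E M6.gtr) ∧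
      B.Cls (B.E M6.gtrz)) ∨
    (¬B.Cls (B.E M6.gtz) ∧ (B.Cls (B.E M6.gr) ↔ ¬B.Cls (B.E M6.grz)) ∧
      (B.Cls (B.E M6.gtr) ↔ ¬B.Cls (B.E M6.gtrz))) := by
  obtain ⟨τ, σ, hτ, hσ, τt, τa, τz, σt, σa, σz⟩ := B.chi
  have hmC : ∀ u : M6, u.low = true → B.E u ∈ B.C := fun u hu => S_le_C B (E_mem B hu)
  have hv : ∀ f : G → C2, HomOn B.C f → ∀ u v : M6, u.low = true → v.low = true →
      f (B.E (u.mul v)) = f (B.E u) * f (B.E v) := fun f hf u v hu hv => by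
    rw [← E_mul B hu hv, hf _ (hmC u hu) _ (hmC v hv)]
  have hvals : ∀ f : G → C2, HomOn B.C f →
      f (B.E M6.gtz) = f B.z * f B.t ∧ f (B.E M6.grz) = f B.z * f B.a ∧
      f (B.E M6.gtr) = f B.a * f B.t ∧ f (B.E M6.gtrz) = f B.z * f B.a * f B.t := fun f hf =>
    ⟨by rw [M6.gtz, hv f hf M6.gz M6.gt rfl rfl, E_gz, E_gt],
      by rw [M6.grz, hv f hf M6.gz M6.gr rfl rfl, E_gz, E_gr],
      by rw [M6.gtr, hv f hf M6.gr M6.gt rfl rfl, E_gr, E_gt],
      by rw [M6.gtrz, hv f hf (M6.mul M6.gz M6.gr) M6.gt rfl rfl, hv f hf M6.gz M6.gr rfl rfl,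
        E_gz, E_gr, E_gt]⟩
  have hdec : ∀ (f : G → C2), HomOn B.C f →
      (Finset.univ.filter fun u : M6 => u.inZ = true ∧ B.Cls (B.E u) ∧ f (B.E u) ≠ 1) =
      (([M6.gt, M6.gtz, M6.gr, M6.grz, M6.gtr, M6.gtrz].toFinset).filter
        fun u : M6 => B.Cls (B.E u) ∧ f (B.E u) ≠ 1) := by
    intro f _
    ext u
    simp only [Finset.mem_filter, Finset.mem_univ, true_and, List.mem_toFinset]
    constructor
    · rintro ⟨h1, h2, h3⟩
      refine ⟨?_, h2, h3⟩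
      rcases M6.inZ_cases u h1 with rfl | rfl | rfl | rfl | rfl | rfl | rfl | rfl
      · exact absurd (E_one B ▸ h2) (Cls_one B)
      · exact absurd (E_gz B ▸ h2) (Cls_z B)
      all_goals decide
    · rintro ⟨h1, h2, h3⟩
      refine ⟨?_, h2, h3⟩
      revert h1
      simp only [List.mem_cons, List.not_mem_nil, or_false]
      rintro (rfl | rfl | rfl | rfl | rfl | rfl) <;> rfl
  have hct : B.Cls (B.E M6.gt) := by rw [E_gt]; exact Cls_t B
  have h1 := parity B hno hτ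
  have h2 := parity B hno hσ
  rw [hdec τ hτ] at h1
  rw [hdec σ hσ] at h2
  obtain ⟨a1, a2, a3, a4⟩ := hvals τ hτ
  obtain ⟨b1, b2, b3, b4⟩ := hvals σ hσ
  have et : τ (B.E M6.gt) = one' := by rw [E_gt]; exact τt
  have es : σ (B.E M6.gt) = 1 := by rw [E_gt]; exact σt
  have er : τ (B.E M6.gr) = 1 := by rw [E_gr]; exact τa
  have er' : σ (B.E M6.gr) = one' := by rw [E_gr]; exact σa
  simp only [τz, τa, τt, one_mul] at a1 a2 a3 a4
  simp only [σz, σa, σt, one_mul, mul_one] at b1 b2 b3 b4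
  have e0 : [M6.gt, M6.gtz, M6.gr, M6.grz, M6.gtr, M6.gtrz].toFinset =
      ({M6.gt, M6.gtz, M6.gr, M6.grz, M6.gtr, M6.gtrz} : Finset M6) := by decide +kernel
  rw [e0] at h1 h2
  simp only [Finset.filter_insert, Finset.filter_singleton, hct, et, es, er, er', a1, a2, a3, a4,
    b1, b2, b3, b4, one'_ne, ne_eq, not_true_eq_false, not_false_iff, and_true, and_false,
    if_false, if_true] at h1 h2
  by_cases o1 : B.Cls (B.E M6.gtz) <;> by_cases o2 : B.Cls (B.E M6.gr) <;>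
    by_cases o3 : B.Cls (B.E M6.grz) <;> by_cases o4 : B.Cls (B.E M6.gtr) <;>
    by_cases o5 : B.Cls (B.E M6.gtrz) <;>
    simp [o1, o2, o3, o4, o5, Nat.even_iff] at h1 h2 ⊢ <;> revert h1 h2 <;> decide +kernel

end Base

end Cfsg.Agent.Block.STwoSix
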