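import Cfsg.Agent.Lib.Block.STwoSix.NotThree

/-!
The element exchanging `t` and `t z`; exclusion of the six-element shape.
-/

set_option autoImplicit false
set_option linter.unusedSectionVars false
set_option synthInstance.maxSize 4096
set_option synthInstance.maxHeartbeats 400000

namespace Cfsg.Agent.Block.STwoSix

open Subgroup

variable {G : Type*} [Group G] [Finite G] (B : Base G)

namespace Base

theorem E_gtz : B.E M6.gtz = B.z * B.t := by rw [M6.gtz, ← E_mul B rfl rfl, E_gz, E_gt]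

theorem E_grz : B.E M6.grz = B.z * B.a := by rw [M6.grz, ← E_mul B rfl rfl, E_gz, E_gr]

theorem E_gtr : B.E M6.gtr = B.a * B.t := by rw [M6.gtr, ← E_mul B rfl rfl, E_gr, E_gt]

theorem E_gtrz : B.E M6.gtrz = B.z * B.a * B.t := by
  rw [M6.gtrz, ← E_mul B rfl rfl, ← E_mul B rfl rfl, E_gz, E_gr, E_gt]

theorem ztz : B.z * (B.z * B.t) = B.t := by rw [← mul_assoc, B.five.zz, one_mul]

theorem t_ne_zt : B.t ≠ B.z * B.t := by
  rw [← E_gtz, ← E_gt B]
  exact fun h => absurd (E_inj B rfl rfl h) (by decide)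

theorem zt_ne_t : B.z * B.t ≠ B.t := (t_ne_zt B).symm

theorem exists_shift (h : B.Cls (B.E M6.gtz)) : ∃ f ∈ B.N, f * B.t * f⁻¹ = B.z * B.t := by
  obtain ⟨f, hf, he⟩ := exists_N_of_class B rfl h
  exact ⟨f, hf, by rw [he, E_gtz]⟩

variable {f : G} (hf : f ∈ B.N) (hft : f * B.t * f⁻¹ = B.z * B.t)
include hf hft

theorem shift_not_mem : f ∉ B.S := by
  intro h
  rw [S_comm_t B h, mul_inv_cancel_right] at hft
  exact t_ne_zt B hft

theorem shift_zt : f * (B.z * B.t) * f⁻¹ = B.t := by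
  rw [show f * (B.z * B.t) * f⁻¹ = f * B.z * f⁻¹ * (f * B.t * f⁻¹) by group, conj_z B hf, hft,
    ztz]

theorem shift_sq_mem : f * f ∈ B.S := by
  refine N_fix_t B (B.N.mul_mem hf hf) ?_
  rw [show f * f * B.t * (f * f)⁻¹ = f * (f * B.t * f⁻¹) * f⁻¹ by group, hft]
  exact shift_zt B hf hft

/-- An element fixing a class element of the centre fixes `t`. -/
theorem shift_moves {u : M6} (hu : u.inZ = true) (hc : B.Cls (B.E u)) :
    f * B.E u * f⁻¹ ≠ B.E u := by
  intro h
  obtain ⟨m, hm, hmu⟩ := exists_N_of_class B hu hc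
  have h3 : m⁻¹ * f * m * B.t * (m⁻¹ * f * m)⁻¹ = B.t := by
    calc m⁻¹ * f * m * B.t * (m⁻¹ * f * m)⁻¹ = m⁻¹ * (f * (m * B.t * m⁻¹) * f⁻¹) * m := by group
      _ = B.t := by rw [hmu, h, ← hmu]; group
  have h4 := N_fix_t B (B.N.mul_mem (B.N.mul_mem (B.N.inv_mem hm) hf) hm) h3
  have h5 := conj_S B hm h4
  rw [show m * (m⁻¹ * f * m) * m⁻¹ = f by group] at h5
  exact shift_not_mem B hf hft h5

theorem shift_a : f * B.a * f⁻¹ = B.a ∨ f * B.a * f⁻¹ = B.z * B.a := by
  obtain ⟨w, hw, he⟩ := N_conj_Z B hf (u := M6.gr) rfl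
  rw [E_gr] at he
  have hl := M6.inZ_low w hw
  have hpw : ∀ (g : G) (i : M6) (b : Bool), f * g * f⁻¹ = B.E i →
      f * bp g b * f⁻¹ = B.E (M6.pw i b) := by
    intro g i b h
    cases b
    · simp [bp, M6.pw, E_one]
    · exact h
  have h2 : f * B.E w * f⁻¹ =
      B.E (M6.endo M6.gz w M6.gtz M6.one M6.one M6.one w) := by
    have hz' : f * B.z * f⁻¹ = B.E M6.gz := by rw [E_gz]; exact conj_z B hf
    have ht' : f * B.t * f⁻¹ = B.E M6.gtz := by rw [E_gtz]; exact hft
    refine ev_conj_free B f hl hz' he ht' (fun h => ?_) (fun h => ?_) rfl hl rfl rfl rfl <;>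
    · exfalso
      revert hw h
      exact (by decide +kernel : ∀ w : M6, w.inZ = true → _ = true → False) w
  have hc : f * f * B.a = B.a * (f * f) := by
    rw [← E_gr B]
    exact (central_iff B (u := M6.gr) rfl).2 rfl _ (shift_sq_mem B hf hft)
  have hfix : f * B.E w * f⁻¹ = B.a := by
    rw [← he, show f * (f * B.a * f⁻¹) * f⁻¹ = f * f * B.a * (f * f)⁻¹ by group, hc,
      mul_inv_cancel_right]
  rw [h2, ← E_gr B] at hfix
  have hmem := (show ∀ w : M6, w.inZ = true →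
      (M6.endo M6.gz w M6.gtz M6.one M6.one M6.one w).low = true ∧
        (M6.endo M6.gz w M6.gtz M6.one M6.one M6.one w = M6.gr → w = M6.gr ∨ w = M6.grz) by
    decide +kernel) w hw
  rcases hmem.2 (E_inj B hmem.1 rfl hfix) with rfl | rfl
  · exact Or.inl (by rw [he, E_gr])
  · exact Or.inr (by rw [he, E_grz])

/-- If `t a` is in the class and `t` moves to `t z`, then `a` is fixed. -/
theorem shift_a_fixed (h : B.Cls (B.E M6.gtr)) : f * B.a * f⁻¹ = B.a := by
  refine (shift_a B hf hft).resolve_right fun ha => ?_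
  refine shift_moves B hf hft (u := M6.gtr) rfl h ?_
  rw [E_gtr, show f * (B.a * B.t) * f⁻¹ = f * B.a * f⁻¹ * (f * B.t * f⁻¹) by group, ha, hft,
    mul_assoc, ← mul_assoc B.a, B.five.az, mul_assoc, ← mul_assoc B.z B.z, B.five.zz, one_mul]

theorem not_six (h1 : B.Cls (B.E M6.gr)) (h2 : B.Cls (B.E M6.gtr)) : False := by
  refine shift_moves B hf hft (u := M6.gr) rfl h1 ?_
  rw [E_gr]
  exact shift_a_fixed B hf hft h2

end Base

end Cfsg.Agent.Block.STwoSix
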