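import Cfsg.Agent.Lib.Block.STwoSix.Orbit

/-!
The orbit of `t` in the centre of `S` has no three elements.
-/

set_option autoImplicit false
set_option linter.unusedSectionVars false
set_option synthInstance.maxSize 4096
set_option synthInstance.maxHeartbeats 400000

namespace Cfsg.Agent.Block.STwoSix

open Subgroup

variable {G : Type*} [Group G] [Finite G]

section Abstract

/-- Conjugation-invariant five-point configuration with a stabiliser fixing exactly two points. -/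
theorem five_false (M : Subgroup G) (p : Fin 5 → G) (hp : Function.Injective p)
    (hinv : ∀ m ∈ M, ∀ i, ∃ j, m * p i * m⁻¹ = p j)
    (htr : ∀ i, ∃ m ∈ M, m * p 0 * m⁻¹ = p i)
    (hu : ∀ m ∈ M, m * p 0 * m⁻¹ = p 0 → m * p 1 * m⁻¹ = p 1)
    (honly : ∀ i, (∀ m ∈ M, m * p 0 * m⁻¹ = p 0 → m * p i * m⁻¹ = p i) → i = 0 ∨ i = 1) :
    False := by
  classical
  let St : Fin 5 → Subgroup G := fun i => M ⊓ centralizer ({p i} : Set G)
  have hst : ∀ {m i}, m ∈ St i ↔ m ∈ M ∧ m * p i * m⁻¹ = p i := fun {m i} =>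
    and_congr Iff.rfl (mem_centralizer_singleton_iff.trans mul_inv_eq_iff_eq_mul.symm)
  choose m hm hmt using htr
  choose act hact using hinv
  -- the stabilisers of the first two points agree
  have h01 : St 0 = St 1 := by
    refine Subgroup.eq_of_le_of_card_ge (fun x hx => hst.2 ⟨(hst.1 hx).1,
      hu x (hst.1 hx).1 (hst.1 hx).2⟩) (le_of_eq (Nat.card_congr
      { toFun := fun x => ⟨(m 1)⁻¹ * x.1 * m 1, hst.2 ⟨M.mul_mem (M.mul_mem (M.inv_mem (hm 1))
          (hst.1 x.2).1) (hm 1), ?_⟩⟩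
        invFun := fun x => ⟨m 1 * x.1 * (m 1)⁻¹, hst.2 ⟨M.mul_mem (M.mul_mem (hm 1)
          (hst.1 x.2).1) (M.inv_mem (hm 1)), ?_⟩⟩
        left_inv := fun x => Subtype.ext (by group)
        right_inv := fun x => Subtype.ext (by group) }))
    · have h := (hst.1 x.2).2
      rw [← hmt 1] at h
      calc (m 1)⁻¹ * x.1 * m 1 * p 0 * ((m 1)⁻¹ * x.1 * m 1)⁻¹
          = (m 1)⁻¹ * (x.1 * (m 1 * p 0 * (m 1)⁻¹) * x.1⁻¹) * m 1 := by group
        _ = p 0 := by rw [h]; group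
    · have h := (hst.1 x.2).2
      rw [← hmt 1]
      calc m 1 * x.1 * (m 1)⁻¹ * (m 1 * p 0 * (m 1)⁻¹) * (m 1 * x.1 * (m 1)⁻¹)⁻¹
          = m 1 * (x.1 * p 0 * x.1⁻¹) * (m 1)⁻¹ := by group
        _ = m 1 * p 0 * (m 1)⁻¹ := by rw [h]
  let f : Fin 5 → Fin 5 := fun i => act (m i) (hm i) 1
  have hf : ∀ i, m i * p 1 * (m i)⁻¹ = p (f i) := fun i => hact _ (hm i) 1
  -- well definedness
  have hwd : ∀ i, ∀ n ∈ M, n * p 0 * n⁻¹ = p i → n * p 1 * n⁻¹ = p (f i) := by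
    intro i n hn hni
    have h1 : (m i)⁻¹ * n * p 0 * ((m i)⁻¹ * n)⁻¹ = p 0 := by
      calc (m i)⁻¹ * n * p 0 * ((m i)⁻¹ * n)⁻¹ = (m i)⁻¹ * (n * p 0 * n⁻¹) * m i := by group
        _ = p 0 := by rw [hni, ← hmt i]; group
    have h2 := hu _ (M.mul_mem (M.inv_mem (hm i)) hn) h1
    rw [← hf i]
    calc n * p 1 * n⁻¹ = m i * ((m i)⁻¹ * n * p 1 * ((m i)⁻¹ * n)⁻¹) * (m i)⁻¹ := by group
      _ = _ := by rw [h2]
  have hfix : ∀ i, f i ≠ i := by
    intro i h
    have := hf i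
    rw [h, ← hmt i] at this
    exact absurd (hp (mul_left_cancel (mul_right_cancel this))) (by decide)
  have hf1 : f 1 = 0 := by
    refine (honly (f 1) fun x hx hx0 => ?_).resolve_right (hfix 1)
    have hx1 : x ∈ St 1 := h01 ▸ hst.2 ⟨hx, hx0⟩
    have h1 : x * m 1 * p 0 * (x * m 1)⁻¹ = p 1 := by
      calc x * m 1 * p 0 * (x * m 1)⁻¹ = x * (m 1 * p 0 * (m 1)⁻¹) * x⁻¹ := by group
        _ = p 1 := by rw [hmt 1]; exact (hst.1 hx1).2
    conv_rhs => rw [← hwd 1 _ (M.mul_mem hx (hm 1)) h1]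
    rw [← hf 1]
    group
  have hinvol : ∀ i, f (f i) = i := by
    intro i
    refine hp ?_
    have h1 : m i * m 1 * p 0 * (m i * m 1)⁻¹ = p (f i) := by
      calc m i * m 1 * p 0 * (m i * m 1)⁻¹ = m i * (m 1 * p 0 * (m 1)⁻¹) * (m i)⁻¹ := by group
        _ = p (f i) := by rw [hmt 1, hf i]
    rw [← hwd (f i) _ (M.mul_mem (hm i) (hm 1)) h1, ← hmt i]
    have h2 : m 1 * p 1 * (m 1)⁻¹ = p 0 := by rw [hf 1, hf1]
    calc m i * m 1 * p 1 * (m i * m 1)⁻¹ = m i * (m 1 * p 1 * (m 1)⁻¹) * (m i)⁻¹ := by group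
      _ = _ := by rw [h2]
  exact (show ∀ f : Fin 5 → Fin 5, (∀ i, f (f i) = i) → (∀ i, f i ≠ i) → False by decide +kernel)
    f hinvol hfix

theorem fin3_facts : ∀ σ : Fin 3 → Fin 3, (∀ i, σ (σ (σ i)) = i) → σ ≠ id →
    (∀ i, σ i ≠ i) ∧ ∀ τ : Fin 3 → Fin 3, (∀ i, τ (τ i) = i) → (∀ i, σ (τ i) = τ (σ i)) → τ = id := by
  decide +kernel

/-- The seven-point configuration `{t, eᵢ, t eᵢ}`. -/
theorem seven_false (M : Subgroup G) (t : G) (e : Fin 3 → G)
    (hinj : Function.Injective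
      (fun o : Option (Fin 3 × Bool) => o.elim t fun q => if q.2 then t * e q.1 else e q.1))
    (hinv : ∀ m ∈ M, ∀ o : Option (Fin 3 × Bool), ∃ o' : Option (Fin 3 × Bool),
      m * (o.elim t fun q => if q.2 then t * e q.1 else e q.1) * m⁻¹ =
        o'.elim t fun q => if q.2 then t * e q.1 else e q.1)
    (htr : ∀ o : Option (Fin 3 × Bool), ∃ m ∈ M,
      m * t * m⁻¹ = o.elim t fun q => if q.2 then t * e q.1 else e q.1)
    (hperm : ∀ m ∈ M, m * t * m⁻¹ = t → ∀ i, ∃ j, m * e i * m⁻¹ = e j)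
    {g s : G} (hg : g ∈ M) (hs : s ∈ M) (hg3 : g * g * g = 1) (hgt : g * t * g⁻¹ ≠ t)
    (hs2 : s * s = 1) (hsmove : ∃ i, s * e i * s⁻¹ ≠ e i)
    (hgs : ∀ o : Option (Fin 3 × Bool),
      g * s * (o.elim t fun q => if q.2 then t * e q.1 else e q.1) * (g * s)⁻¹ =
      s * g * (o.elim t fun q => if q.2 then t * e q.1 else e q.1) * (s * g)⁻¹) : False := by
  classical
  set p : Option (Fin 3 × Bool) → G :=
    fun o => o.elim t fun q => if q.2 then t * e q.1 else e q.1 with hp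
  choose act hact using hinv
  let π : Option (Fin 3 × Bool) → Option (Fin 3 × Bool) := fun o => act g hg o
  have hπ : ∀ o, g * p o * g⁻¹ = p (π o) := fun o => hact g hg o
  have hπ3 : ∀ o, π (π (π o)) = o := by
    intro o
    refine hinj ?_
    show p _ = p o
    rw [← hπ, ← hπ, ← hπ]
    calc g * (g * (g * p o * g⁻¹) * g⁻¹) * g⁻¹ = g * g * g * p o * (g * g * g)⁻¹ := by group
      _ = p o := by rw [hg3]; group
  -- a fixed point
  obtain ⟨q, hq⟩ : ∃ q, π q = q := by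
    let P : Equiv.Perm (Option (Fin 3 × Bool)) :=
      ⟨π, fun o => π (π o), hπ3, hπ3⟩
    haveI : Fact (Nat.Prime 3) := ⟨Nat.prime_three⟩
    have h7 : ¬ 3 ∣ Fintype.card (Option (Fin 3 × Bool)) := by decide
    obtain ⟨q, hq⟩ := Equiv.Perm.exists_fixed_point_of_prime (p := 3) (n := 1) h7
      (σ := P) (Equiv.ext fun o => by
        show (P ^ 3) o = o
        rw [pow_succ, pow_two, Equiv.Perm.mul_apply, Equiv.Perm.mul_apply]
        exact hπ3 o)
    exact ⟨q, hq⟩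
  obtain ⟨m, hm, hmq⟩ := htr q
  replace hmq : m * t * m⁻¹ = p q := hmq
  set x := m⁻¹ * g * m with hx
  have hxM : x ∈ M := M.mul_mem (M.mul_mem (M.inv_mem hm) hg) hm
  have hgq : g * p q * g⁻¹ = p q := by rw [hπ, hq]
  have hxt : x * t * x⁻¹ = t := by
    calc x * t * x⁻¹ = m⁻¹ * (g * (m * t * m⁻¹) * g⁻¹) * m := by rw [hx]; group
      _ = t := by rw [hmq, hgq, ← hmq]; group
  choose σ hσ using hperm x hxM hxt
  have hpe : ∀ (y : G) (τ : Fin 3 → Fin 3), y * t * y⁻¹ = t →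
      (∀ i, y * e i * y⁻¹ = e (τ i)) → ∀ o, y * p o * y⁻¹ = p (o.map fun r => (τ r.1, r.2)) := by
    intro y τ hyt hy o
    rcases o with _ | ⟨i, b⟩
    · exact hyt
    · cases b
      · exact hy i
      · show y * (t * e i) * y⁻¹ = t * e (τ i)
        rw [← hy i]
        conv_rhs => rw [← hyt]
        group
  have heinj : Function.Injective e := fun i j h => by
    have := hinj (a₁ := some (i, false)) (a₂ := some (j, false)) h
    exact (Prod.mk.inj (Option.some.inj this)).1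
  have hσ3 : ∀ i, σ (σ (σ i)) = i := by
    intro i
    refine heinj ?_
    rw [← hσ, ← hσ, ← hσ]
    calc x * (x * (x * e i * x⁻¹) * x⁻¹) * x⁻¹
        = m⁻¹ * (g * g * g) * m * e i * (m⁻¹ * (g * g * g) * m)⁻¹ := by rw [hx]; group
      _ = e i := by rw [hg3]; group
  -- conjugation by `x` moves something
  have hσne : σ ≠ id := by
    intro h
    obtain ⟨o, ho⟩ : ∃ o, m⁻¹ * t * m = p o := by
      have := hact m⁻¹ (M.inv_mem hm) none
      rw [inv_inv] at this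
      exact ⟨act m⁻¹ (M.inv_mem hm) none, this⟩
    have h1 := hpe x σ hxt hσ o
    rw [h, ← ho] at h1
    refine hgt ?_
    have h2 : o.map (fun r : Fin 3 × Bool => (id r.1, r.2)) = o := by rcases o with _ | ⟨i, b⟩ <;> rfl
    rw [h2, ← ho] at h1
    calc g * t * g⁻¹ = m * (x * (m⁻¹ * t * m) * x⁻¹) * m⁻¹ := by rw [hx]; group
      _ = t := by rw [h1]; group
  obtain ⟨hfree, hcomm⟩ := fin3_facts σ hσ3 hσne
  have honly : ∀ o, g * p o * g⁻¹ = p o → o = q := by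
    intro o ho
    refine hinj ?_
    show p o = p q
    have h1 : x * (m⁻¹ * p o * m) * x⁻¹ = m⁻¹ * p o * m := by
      calc x * (m⁻¹ * p o * m) * x⁻¹ = m⁻¹ * (g * p o * g⁻¹) * m := by rw [hx]; group
        _ = _ := by rw [ho]
    have h2 := hact m⁻¹ (M.inv_mem hm) o
    rw [inv_inv] at h2
    replace h2 : m⁻¹ * p o * m = p (act m⁻¹ (M.inv_mem hm) o) := h2
    rw [h2, hpe x σ hxt hσ] at h1
    have h3 := hinj h1
    rcases hr : act m⁻¹ (M.inv_mem hm) o with _ | ⟨i, b⟩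
    · rw [hr] at h2
      rw [← hmq]
      calc p o = m * (m⁻¹ * p o * m) * m⁻¹ := by group
        _ = m * t * m⁻¹ := by rw [h2]; rfl
    · rw [hr] at h3
      exact absurd (Prod.mk.inj (Option.some.inj h3)).1 (hfree i)
  have hsq : s * p q * s⁻¹ = p q := by
    obtain ⟨r, hr⟩ : ∃ r, s * p q * s⁻¹ = p r := ⟨_, hact s hs q⟩
    rw [hr]
    refine congrArg p (honly r ?_)
    rw [← hr]
    calc g * (s * p q * s⁻¹) * g⁻¹ = g * s * p q * (g * s)⁻¹ := by group
      _ = s * g * p q * (s * g)⁻¹ := hgs q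
      _ = s * (g * p q * g⁻¹) * s⁻¹ := by group
      _ = _ := by rw [hgq]
  set y := m⁻¹ * s * m with hy
  have hyt : y * t * y⁻¹ = t := by
    calc y * t * y⁻¹ = m⁻¹ * (s * (m * t * m⁻¹) * s⁻¹) * m := by rw [hy]; group
      _ = t := by rw [hmq, hsq, ← hmq]; group
  choose τ hτ using hperm y (M.mul_mem (M.mul_mem (M.inv_mem hm) hs) hm) hyt
  have hτ2 : ∀ i, τ (τ i) = i := by
    intro i
    refine heinj ?_
    rw [← hτ, ← hτ]
    calc y * (y * e i * y⁻¹) * y⁻¹ = m⁻¹ * (s * s) * m * e i * (m⁻¹ * (s * s) * m)⁻¹ := by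
          rw [hy]; group
      _ = e i := by rw [hs2]; group
  have hτσ : ∀ i, σ (τ i) = τ (σ i) := by
    intro i
    refine heinj ?_
    rw [← hσ, ← hτ, ← hτ, ← hσ]
    obtain ⟨o, ho⟩ : ∃ o, m * e i * m⁻¹ = p o := ⟨_, hact m hm (some (i, false))⟩
    have h := hgs o
    calc x * (y * e i * y⁻¹) * x⁻¹
        = m⁻¹ * (g * s * (m * e i * m⁻¹) * (g * s)⁻¹) * m := by rw [hx, hy]; group
      _ = m⁻¹ * (s * g * p o * (s * g)⁻¹) * m := by rw [ho]; exact congrArg (m⁻¹ * · * m) h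
      _ = y * (x * e i * x⁻¹) * y⁻¹ := by rw [← ho, hx, hy]; group
  have hτid := hcomm τ hτ2 hτσ
  obtain ⟨i, hi⟩ := hsmove
  refine hi ?_
  obtain ⟨o, ho⟩ : ∃ o, m⁻¹ * e i * m = p o := by
    refine ⟨act m⁻¹ (M.inv_mem hm) (some (i, false)), ?_⟩
    have := hact m⁻¹ (M.inv_mem hm) (some (i, false))
    rw [inv_inv] at this
    exact this
  have h1 := hpe y τ hyt hτ o
  have h2 : o.map (fun r : Fin 3 × Bool => (τ r.1, r.2)) = o := by
    rw [hτid]; rcases o with _ | ⟨i, b⟩ <;> rfl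
  rw [h2, ← ho] at h1
  calc s * e i * s⁻¹ = m * (y * (m⁻¹ * e i * m) * y⁻¹) * m⁻¹ := by rw [hy]; group
    _ = e i := by rw [h1]; group

end Abstract

end Cfsg.Agent.Block.STwoSix
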