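import Cfsg.Agent.Lib.Block.STwoSix.Three

/-!
Application of the five- and seven-point lemmas to the two elementary abelian subgroups.
-/

set_option autoImplicit false
set_option linter.unusedSectionVars false
set_option synthInstance.maxSize 4096
set_option synthInstance.maxHeartbeats 400000
set_option maxRecDepth 8000

namespace Cfsg.Agent.Block.STwoSix

open Subgroup

namespace M6

/-- Of `P`-type. -/
def typP (u : M6) : Bool := u.bP && !u.bQ && !u.bf
/-- Of `Q`-type. -/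
def typQ (u : M6) : Bool := !u.bP && u.bQ && !u.bf
/-- In the first elementary abelian subgroup. -/
def selP (u : M6) : Bool := !u.bQ && !u.bf
/-- In the second elementary abelian subgroup. -/
def selQ (u : M6) : Bool := !u.bP && !u.bf

theorem endo_selP : ∀ iz ir it iP : M6, iz.inZ = true → ir.inZ = true → it.inZ = true →
    iP.typP = true → ∀ u : M6, u.selP = true → (endo iz ir it iP one one u).selP = true := by
  rintro ⟨a1, a2, a3, a4, a5, a6⟩ ⟨b1, b2, b3, b4, b5, b6⟩ ⟨c1, c2, c3, c4, c5, c6⟩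
    ⟨d1, d2, d3, d4, d5, d6⟩ h1 h2 h3 h4 ⟨u1, u2, u3, u4, u5, u6⟩ hu
  simp only [selP, inZ, typP, bP, bQ, bf, Bool.and_eq_true, Bool.not_eq_true'] at h1 h2 h3 h4 hu
  obtain ⟨⟨rfl, rfl⟩, rfl⟩ := h1
  obtain ⟨⟨rfl, rfl⟩, rfl⟩ := h2
  obtain ⟨⟨rfl, rfl⟩, rfl⟩ := h3
  obtain ⟨⟨rfl, rfl⟩, rfl⟩ := h4
  obtain ⟨rfl, rfl⟩ := hu
  cases u1 <;> cases u2 <;> cases u3 <;> cases u4 <;>
    simp [selP, endo, mul, pw, one, bz, br, bt, bP, bQ, bf]

theorem endo_selQ : ∀ iz ir it iQ : M6, iz.inZ = true → ir.inZ = true → it.inZ = true →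
    iQ.typQ = true → ∀ u : M6, u.selQ = true → (endo iz ir it one iQ one u).selQ = true := by
  rintro ⟨a1, a2, a3, a4, a5, a6⟩ ⟨b1, b2, b3, b4, b5, b6⟩ ⟨c1, c2, c3, c4, c5, c6⟩
    ⟨d1, d2, d3, d4, d5, d6⟩ h1 h2 h3 h4 ⟨u1, u2, u3, u4, u5, u6⟩ hu
  simp only [selQ, inZ, typQ, bP, bQ, bf, Bool.and_eq_true, Bool.not_eq_true'] at h1 h2 h3 h4 hu
  obtain ⟨⟨rfl, rfl⟩, rfl⟩ := h1
  obtain ⟨⟨rfl, rfl⟩, rfl⟩ := h2
  obtain ⟨⟨rfl, rfl⟩, rfl⟩ := h3
  obtain ⟨⟨rfl, rfl⟩, rfl⟩ := h4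
  obtain ⟨rfl, rfl⟩ := hu
  cases u1 <;> cases u2 <;> cases u3 <;> cases u5 <;>
    simp [selQ, endo, mul, pw, one, bz, br, bt, bP, bQ, bf]

theorem pw_low {i : M6} (h : i.low = true) (b : Bool) : (pw i b).low = true := by
  cases b
  · rfl
  · exact h

theorem typP_low : ∀ u : M6, u.typP = true → u.low = true := by decide +kernel
theorem typQ_low : ∀ u : M6, u.typQ = true → u.low = true := by decide +kernel

theorem mul_typP : ∀ ζ p : M6, ζ.inZ = true → p.typP = true → (mul ζ p).typP = true := by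
  decide +kernel
theorem mul_typQ : ∀ ζ p : M6, ζ.inZ = true → p.typQ = true → (mul ζ p).typQ = true := by
  decide +kernel

theorem dec_typ : ∀ v : M6, v.typP = true ∨ v.typQ = true →
    (v.typP = true ∧ v = mul (v.bz, v.br, v.bt, false, false, false) gP) ∨
    (v.typQ = true ∧ v = mul (v.bz, v.br, v.bt, false, false, false) gQ) := by decide +kernel

end M6

variable {G : Type*} [Group G] [Finite G] (B : Base G)

namespace Base

theorem ev_conj_free (x : G) {iz ir it iP iQ : M6} {u : M6} (hu : u.low = true)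
    (hz : x * B.z * x⁻¹ = B.E iz) (hr : x * B.a * x⁻¹ = B.E ir) (ht : x * B.t * x⁻¹ = B.E it)
    (hP : u.bP = true → x * B.P * x⁻¹ = B.E iP) (hQ : u.bQ = true → x * B.Q * x⁻¹ = B.E iQ)
    (l1 : iz.low = true) (l2 : ir.low = true) (l3 : it.low = true) (l4 : iP.low = true)
    (l5 : iQ.low = true) :
    x * B.E u * x⁻¹ = B.E (M6.endo iz ir it iP iQ M6.one u) := by
  have hb : ∀ (g : G) (i : M6) (b : Bool), i.low = true → (b = true → x * g * x⁻¹ = B.E i) →
      x * bp g b * x⁻¹ = B.E (M6.pw i b) := by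
    intro g i b hi h
    cases b
    · simp [bp, M6.pw, E_one]
    · exact h rfl
  have hbf : u.bf = false := by simpa [M6.low] using hu
  have e1 : M6.pw M6.one u.bf = M6.one := by cases u.bf <;> rfl
  rw [M6.endo, e1]
  have q5 : (M6.mul (M6.pw iQ u.bQ) M6.one).low = true :=
    M6.low_mul _ _ (M6.pw_low l5 _) rfl
  have q4 := M6.low_mul _ _ (M6.pw_low l4 u.bP) q5
  have q3 := M6.low_mul _ _ (M6.pw_low l3 u.bt) q4
  have q2 := M6.low_mul _ _ (M6.pw_low l2 u.br) q3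
  rw [← E_mul B (M6.pw_low l1 _) q2, ← E_mul B (M6.pw_low l2 _) q3, ← E_mul B (M6.pw_low l3 _) q4,
    ← E_mul B (M6.pw_low l4 _) q5, ← E_mul B (M6.pw_low l5 _) rfl, E_one]
  rw [← hb _ iz _ l1 (fun _ => hz), ← hb _ ir _ l2 (fun _ => hr), ← hb _ it _ l3 (fun _ => ht),
    ← hb _ iP _ l4 hP, ← hb _ iQ _ l5 hQ, Base.E, ev, hbf, bp_false]
  simp only [mul_assoc, inv_mul_cancel_left, mul_one]

theorem c_t : B.c * B.t * B.c⁻¹ = B.t := by rw [B.cC, mul_inv_cancel_right]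

theorem ρ_t : B.ρ * B.t * B.ρ⁻¹ = B.t := by rw [B.ρC, mul_inv_cancel_right]

theorem z_eq : B.z = B.P * (B.P * B.z) := by rw [← mul_assoc, B.five.PP, one_mul]

theorem c_z : B.c * B.z * B.c⁻¹ = B.P * B.z * B.a := by
  conv_lhs => rw [z_eq B]
  rw [show B.c * (B.P * (B.P * B.z)) * B.c⁻¹ =
    B.c * B.P * B.c⁻¹ * (B.c * (B.P * B.z) * B.c⁻¹) by group, B.cP, B.cPz]

theorem c_E {u : M6} (hu : u.selP = true) :
    B.c * B.E u * B.c⁻¹ = B.E (M6.endo (M6.mul (M6.mul M6.gP M6.gz) M6.gr) M6.gP M6.gt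
      (M6.mul M6.gP M6.gz) M6.one M6.one u) := by
  have hu' : u.low = true ∧ u.bQ = false := by revert u; decide +kernel
  refine ev_conj_free B B.c hu'.1 ?_ ?_ ?_ (fun _ => ?_) (fun h => ?_) rfl rfl rfl rfl rfl
  · rw [c_z, ← E_mul B rfl rfl, ← E_mul B rfl rfl, E_gP, E_gz, E_gr]
  · rw [B.ca, E_gP]
  · rw [c_t, E_gt]
  · rw [B.cP, ← E_mul B rfl rfl, E_gP, E_gz]
  · rw [hu'.2] at h; exact absurd h Bool.false_ne_true

theorem ρ_E {u : M6} (hu : u.selQ = true) :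
    B.ρ * B.E u * B.ρ⁻¹ =
      B.E (M6.endo M6.gQ M6.gr M6.gt M6.one (M6.mul M6.gQ M6.gz) M6.one u) := by
  have hu' : u.low = true ∧ u.bP = false := by revert u; decide +kernel
  refine ev_conj_free B B.ρ hu'.1 ?_ ?_ ?_ (fun h => ?_) (fun _ => ?_) rfl rfl rfl rfl rfl
  · rw [B.ρz, E_gQ]
  · rw [B.ρa, E_gr]
  · rw [ρ_t, E_gt]
  · rw [hu'.2] at h; exact absurd h Bool.false_ne_true
  · rw [B.ρQ, ← E_mul B rfl rfl, E_gQ, E_gz]

/-- An element of the normaliser preserves or exchanges the two types. -/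
theorem N_types {n : G} (hn : n ∈ B.N) :
    ∃ vP vQ : M6, n * B.P * n⁻¹ = B.E vP ∧ n * B.Q * n⁻¹ = B.E vQ ∧
      ((vP.typP = true ∧ vQ.typQ = true) ∨ (vP.typQ = true ∧ vQ.typP = true)) := by
  obtain ⟨vP, hP, eP⟩ := conj_S B hn (P_mem B)
  obtain ⟨vQ, hQ, eQ⟩ := conj_S B hn (Q_mem B)
  refine ⟨vP, vQ, eP.symm, eQ.symm, ?_⟩
  refine (show ∀ u v : M6, u.low = true → v.low = true → u.sq1 = true → v.sq1 = true →
    M6.comm u v = false → (u.typP = true ∧ v.typQ = true) ∨ (u.typQ = true ∧ v.typP = true)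
    by decide +kernel) vP vQ hP hQ ?_ ?_ ?_
  · refine decide_eq_true (E_inj B (M6.low_mul _ _ hP hP) rfl ?_)
    rw [← E_mul B hP hP, eP, E_one,
      show n * B.P * n⁻¹ * (n * B.P * n⁻¹) = n * (B.P * B.P) * n⁻¹ by group, B.five.PP]
    group
  · refine decide_eq_true (E_inj B (M6.low_mul _ _ hQ hQ) rfl ?_)
    rw [← E_mul B hQ hQ, eQ, E_one,
      show n * B.Q * n⁻¹ * (n * B.Q * n⁻¹) = n * (B.Q * B.Q) * n⁻¹ by group, B.five.QQ]
    group
  · rw [← Bool.not_eq_true, ← E_comm B hP hQ, eP, eQ]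
    intro h
    have h' : B.P * B.Q = B.Q * B.P := by
      have := congrArg (fun y => n⁻¹ * y * n) h
      simpa [mul_assoc] using this
    rw [← E_gP B, ← E_gQ B, E_comm B rfl rfl] at h'
    exact absurd h' (by decide)

/-- A square of an element of the normaliser preserves the types. -/
theorem sq_types {n : G} (hn : n ∈ B.N) :
    ∃ vP vQ : M6, n * n * B.P * (n * n)⁻¹ = B.E vP ∧ n * n * B.Q * (n * n)⁻¹ = B.E vQ ∧
      vP.typP = true ∧ vQ.typQ = true := by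
  obtain ⟨vP, vQ, eP, eQ, h⟩ := N_types B hn
  have key : ∀ v : M6, v.typP = true ∨ v.typQ = true →
      ∃ w : M6, n * B.E v * n⁻¹ = B.E w ∧
        ((v.typP = true → vP.typP = true → w.typP = true) ∧
         (v.typP = true → vP.typQ = true → w.typQ = true) ∧
         (v.typQ = true → vQ.typP = true → w.typP = true) ∧
         (v.typQ = true → vQ.typQ = true → w.typQ = true)) := by
    intro v hv
    obtain ⟨ζ, hζ, hdec⟩ : ∃ ζ : M6, ζ.inZ = true ∧ ((v.typP = true ∧ v = M6.mul ζ M6.gP) ∨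
        (v.typQ = true ∧ v = M6.mul ζ M6.gQ)) := by
      exact ⟨_, rfl, M6.dec_typ v hv⟩
    obtain ⟨ζ', hζ', eζ⟩ := N_conj_Z B hn hζ
    have hl := M6.inZ_low ζ hζ
    have hl' := M6.inZ_low ζ' hζ'
    have hb : ∀ x y : G, n * (x * y) * n⁻¹ = n * x * n⁻¹ * (n * y * n⁻¹) := fun x y => by group
    have lP : vP.low = true := h.elim (fun h => M6.typP_low _ h.1) (fun h => M6.typQ_low _ h.1)
    have lQ : vQ.low = true := h.elim (fun h => M6.typQ_low _ h.2) (fun h => M6.typP_low _ h.2)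
    have mP := M6.mul_typP
    have mQ := M6.mul_typQ
    rcases hdec with ⟨hv', e⟩ | ⟨hv', e⟩
    · refine ⟨ζ'.mul vP, by rw [e, ← E_mul B hl rfl, E_gP, hb, eζ, eP, E_mul B hl' lP],
        fun _ h => mP _ _ hζ' h, fun _ h => mQ _ _ hζ' h, fun hq => ?_, fun hq => ?_⟩ <;>
      · exfalso; revert hv' hq
        exact (show ∀ v : M6, v.typP = true → v.typQ = true → False by decide +kernel) v
    · refine ⟨ζ'.mul vQ, by rw [e, ← E_mul B hl rfl, E_gQ, hb, eζ, eQ, E_mul B hl' lQ],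
        fun hp => ?_, fun hp => ?_, fun _ h => mP _ _ hζ' h, fun _ h => mQ _ _ hζ' h⟩ <;>
      · exfalso; revert hv' hp
        exact (show ∀ v : M6, v.typQ = true → v.typP = true → False by decide +kernel) v
  have e2 : ∀ x : G, n * n * x * (n * n)⁻¹ = n * (n * x * n⁻¹) * n⁻¹ := fun x => by group
  rcases h with ⟨h1, h2⟩ | ⟨h1, h2⟩
  · obtain ⟨w, hw, hh, -, -, -⟩ := key vP (Or.inl h1)
    obtain ⟨w', hw', -, -, -, hh'⟩ := key vQ (Or.inr h2)
    exact ⟨w, w', by rw [e2, eP, hw], by rw [e2, eQ, hw'], hh h1 h1, hh' h2 h2⟩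
  · obtain ⟨w, hw, -, -, hh, -⟩ := key vP (Or.inr h1)
    obtain ⟨w', hw', -, hh', -, -⟩ := key vQ (Or.inl h2)
    exact ⟨w, w', by rw [e2, eP, hw], by rw [e2, eQ, hw'], hh h1 h2, hh' h2 h1⟩

/-- The subgroup of the `P`-side. -/
def A1 : Subgroup G where
  carrier := {g | ∃ u : M6, u.selP = true ∧ B.E u = g}
  one_mem' := ⟨M6.one, rfl, E_one B⟩
  mul_mem' := by
    rintro _ _ ⟨u, hu, rfl⟩ ⟨v, hv, rfl⟩
    obtain ⟨u1, u2, u3, u4, u5, u6⟩ := u
    obtain ⟨v1, v2, v3, v4, v5, v6⟩ := v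
    simp only [M6.selP, M6.bQ, M6.bf, Bool.and_eq_true, Bool.not_eq_true'] at hu hv
    obtain ⟨rfl, rfl⟩ := hu
    obtain ⟨rfl, rfl⟩ := hv
    exact ⟨_, rfl, (E_mul B (u := (u1, u2, u3, u4, false, false))
      (v := (v1, v2, v3, v4, false, false)) rfl rfl).symm⟩
  inv_mem' := by
    rintro _ ⟨u, hu, rfl⟩
    refine ⟨u.inv, (show ∀ u : M6, u.selP = true → (M6.inv u).selP = true by decide +kernel) u hu,
      eq_inv_of_mul_eq_one_right ?_⟩
    have hl : u.low = true := by revert u; decide +kernel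
    rw [E_mul B hl (M6.low_inv u hl), M6.mul_inv, E_one]

/-- The subgroup of the `Q`-side. -/
def A2 : Subgroup G where
  carrier := {g | ∃ u : M6, u.selQ = true ∧ B.E u = g}
  one_mem' := ⟨M6.one, rfl, E_one B⟩
  mul_mem' := by
    rintro _ _ ⟨u, hu, rfl⟩ ⟨v, hv, rfl⟩
    obtain ⟨u1, u2, u3, u4, u5, u6⟩ := u
    obtain ⟨v1, v2, v3, v4, v5, v6⟩ := v
    simp only [M6.selQ, M6.bP, M6.bf, Bool.and_eq_true, Bool.not_eq_true'] at hu hv
    obtain ⟨rfl, rfl⟩ := hu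
    obtain ⟨rfl, rfl⟩ := hv
    exact ⟨_, rfl, (E_mul B (u := (u1, u2, u3, false, u5, false))
      (v := (v1, v2, v3, false, v5, false)) rfl rfl).symm⟩
  inv_mem' := by
    rintro _ ⟨u, hu, rfl⟩
    refine ⟨u.inv, (show ∀ u : M6, u.selQ = true → (M6.inv u).selQ = true by decide +kernel) u hu,
      eq_inv_of_mul_eq_one_right ?_⟩
    have hl : u.low = true := by revert u; decide +kernel
    rw [E_mul B hl (M6.low_inv u hl), M6.mul_inv, E_one]

theorem selP_low : ∀ u : M6, u.selP = true → u.low = true := by decide +kernel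
theorem selQ_low : ∀ u : M6, u.selQ = true → u.low = true := by decide +kernel

theorem c_mem_normalizer : B.c ∈ normalizer (B.A1 : Set G) := by
  refine mem_normalizer_fintype ?_
  rintro _ ⟨u, hu, rfl⟩
  exact ⟨_, (show ∀ u : M6, u.selP = true →
      (M6.endo (M6.mul (M6.mul M6.gP M6.gz) M6.gr) M6.gP M6.gt (M6.mul M6.gP M6.gz) M6.one
        M6.one u).selP = true by decide +kernel) u hu, (c_E B hu).symm⟩

theorem ρ_mem_normalizer : B.ρ ∈ normalizer (B.A2 : Set G) := by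
  refine mem_normalizer_fintype ?_
  rintro _ ⟨u, hu, rfl⟩
  exact ⟨_, (show ∀ u : M6, u.selQ = true →
      (M6.endo M6.gQ M6.gr M6.gt M6.one (M6.mul M6.gQ M6.gz) M6.one u).selQ = true by
        decide +kernel) u hu, (ρ_E B hu).symm⟩

/-- Squares of elements of the normaliser of `S` normalise both subgroups. -/
theorem sq_mem_normalizer {n : G} (hn : n ∈ B.N) :
    n * n ∈ normalizer (B.A1 : Set G) ∧ n * n ∈ normalizer (B.A2 : Set G) := by
  obtain ⟨vP, vQ, eP, eQ, tP, tQ⟩ := sq_types B hn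
  have hg : n * n ∈ B.N := B.N.mul_mem hn hn
  obtain ⟨iz, hz, ez⟩ := N_conj_Z B hg (u := M6.gz) rfl
  obtain ⟨ir, hr, er⟩ := N_conj_Z B hg (u := M6.gr) rfl
  obtain ⟨it, ht, et⟩ := N_conj_Z B hg (u := M6.gt) rfl
  rw [E_gz] at ez; rw [E_gr] at er; rw [E_gt] at et
  have lP : vP.low = true := M6.typP_low _ tP
  have lQ : vQ.low = true := M6.typQ_low _ tQ
  constructor
  · refine mem_normalizer_fintype ?_
    rintro _ ⟨u, hu, rfl⟩
    have hb : u.bQ = false := by revert u; decide +kernel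
    exact ⟨_, M6.endo_selP iz ir it vP hz hr ht tP u hu, (ev_conj_free B (n * n) (iQ := M6.one)
      (selP_low u hu) ez er et (fun _ => eP)
      (fun h => absurd (hb.symm.trans h) Bool.false_ne_true) (M6.inZ_low _ hz) (M6.inZ_low _ hr)
      (M6.inZ_low _ ht) lP rfl).symm⟩
  · refine mem_normalizer_fintype ?_
    rintro _ ⟨u, hu, rfl⟩
    have hb : u.bP = false := by revert u; decide +kernel
    exact ⟨_, M6.endo_selQ iz ir it vQ hz hr ht tQ u hu, (ev_conj_free B (n * n) (iP := M6.one)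
      (selQ_low u hu) ez er et (fun h => absurd (hb.symm.trans h) Bool.false_ne_true)
      (fun _ => eQ) (M6.inZ_low _ hz) (M6.inZ_low _ hr)
      (M6.inZ_low _ ht) rfl lQ).symm⟩

end Base

end Cfsg.Agent.Block.STwoSix
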