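import Cfsg.Agent.Lib.Block.STwoSix.Basis

/-!
The orbit `{t, t z}`, when the exchanging element preserves the two types of involutions.
-/

set_option autoImplicit false
set_option linter.unusedSectionVars false
set_option synthInstance.maxSize 4096
set_option synthInstance.maxHeartbeats 400000
set_option maxRecDepth 8000

namespace Cfsg.Agent.Block.STwoSix

open Subgroup

namespace M6

/-- The test character for a configuration of the narrow kind. -/
def chiTwo (c : Cfg) (u : M6) : Bool := (u.bt ^^ u.bP ^^ u.bQ) ^^ ((img c).2.2.2 && u.bf)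

theorem chiTwo_add : ∀ c : Cfg, ∀ u v : M6, chiTwo c (mul u v) = (chiTwo c u ^^ chiTwo c v) := by
  rintro c ⟨a1, a2, a3, a4, a5, a6⟩ ⟨b1, b2, b3, b4, b5, b6⟩
  simp only [chiTwo, mul, bt, bP, bQ, bf]
  generalize (img c).2.2.2 = k
  revert k a3 a4 a5 a6 b3 b4 b5 b6
  decide +kernel

theorem chiTwo_count : ∀ c : Cfg, good false c = true →
    (allM.countP fun w => clB false c w && chiTwo c w) % 4 = 2 := by
  decide +kernel

/-- Basis change for the narrow frame. -/
def theta (ir : M6) (u : M6) : M6 := endo gz ir gt (mul gP gr) gQ one u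

theorem theta_low : ∀ ir ∈ [gr, gtr], ∀ u : M6, u.low = true →
    (theta ir u).low = true ∧ (theta ir u = one → u = one) ∧
      (((theta ir u).sq1 = true ∧ (theta ir u).can ∈ [gt, gtz]) ↔ inCl false u = true) := by
  decide +kernel

theorem theta_surj : ∀ ir ∈ [gr, gtr], ∀ u : M6, u.low = true →
    u ∈ (allM.filter fun v => v.low).map (theta ir) := by
  decide +kernel

end M6

variable {G : Type*} [Group G] [Finite G] {B : Base G}

namespace Base

variable (h1 : B.Cls (B.E M6.gtz)) (h2 : ¬B.Cls (B.E M6.gr)) (h3 : ¬B.Cls (B.E M6.grz))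
  (h4 : ¬B.Cls (B.E M6.gtr)) (h5 : ¬B.Cls (B.E M6.gtrz))
include h1 h2 h3 h4 h5

theorem two_list : ∀ v : M6, v.inZ = true → (B.Cls (B.E v) ↔ v ∈ [M6.gt, M6.gtz]) := by
  intro v hv
  constructor
  · intro hc
    rcases M6.inZ_cases v hv with rfl | rfl | rfl | rfl | rfl | rfl | rfl | rfl
    · exact absurd (E_one B ▸ hc) (Cls_one B)
    · exact absurd (E_gz B ▸ hc) (Cls_z B)
    · decide
    · decide
    · exact absurd hc h2
    · exact absurd hc h3
    · exact absurd hc h4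
    · exact absurd hc h5
  · intro h
    simp only [List.mem_cons, List.not_mem_nil, or_false] at h
    rcases h with rfl | rfl
    · rw [E_gt]; exact Cls_t B
    · exact h1

theorem two_cls {u : M6} (hu : u.low = true) :
    B.Cls (B.E u) ↔ u.sq1 = true ∧ u.can ∈ [M6.gt, M6.gtz] :=
  cls_low_of B hu _ (two_list h1 h2 h3 h4 h5)

theorem two_N {n : G} (hn : n ∈ B.N) : n * B.t * n⁻¹ = B.t ∨ n * B.t * n⁻¹ = B.z * B.t := by
  obtain ⟨v, hv, he⟩ := N_conj_Z B hn (u := M6.gt) rfl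
  rw [E_gt] at he
  have hc : B.Cls (B.E v) := he ▸ Cls_conj B (Cls_t B) n
  have := (two_list h1 h2 h3 h4 h5 v hv).1 hc
  simp only [List.mem_cons, List.not_mem_nil, or_false] at this
  rw [he]
  rcases this with rfl | rfl
  · exact Or.inl (E_gt B)
  · exact Or.inr (E_gtz B)

theorem two_preserving {f : G} (hf : f ∈ B.N) (hft : f * B.t * f⁻¹ = B.z * B.t) {vP vQ : M6}
    (eP : f * B.P * f⁻¹ = B.E vP) (eQ : f * B.Q * f⁻¹ = B.E vQ) (tP : vP.typP = true)
    (tQ : vQ.typQ = true) : ∃ H : Subgroup G, H.index = 2 := by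
  classical
  obtain ⟨ir0, hir0, ea⟩ : ∃ w, (w = M6.gr ∨ w = M6.grz) ∧ f * B.a * f⁻¹ = B.E w := by
    rcases shift_a B hf hft with h | h
    · exact ⟨_, Or.inl rfl, by rw [E_gr, h]⟩
    · exact ⟨_, Or.inr rfl, by rw [E_grz, h]⟩
  have lir0 : ir0.low = true := by rcases hir0 with rfl | rfl <;> rfl
  have lP := M6.typP_low _ tP
  have lQ := M6.typQ_low _ tQ
  have ez : f * B.z * f⁻¹ = B.E M6.gz := by rw [E_gz]; exact conj_z B hf
  have et : f * B.t * f⁻¹ = B.E M6.gtz := by rw [E_gtz]; exact hft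
  have hconj : ∀ u : M6, u.low = true →
      f * B.E u * f⁻¹ = B.E (M6.endo M6.gz ir0 M6.gtz vP vQ M6.one u) := fun u hu =>
    ev_conj_free B f hu ez (by exact ea) et (fun _ => eP) (fun _ => eQ) rfl lir0 rfl lP lQ
  -- images of `t P a` and `t Q` are in the class
  have himg : ∀ u : M6, u.low = true →
      (M6.endo M6.gz ir0 M6.gtz vP vQ M6.one u).low = true →
      B.Cls (B.E u) → B.Cls (B.E (M6.endo M6.gz ir0 M6.gtz vP vQ M6.one u)) := fun u hu _ hc => by
    rw [← hconj u hu]; exact Cls_conj B hc f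
  have hlow : ∀ iP iQ : M6, iP.low = true → iQ.low = true →
      (M6.endo M6.gz ir0 M6.gtz iP iQ M6.one (M6.mul (M6.mul M6.gt M6.gP) M6.gr)).low = true ∧
      (M6.endo M6.gz ir0 M6.gtz iP iQ M6.one (M6.mul M6.gt M6.gQ)).low = true := by
    rcases hir0 with rfl | rfl <;> decide +kernel
  have hA := (two_cls h1 h2 h3 h4 h5 (hlow vP vQ lP lQ).1).1 (himg _ rfl (hlow vP vQ lP lQ).1
    ((two_cls h1 h2 h3 h4 h5 rfl).2 (by decide)))
  have hB := (two_cls h1 h2 h3 h4 h5 (hlow vP vQ lP lQ).2).1 (himg _ rfl (hlow vP vQ lP lQ).2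
    ((two_cls h1 h2 h3 h4 h5 rfl).2 (by decide)))
  have hPQ : (M6.endo M6.gz ir0 M6.gtz vP vQ M6.one (M6.mul M6.gP M6.gr) = M6.mul M6.gP M6.gr ∨
        M6.endo M6.gz ir0 M6.gtz vP vQ M6.one (M6.mul M6.gP M6.gr) =
          M6.mul M6.gz (M6.mul M6.gP M6.gr)) ∧
      (vQ = M6.gQ ∨ vQ = M6.mul M6.gz M6.gQ) := by
    constructor
    · rcases hir0 with rfl | rfl
      · exact (show ∀ iP : M6, iP.typP = true →
          (M6.endo M6.gz M6.gr M6.gtz iP M6.one M6.one (M6.mul (M6.mul M6.gt M6.gP) M6.gr)).sq1 = true ∧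
          (M6.endo M6.gz M6.gr M6.gtz iP M6.one M6.one (M6.mul (M6.mul M6.gt M6.gP) M6.gr)).can ∈
            [M6.gt, M6.gtz] →
          (M6.endo M6.gz M6.gr M6.gtz iP M6.one M6.one (M6.mul M6.gP M6.gr) = M6.mul M6.gP M6.gr ∨
            M6.endo M6.gz M6.gr M6.gtz iP M6.one M6.one (M6.mul M6.gP M6.gr) =
              M6.mul M6.gz (M6.mul M6.gP M6.gr)) by decide +kernel) vP tP hA
      · exact (show ∀ iP : M6, iP.typP = true →
          (M6.endo M6.gz M6.grz M6.gtz iP M6.one M6.one (M6.mul (M6.mul M6.gt M6.gP) M6.gr)).sq1 = true ∧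
          (M6.endo M6.gz M6.grz M6.gtz iP M6.one M6.one (M6.mul (M6.mul M6.gt M6.gP) M6.gr)).can ∈
            [M6.gt, M6.gtz] →
          (M6.endo M6.gz M6.grz M6.gtz iP M6.one M6.one (M6.mul M6.gP M6.gr) = M6.mul M6.gP M6.gr ∨
            M6.endo M6.gz M6.grz M6.gtz iP M6.one M6.one (M6.mul M6.gP M6.gr) =
              M6.mul M6.gz (M6.mul M6.gP M6.gr)) by decide +kernel) vP tP hA
    · rcases hir0 with rfl | rfl
      · exact (show ∀ iQ : M6, iQ.typQ = true →
          (M6.endo M6.gz M6.gr M6.gtz M6.one iQ M6.one (M6.mul M6.gt M6.gQ)).sq1 = true ∧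
          (M6.endo M6.gz M6.gr M6.gtz M6.one iQ M6.one (M6.mul M6.gt M6.gQ)).can ∈
            [M6.gt, M6.gtz] → iQ = M6.gQ ∨ iQ = M6.mul M6.gz M6.gQ by decide +kernel) vQ tQ hB
      · exact (show ∀ iQ : M6, iQ.typQ = true →
          (M6.endo M6.gz M6.grz M6.gtz M6.one iQ M6.one (M6.mul M6.gt M6.gQ)).sq1 = true ∧
          (M6.endo M6.gz M6.grz M6.gtz M6.one iQ M6.one (M6.mul M6.gt M6.gQ)).can ∈
            [M6.gt, M6.gtz] → iQ = M6.gQ ∨ iQ = M6.mul M6.gz M6.gQ by decide +kernel) vQ tQ hB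
  have hPa : f * (B.P * B.a) * f⁻¹ = B.P * B.a ∨ f * (B.P * B.a) * f⁻¹ = B.z * (B.P * B.a) := by
    have e := hconj (M6.mul M6.gP M6.gr) rfl
    rw [← E_mul B rfl rfl, E_gP, E_gr] at e
    rcases hPQ.1 with h | h
    · exact Or.inl (by rw [e, h, ← E_mul B rfl rfl, E_gP, E_gr])
    · exact Or.inr (by rw [e, h, ← E_mul B rfl rfl, ← E_mul B rfl rfl, E_gz, E_gP, E_gr])
  have hQ : f * B.Q * f⁻¹ = B.Q ∨ f * B.Q * f⁻¹ = B.z * B.Q := by
    rcases hPQ.2 with h | h
    · exact Or.inl (by rw [eQ, h, E_gQ])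
    · exact Or.inr (by rw [eQ, h, ← E_mul B rfl rfl, E_gz, E_gQ])
  -- the central element
  obtain ⟨ir, hir, hρ⟩ : ∃ w, w ∈ [M6.gr, M6.gtr] ∧ f * B.E w * f⁻¹ = B.E w := by
    rcases shift_a B hf hft with h | h
    · exact ⟨M6.gr, by decide, by rw [E_gr, h]⟩
    · refine ⟨M6.gtr, by decide, ?_⟩
      rw [E_gtr, show f * (B.a * B.t) * f⁻¹ = f * B.a * f⁻¹ * (f * B.t * f⁻¹) by group, h, hft,
        mul_assoc, ← mul_assoc B.a, B.five.az, mul_assoc, ← mul_assoc B.z B.z, B.five.zz, one_mul]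
  have lir : ir.low = true :=
    (show ∀ w ∈ [M6.gr, M6.gtr], M6.low w = true by decide +kernel) ir hir
  -- adjust
  obtain ⟨g, hgN, hgt, hgρ, hgP, hgQ⟩ : ∃ g ∈ B.N, g * B.t * g⁻¹ = B.z * B.t ∧
      g * B.E ir * g⁻¹ = B.E ir ∧ g * (B.P * B.a) * g⁻¹ = B.P * B.a ∧ g * B.Q * g⁻¹ = B.Q := by
    have hzz : f * B.z * f⁻¹ = B.z := conj_z B hf
    have hirS : ∀ s ∈ B.S, s * B.E ir * s⁻¹ = B.E ir := fun s hs => by
      rw [(central_iff B lir).2
        ((show ∀ w ∈ [M6.gr, M6.gtr], M6.inZ w = true by decide +kernel) ir hir) s hs,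
        mul_inv_cancel_right]
    have key : ∀ s : G, s ∈ B.S → ∀ zp zq : Bool,
        s * (B.P * B.a) * s⁻¹ = bp B.z zp * (B.P * B.a) → s * B.Q * s⁻¹ = bp B.z zq * B.Q →
        f * (B.P * B.a) * f⁻¹ = bp B.z zp * (B.P * B.a) → f * B.Q * f⁻¹ = bp B.z zq * B.Q →
        ∃ g ∈ B.N, g * B.t * g⁻¹ = B.z * B.t ∧ g * B.E ir * g⁻¹ = B.E ir ∧
          g * (B.P * B.a) * g⁻¹ = B.P * B.a ∧ g * B.Q * g⁻¹ = B.Q := by
      intro s hs zp zq sP sQ fP fQ
      have hbz : ∀ b, f * bp B.z b * f⁻¹ = bp B.z b := by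
        intro b; cases b
        · simp [bp]
        · exact hzz
      have hfx : ∀ (x : G) (b : Bool), s * x * s⁻¹ = bp B.z b * x → f * x * f⁻¹ = bp B.z b * x →
          f * s * x * (f * s)⁻¹ = x := by
        intro x b hs' hf'
        calc f * s * x * (f * s)⁻¹ = f * (s * x * s⁻¹) * f⁻¹ := by group
          _ = f * bp B.z b * f⁻¹ * (f * x * f⁻¹) := by rw [hs']; group
          _ = x := by rw [hbz, hf', ← mul_assoc, bp_sq B.five.zz]; simp [bp]
      refine ⟨f * s, B.N.mul_mem hf (S_le_N B hs), ?_, ?_, hfx _ _ sP fP, hfx _ _ sQ fQ⟩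
      · rw [show f * s * B.t * (f * s)⁻¹ = f * (s * B.t * s⁻¹) * f⁻¹ by group, S_comm_t B hs,
          mul_inv_cancel_right, hft]
      · rw [show f * s * B.E ir * (f * s)⁻¹ = f * (s * B.E ir * s⁻¹) * f⁻¹ by group, hirS s hs, hρ]
    have cj : ∀ (s x : M6) (b : Bool), s.low = true → x.low = true →
        M6.mul (M6.mul s x) s.inv = M6.mul (M6.pw M6.gz b) x →
        B.E s * B.E x * (B.E s)⁻¹ = bp B.z b * B.E x := by
      intro s x b hs hx h
      have hinv : (B.E s)⁻¹ = B.E s.inv := inv_eq_of_mul_eq_one_right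
        (by rw [E_mul B hs (M6.low_inv s hs), M6.mul_inv, E_one])
      have hb : bp B.z b = B.E (M6.pw M6.gz b) := by
        cases b
        · exact (E_one B).symm
        · exact (E_gz B).symm
      rw [hinv, hb, E_mul B hs hx, E_mul B (M6.low_mul _ _ hs hx) (M6.low_inv s hs), h,
        ← E_mul B (M6.pw_low rfl b) hx]
    have ePa : B.E (M6.mul M6.gP M6.gr) = B.P * B.a := by rw [← E_mul B rfl rfl, E_gP, E_gr]
    have eQ' : B.E M6.gQ = B.Q := E_gQ B
    have mk : ∀ (s : M6) (zp zq : Bool), s.low = true →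
        M6.mul (M6.mul s (M6.mul M6.gP M6.gr)) s.inv = M6.mul (M6.pw M6.gz zp) (M6.mul M6.gP M6.gr) →
        M6.mul (M6.mul s M6.gQ) s.inv = M6.mul (M6.pw M6.gz zq) M6.gQ →
        f * (B.P * B.a) * f⁻¹ = bp B.z zp * (B.P * B.a) → f * B.Q * f⁻¹ = bp B.z zq * B.Q →
        ∃ g ∈ B.N, g * B.t * g⁻¹ = B.z * B.t ∧ g * B.E ir * g⁻¹ = B.E ir ∧
          g * (B.P * B.a) * g⁻¹ = B.P * B.a ∧ g * B.Q * g⁻¹ = B.Q := by
      intro s zp zq hs e1 e2
      refine key _ (E_mem B hs) zp zq ?_ ?_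
      · rw [← ePa]; exact cj s _ zp hs rfl e1
      · rw [← eQ']; exact cj s _ zq hs rfl e2
    rcases hPa with hp | hp <;> rcases hQ with hq | hq
    · exact mk M6.one false false rfl rfl rfl (by simpa [bp] using hp) (by simpa [bp] using hq)
    · exact mk M6.gP false true rfl rfl rfl (by simpa [bp] using hp) (by simpa [bp] using hq)
    · exact mk M6.gQ true false rfl rfl rfl (by simpa [bp] using hp) (by simpa [bp] using hq)
    · exact mk (M6.mul M6.gP M6.gQ) true true rfl rfl rfl (by simpa [bp] using hp)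
        (by simpa [bp] using hq)
  -- the data
  have hev : ∀ u : M6, ev B.z (B.E ir) B.t (B.P * B.a) B.Q 1 u = B.E (M6.theta ir u) := by
    intro u
    have := ev_subst B (iz := M6.gz) (ir := ir) (it := M6.gt) (iP := M6.mul M6.gP M6.gr)
      (iQ := M6.gQ) rfl lir rfl rfl rfl u
    rwa [E_gz, E_gt, ← E_mul B rfl rfl, E_gP, E_gr, E_gQ] at this
  have hcm : ∀ u v : M6, u.low = true → v.low = true → M6.comm u v = true →
      B.E u * B.E v = B.E v * B.E u := fun u v hu hv h => (E_comm B hu hv).2 h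
  have hpair : ∀ w ∈ [M6.gr, M6.gtr], M6.comm w M6.gz = true ∧ M6.comm M6.gt w = true ∧
      M6.comm (M6.mul M6.gP M6.gr) w = true ∧ M6.comm M6.gQ w = true ∧ M6.mul w w = M6.one := by
    decide +kernel
  obtain ⟨p1, p2, p3, p4, p5⟩ := hpair ir hir
  have hPaE : B.E (M6.mul M6.gP M6.gr) = B.P * B.a := by rw [← E_mul B rfl rfl, E_gP, E_gr]
  have five' : Five B.z (B.E ir) B.t (B.P * B.a) B.Q :=
    { zz := B.five.zz
      aa := by rw [E_mul B lir lir, p5, E_one]
      tt := B.five.tt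
      PP := by rw [← hPaE, E_mul B rfl rfl]; exact E_one B
      QQ := B.five.QQ
      az := by rw [← E_gz B]; exact hcm _ _ lir rfl p1
      tz := B.five.tz
      Pz := by rw [← hPaE, ← E_gz B]; exact hcm _ _ rfl rfl rfl
      Qz := B.five.Qz
      ta := by rw [← E_gt B]; exact hcm _ _ rfl lir p2
      Pa := by rw [← hPaE]; exact hcm _ _ rfl lir p3
      Qa := by rw [← E_gQ B]; exact hcm _ _ rfl lir p4
      Pt := by rw [← hPaE, ← E_gt B]; exact hcm _ _ rfl rfl rfl
      Qt := B.five.Qt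
      QP := by
        rw [← hPaE, ← E_gQ B, ← E_gz B, E_mul B rfl rfl, E_mul B rfl rfl, E_mul B rfl rfl]
        rfl }
  let X : Pre B :=
    { ρ := B.E ir, P' := B.P * B.a, f := g, wide := false, five := five'
      inj := fun u hu h => by
        rw [hev, ← E_one B] at h
        exact (M6.theta_low ir hir u hu).2.1 (E_inj B (M6.theta_low ir hir u hu).1 rfl h)
      range_S := fun x => by
        constructor
        · rintro ⟨v, hv, rfl⟩
          obtain ⟨u, hu, rfl⟩ := List.mem_map.1 (M6.theta_surj ir hir v hv)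
          exact ⟨u, (List.mem_filter.1 hu).2, hev u⟩
        · rintro ⟨u, hu, rfl⟩
          rw [hev]
          exact E_mem B (M6.theta_low ir hir u hu).1
      fN := hgN, f_t := hgt, f_ρ := hgρ, f_P := hgP, f_Q := hgQ
      clsLow := fun u hu => by
        rw [hev, two_cls h1 h2 h3 h4 h5 (M6.theta_low ir hir u hu).1]
        exact (M6.theta_low ir hir u hu).2.2 }
  obtain ⟨F, -, -, hw, -⟩ := X.exists_frame
  obtain ⟨c, hgood, hc⟩ := F.classify
  have hw' : F.wide = false := hw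
  rw [hw'] at hgood
  obtain ⟨m, hm, hC⟩ := B.card_C
  have hcount := M6.chiTwo_count c hgood
  have hh := F.ncard_hits_T0 (M6.chiTwo c) hc
  rw [hw'] at hh
  set k := M6.allM.countP fun w => M6.clB false c w && M6.chiTwo c w with hk
  refine index_two_of_hits (v := B.t) (tt B) (F.tfun_hom _ (M6.chiTwo_add c)) (c := 5) (e := 1)
    hC hm (b := 1) (by rw [F.card_T0]; rfl) (m := k / 2) (by rw [hh]; omega) ?_
  rw [Nat.odd_iff]
  omega

end Base

end Cfsg.Agent.Block.STwoSix
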