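import Cfsg.Agent.Lib.Block.STwoSix.Four
import Cfsg.Agent.Lib.Block.STwoSix.Model7

/-!
The four-element orbit with elementary abelian action on it: coordinates on the normaliser of `S`.
-/

set_option autoImplicit false
set_option linter.unusedSectionVars false
set_option synthInstance.maxSize 4096
set_option synthInstance.maxHeartbeats 400000
set_option maxRecDepth 8000

namespace Cfsg.Agent.Block.STwoSix

open Subgroup

namespace M6

/-- Exponents of `P` and `Q`. -/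
def pq (i j : Bool) : M6 := (false, false, false, i, j, false)

theorem typQ_side : ∀ w : M6, w.low = true → w.sq1 = true → w.inZ = false → w.can = gz →
    (mul w gr).can = grz → ∃ i : Bool, w = mul (zat i false false) gQ := by decide +kernel

theorem typP_side : ∀ w : M6, w.low = true → w.sq1 = true → w.inZ = false → w.can = gz →
    (mul w grz).can = gr → ∃ i : Bool, w = mul (zat i true false) gP := by decide +kernel

theorem typ_P : ∀ w : M6, w.low = true → w.sq1 = true → inCl true w = false →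
    (∀ i : Bool, comm w (mul (zat i false false) gQ) = false) →
    w.inZ = false → ∃ i j : Bool, w = mul (zat i j false) gP := by decide +kernel

theorem typ_Q : ∀ w : M6, w.low = true → w.sq1 = true → inCl true w = false →
    (∀ i : Bool, comm w (mul (zat i false false) gP) = false) →
    w.inZ = false → ∃ i j : Bool, w = mul (zat i j false) gQ := by decide +kernel

end M6

variable {G : Type*} [Group G] [Finite G]

theorem Base.E_zat (B : Base G) (i j k : Bool) :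
    B.E (M6.zat i j k) = bp B.z i * (bp B.a j * bp B.t k) := by
  simp [Base.E, ev, M6.zat, M6.bz, M6.br, M6.bt, M6.bP, M6.bQ, M6.bf, bp_false]

theorem Base.E_inv (B : Base G) {u : M6} (hu : u.low = true) : B.E u.inv = (B.E u)⁻¹ :=
  (inv_eq_of_mul_eq_one_right (by
    rw [Base.E_mul B hu (M6.low_inv u hu), M6.mul_inv, Base.E_one])).symm

theorem Base.E_conj (B : Base G) {u v : M6} (hu : u.low = true) (hv : v.low = true) :
    B.E u * B.E v * (B.E u)⁻¹ = B.E (M6.mul (M6.mul u v) u.inv) := by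
  rw [← Base.E_inv B hu, Base.E_mul B hu hv,
    Base.E_mul B (M6.low_mul _ _ hu hv) (M6.low_inv u hu)]

/-- Coordinates on the normaliser of `S`. -/
structure Vee (B : Base G) where
  g : G
  h : G
  p : Par
  seven : Seven p B.z B.a B.t B.P B.Q g h
  inj : Function.Injective (ev7 B.z B.a B.t B.P B.Q g h)
  range_N : ∀ x : G, x ∈ B.N ↔ ∃ u : M7, ev7 B.z B.a B.t B.P B.Q g h u = x

namespace Four

variable {B : Base G} (h4 : Four B)
include h4

theorem za_comm : B.z * B.a = B.a * B.z := B.five.az.symm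

/-- An element moving `t` to `a t` and fixing `a` normalises `Q ⟨z⟩`. -/
theorem key_Q {x : G} (hx : x ∈ B.N) (hxt : x * B.t * x⁻¹ = B.a * B.t)
    (hxa : x * B.a * x⁻¹ = B.a) : ∃ i : Bool, x * B.Q * x⁻¹ = bp B.z i * B.Q := by
  have hxi : x⁻¹ ∈ B.N := B.N.inv_mem hx
  have hxia : x⁻¹ * B.a * x = B.a := by (conv_lhs => rw [← hxa]); group
  have hxit : x⁻¹ * B.t * x = B.a * B.t := by
    have h : B.t = x⁻¹ * (B.a * B.t) * x := by rw [← hxt]; group
    calc x⁻¹ * B.t * x = x⁻¹ * (B.a * (B.a * B.t)) * x := by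
          rw [← mul_assoc B.a, B.five.aa, one_mul]
      _ = x⁻¹ * B.a * x * (x⁻¹ * (B.a * B.t) * x) := by group
      _ = B.a * B.t := by rw [hxia, ← h]
  obtain ⟨w, hw, hwe, hs, hz, -⟩ := h4.img_low hx (u := M6.gQ) rfl
  rw [Base.E_gQ] at hwe
  set d := x * (B.ρ * x⁻¹ * B.ρ⁻¹) with hd
  have hρa' : B.ρ⁻¹ * B.a * B.ρ = B.a := by (conv_lhs => rw [← B.ρa]); group
  have hρt' : B.ρ⁻¹ * B.t * B.ρ = B.t := by
    conv_lhs => rw [← Base.ρ_t B]
    group
  have hρQ' : B.ρ⁻¹ * B.Q * B.ρ = B.z := by rw [← B.ρz]; group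
  have hdt : d * B.t = B.t * d := by
    refine mul_inv_eq_iff_eq_mul.1 ?_
    calc d * B.t * d⁻¹ = x * (B.ρ * (x⁻¹ * (B.ρ⁻¹ * B.t * B.ρ) * x) * B.ρ⁻¹) * x⁻¹ := by
          rw [hd]; group
      _ = x * (B.ρ * B.a * B.ρ⁻¹ * (B.ρ * B.t * B.ρ⁻¹)) * x⁻¹ := by rw [hρt', hxit]; group
      _ = x * B.a * x⁻¹ * (x * B.t * x⁻¹) := by rw [B.ρa, Base.ρ_t]; group
      _ = B.t := by rw [hxa, hxt, ← mul_assoc, B.five.aa, one_mul]
  have hdQ : d * B.Q * d⁻¹ = B.E w := by
    calc d * B.Q * d⁻¹ = x * (B.ρ * (x⁻¹ * (B.ρ⁻¹ * B.Q * B.ρ) * x) * B.ρ⁻¹) * x⁻¹ := by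
          rw [hd]; group
      _ = x * B.Q * x⁻¹ := by
          rw [hρQ', show x⁻¹ * B.z * x = B.z by
            have := Base.conj_z B hxi
            rwa [inv_inv] at this, B.ρz]
      _ = B.E w := hwe
  have hda : d * B.a * d⁻¹ = B.a := by
    calc d * B.a * d⁻¹ = x * (B.ρ * (x⁻¹ * (B.ρ⁻¹ * B.a * B.ρ) * x) * B.ρ⁻¹) * x⁻¹ := by
          rw [hd]; group
      _ = B.a := by rw [hρa', hxia, B.ρa, hxa]
  have hs' : w.sq1 = true := hs.trans (by decide)
  have hQa : d * B.E (M6.mul M6.gQ M6.gr) * d⁻¹ = B.E (M6.mul w M6.gr) := by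
    rw [← Base.E_mul B rfl rfl, ← Base.E_mul B hw rfl, Base.E_gQ, Base.E_gr, ← hdQ,
      show d * (B.Q * B.a) * d⁻¹ = d * B.Q * d⁻¹ * (d * B.a * d⁻¹) by group, hda]
  have c1 := B.can_eq M6.gQ w rfl hw (by decide) hs' d hdt
    (show d * B.E M6.gQ * d⁻¹ = B.E w by rw [Base.E_gQ]; exact hdQ)
  have hs2 : (M6.mul w M6.gr).sq1 = true :=
    (show ∀ w : M6, w.low = true → w.sq1 = true → (M6.mul w M6.gr).sq1 = true by decide +kernel)
      w hw hs'
  have c2 := B.can_eq (M6.mul M6.gQ M6.gr) (M6.mul w M6.gr) rfl (M6.low_mul _ _ hw rfl)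
    (by decide) hs2 d hdt hQa
  obtain ⟨i, rfl⟩ := M6.typQ_side w hw hs' (hz.trans (by decide)) (c1.symm.trans (by decide))
    (c2.symm.trans (by decide))
  refine ⟨i, hwe.trans ?_⟩
  rw [← Base.E_mul B rfl rfl, Base.E_gQ, Base.E_zat]
  simp [bp_false]

/-- An element moving `t` to `z a t` and fixing `a` normalises `P ⟨z⟩`. -/
theorem key_P {x : G} (hx : x ∈ B.N) (hxt : x * B.t * x⁻¹ = B.z * B.a * B.t)
    (hxa : x * B.a * x⁻¹ = B.a) : ∃ i : Bool, x * B.P * x⁻¹ = bp B.z i * B.P := by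
  have hxi : x⁻¹ ∈ B.N := B.N.inv_mem hx
  have hxia : x⁻¹ * B.a * x = B.a := by (conv_lhs => rw [← hxa]); group
  have hxiz : x⁻¹ * B.z * x = B.z := by
    have := Base.conj_z B hxi
    rwa [inv_inv] at this
  have hxza : x⁻¹ * (B.z * B.a) * x = B.z * B.a := by
    rw [show x⁻¹ * (B.z * B.a) * x = x⁻¹ * B.z * x * (x⁻¹ * B.a * x) by group, hxiz, hxia]
  have hsq : B.z * B.a * (B.z * B.a) = 1 := by
    rw [show B.z * B.a * (B.z * B.a) = B.z * (B.a * B.z) * B.a by group, B.five.az, ← mul_assoc,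
      B.five.zz, one_mul, B.five.aa]
  have hxit : x⁻¹ * B.t * x = B.z * B.a * B.t := by
    have h : B.t = x⁻¹ * (B.z * B.a * B.t) * x := by rw [← hxt]; group
    calc x⁻¹ * B.t * x = x⁻¹ * (B.z * B.a * (B.z * B.a * B.t)) * x := by
          rw [← mul_assoc (B.z * B.a), hsq, one_mul]
      _ = x⁻¹ * (B.z * B.a) * x * (x⁻¹ * (B.z * B.a * B.t) * x) := by group
      _ = _ := by rw [hxza, ← h]
  have hv : B.E (M6.mul (M6.mul M6.gP M6.gr) M6.gz) = B.P * B.z * B.a := by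
    rw [← Base.E_mul B rfl rfl, ← Base.E_mul B rfl rfl, Base.E_gP, Base.E_gr, Base.E_gz,
      mul_assoc, B.five.az, ← mul_assoc]
  obtain ⟨w, hw, hwe, hs, hz, -⟩ := h4.img_low hx (u := M6.mul (M6.mul M6.gP M6.gr) M6.gz) rfl
  rw [hv] at hwe
  have hcza : B.c * (B.z * B.a) * B.c⁻¹ = B.z * B.a := by
    rw [show B.c * (B.z * B.a) * B.c⁻¹ = B.c * B.z * B.c⁻¹ * (B.c * B.a * B.c⁻¹) by group,
      Base.c_z, B.ca, mul_assoc _ B.a, ← B.five.Pa, ← mul_assoc, mul_assoc B.P, ← B.five.Pz,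
      ← mul_assoc, B.five.PP, one_mul]
  have hcza' : B.c⁻¹ * (B.z * B.a) * B.c = B.z * B.a := by (conv_lhs => rw [← hcza]); group
  have hct' : B.c⁻¹ * B.t * B.c = B.t := by (conv_lhs => rw [← Base.c_t B]); group
  have hcz' : B.c⁻¹ * (B.P * B.z * B.a) * B.c = B.z := by rw [← Base.c_z]; group
  set d := x * (B.c * x⁻¹ * B.c⁻¹) with hd
  have hdt : d * B.t = B.t * d := by
    refine mul_inv_eq_iff_eq_mul.1 ?_
    calc d * B.t * d⁻¹ = x * (B.c * (x⁻¹ * (B.c⁻¹ * B.t * B.c) * x) * B.c⁻¹) * x⁻¹ := by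
          rw [hd]; group
      _ = x * (B.c * (B.z * B.a) * B.c⁻¹ * (B.c * B.t * B.c⁻¹)) * x⁻¹ := by rw [hct', hxit]; group
      _ = x * B.z * x⁻¹ * (x * B.a * x⁻¹) * (x * B.t * x⁻¹) := by rw [hcza, Base.c_t]; group
      _ = B.t := by rw [Base.conj_z B hx, hxa, hxt, ← mul_assoc, hsq, one_mul]
  have hdP : d * (B.P * B.z * B.a) * d⁻¹ = B.E w := by
    calc d * (B.P * B.z * B.a) * d⁻¹
        = x * (B.c * (x⁻¹ * (B.c⁻¹ * (B.P * B.z * B.a) * B.c) * x) * B.c⁻¹) * x⁻¹ := by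
          rw [hd]; group
      _ = x * (B.P * B.z * B.a) * x⁻¹ := by rw [hcz', hxiz, Base.c_z]
      _ = B.E w := hwe
  have hdza : d * (B.z * B.a) * d⁻¹ = B.z * B.a := by
    calc d * (B.z * B.a) * d⁻¹
        = x * (B.c * (x⁻¹ * (B.c⁻¹ * (B.z * B.a) * B.c) * x) * B.c⁻¹) * x⁻¹ := by rw [hd]; group
      _ = x * B.z * x⁻¹ * (x * B.a * x⁻¹) := by rw [hcza', hxza, hcza]; group
      _ = B.z * B.a := by rw [Base.conj_z B hx, hxa]
  have hs' : w.sq1 = true := hs.trans (by decide)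
  have hw' : d * B.E (M6.mul (M6.mul (M6.mul M6.gP M6.gr) M6.gz) M6.grz) * d⁻¹ =
      B.E (M6.mul w M6.grz) := by
    rw [← Base.E_mul B rfl rfl, ← Base.E_mul B hw rfl, hv, Base.E_grz, ← hdP,
      show d * (B.P * B.z * B.a * (B.z * B.a)) * d⁻¹ =
        d * (B.P * B.z * B.a) * d⁻¹ * (d * (B.z * B.a) * d⁻¹) by group, hdza]
  have c1 := B.can_eq (M6.mul (M6.mul M6.gP M6.gr) M6.gz) w rfl hw (by decide) hs' d hdt
    (show d * B.E _ * d⁻¹ = B.E w by rw [hv]; exact hdP)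
  have hs2 : (M6.mul w M6.grz).sq1 = true :=
    (show ∀ w : M6, w.low = true → w.sq1 = true → (M6.mul w M6.grz).sq1 = true by decide +kernel)
      w hw hs'
  have c2 := B.can_eq (M6.mul (M6.mul (M6.mul M6.gP M6.gr) M6.gz) M6.grz) (M6.mul w M6.grz) rfl
    (M6.low_mul _ _ hw rfl) (by decide) hs2 d hdt hw'
  obtain ⟨i, rfl⟩ := M6.typP_side w hw hs' (hz.trans (by decide)) (c1.symm.trans (by decide))
    (c2.symm.trans (by decide))
  refine ⟨!i, ?_⟩
  have e : x * B.P * x⁻¹ = x * (B.P * B.z * B.a) * x⁻¹ * (x * (B.z * B.a) * x⁻¹)⁻¹ := by group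
  rw [e, hwe, show x * (B.z * B.a) * x⁻¹ = B.E M6.grz by
    rw [Base.E_grz, show x * (B.z * B.a) * x⁻¹ = x * B.z * x⁻¹ * (x * B.a * x⁻¹) by group,
      Base.conj_z B hx, hxa], ← Base.E_inv B rfl, Base.E_mul B (M6.low_mul _ _ rfl rfl) rfl]
  rw [show bp B.z (!i) * B.P = B.E (M6.mul (M6.zat (!i) false false) M6.gP) by
    rw [← Base.E_mul B rfl rfl, Base.E_gP, Base.E_zat]; simp [bp_false]]
  cases i <;> rfl

theorem side_P {x : G} (hx : x ∈ B.N) {i : Bool} (hQ : x * B.Q * x⁻¹ = bp B.z i * B.Q) :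
    ∃ j α : Bool, x * B.P * x⁻¹ = bp B.z j * (bp B.a α * B.P) := by
  obtain ⟨w, hw, he, hs, hz, hcl⟩ := h4.img_low hx (u := M6.gP) rfl
  rw [Base.E_gP] at he
  have hQ' : x * B.Q * x⁻¹ = B.E (M6.mul (M6.zat i false false) M6.gQ) := by
    rw [hQ, ← Base.E_mul B rfl rfl, Base.E_gQ, Base.E_zat]; simp [bp_false]
  have hnc : M6.comm w (M6.mul (M6.zat i false false) M6.gQ) = false := by
    rw [← Bool.not_eq_true, ← Base.E_comm B hw rfl, ← he, ← hQ']
    intro h
    have h' : B.P * B.Q = B.Q * B.P := by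
      have := congrArg (fun y => x⁻¹ * y * x) h
      simpa [mul_assoc] using this
    rw [← Base.E_gP B, ← Base.E_gQ B, Base.E_comm B rfl rfl] at h'
    exact absurd h' (by decide)
  have hnc' : ∀ k : Bool, M6.comm w (M6.mul (M6.zat k false false) M6.gQ) = false := by
    intro k
    refine Eq.trans ?_ hnc
    exact (show ∀ i k : Bool, ∀ w : M6, w.low = true →
      M6.comm w (M6.mul (M6.zat k false false) M6.gQ) =
        M6.comm w (M6.mul (M6.zat i false false) M6.gQ) by decide +kernel) i k w hw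
  obtain ⟨j, α, rfl⟩ := M6.typ_P w hw (hs.trans (by decide)) (hcl.trans (by decide)) hnc'
    (hz.trans (by decide))
  refine ⟨j, α, he.trans ?_⟩
  rw [← Base.E_mul B rfl rfl, Base.E_gP, Base.E_zat, bp_false, mul_one, mul_assoc]

theorem side_Q {x : G} (hx : x ∈ B.N) {i : Bool} (hP : x * B.P * x⁻¹ = bp B.z i * B.P) :
    ∃ j β : Bool, x * B.Q * x⁻¹ = bp B.z j * (bp B.a β * B.Q) := by
  obtain ⟨w, hw, he, hs, hz, hcl⟩ := h4.img_low hx (u := M6.gQ) rfl
  rw [Base.E_gQ] at he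
  have hP' : x * B.P * x⁻¹ = B.E (M6.mul (M6.zat i false false) M6.gP) := by
    rw [hP, ← Base.E_mul B rfl rfl, Base.E_gP, Base.E_zat]; simp [bp_false]
  have hnc : M6.comm w (M6.mul (M6.zat i false false) M6.gP) = false := by
    rw [← Bool.not_eq_true, ← Base.E_comm B hw rfl, ← he, ← hP']
    intro h
    have h' : B.Q * B.P = B.P * B.Q := by
      have := congrArg (fun y => x⁻¹ * y * x) h
      simpa [mul_assoc] using this
    rw [← Base.E_gP B, ← Base.E_gQ B, Base.E_comm B rfl rfl] at h'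
    exact absurd h' (by decide)
  have hnc' : ∀ k : Bool, M6.comm w (M6.mul (M6.zat k false false) M6.gP) = false := by
    intro k
    refine Eq.trans ?_ hnc
    exact (show ∀ i k : Bool, ∀ w : M6, w.low = true →
      M6.comm w (M6.mul (M6.zat k false false) M6.gP) =
        M6.comm w (M6.mul (M6.zat i false false) M6.gP) by decide +kernel) i k w hw
  obtain ⟨j, β, rfl⟩ := M6.typ_Q w hw (hs.trans (by decide)) (hcl.trans (by decide)) hnc'
    (hz.trans (by decide))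
  refine ⟨j, β, he.trans ?_⟩
  rw [← Base.E_mul B rfl rfl, Base.E_gQ, Base.E_zat, bp_false, mul_one, mul_assoc]

/-- Conjugation by `x` followed by `P ^ i Q ^ j`. -/
theorem adjust {x : G} (hx : x ∈ B.N) (i j : Bool) :
    x * B.E (M6.pq i j) ∈ B.N ∧
    (x * B.E (M6.pq i j)) * B.t * (x * B.E (M6.pq i j))⁻¹ = x * B.t * x⁻¹ ∧
    (x * B.E (M6.pq i j)) * B.a * (x * B.E (M6.pq i j))⁻¹ = x * B.a * x⁻¹ ∧
    (x * B.E (M6.pq i j)) * B.P * (x * B.E (M6.pq i j))⁻¹ = bp B.z j * (x * B.P * x⁻¹) ∧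
    (x * B.E (M6.pq i j)) * B.Q * (x * B.E (M6.pq i j))⁻¹ = bp B.z i * (x * B.Q * x⁻¹) := by
  have hl : (M6.pq i j).low = true := rfl
  have key : ∀ (b : Bool) (u : M6), u.low = true →
      M6.mul (M6.mul (M6.pq i j) u) (M6.pq i j).inv = M6.mul (M6.zat b false false) u →
      (x * B.E (M6.pq i j)) * B.E u * (x * B.E (M6.pq i j))⁻¹ =
        bp B.z b * (x * B.E u * x⁻¹) := by
    intro b u hu e
    have hz : x * bp B.z b * x⁻¹ = bp B.z b := by
      cases b
      · simp [bp]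
      · exact Base.conj_z B hx
    rw [show (x * B.E (M6.pq i j)) * B.E u * (x * B.E (M6.pq i j))⁻¹ =
      x * (B.E (M6.pq i j) * B.E u * (B.E (M6.pq i j))⁻¹) * x⁻¹ by group, Base.E_conj B hl hu, e,
      ← Base.E_mul B rfl hu, Base.E_zat, bp_false, bp_false, mul_one, mul_one,
      show x * (bp B.z b * B.E u) * x⁻¹ = x * bp B.z b * x⁻¹ * (x * B.E u * x⁻¹) by group, hz]
  refine ⟨B.N.mul_mem hx (Base.S_le_N B (Base.E_mem B hl)), ?_, ?_, ?_, ?_⟩
  · have := key false M6.gt rfl (by cases i <;> cases j <;> rfl)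
    rwa [bp_false, one_mul, Base.E_gt] at this
  · have := key false M6.gr rfl (by cases i <;> cases j <;> rfl)
    rwa [bp_false, one_mul, Base.E_gr] at this
  · have := key j M6.gP rfl (by cases i <;> cases j <;> rfl)
    rwa [Base.E_gP] at this
  · have := key i M6.gQ rfl (by cases i <;> cases j <;> rfl)
    rwa [Base.E_gQ] at this

theorem bp_zz (b : Bool) (y : G) : bp B.z b * (bp B.z b * y) = y := by
  rw [bp_sq' B.five.zz, Bool.xor_self, bp_false, one_mul]

/-- An element fixing `P` and `Q` modulo the centre, with square in `⟨z, a⟩`. -/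
theorem sq_in_U {x : G} (hx : x ∈ B.N) {u : G} (hxt : x * B.t * x⁻¹ = u * B.t)
    (hu1 : u * u = 1) (hxu : x * u * x⁻¹ = u) (hune : u ≠ 1)
    (hxa : x * B.a * x⁻¹ = B.a) {γ δ : G} (hP : x * B.P * x⁻¹ = γ * B.P) (hγ : γ * γ = 1)
    (hxγ : x * γ * x⁻¹ = γ) (hQ : x * B.Q * x⁻¹ = δ * B.Q) (hδ : δ * δ = 1)
    (hxδ : x * δ * x⁻¹ = δ) :
    ∃ i l : Bool, x * x = bp B.z i * bp B.a l := by
  have two : ∀ (e y : G), x * y * x⁻¹ = e * y → x * e * x⁻¹ = e → e * e = 1 →
      x * x * y * (x * x)⁻¹ = y := by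
    intro e y h1 h2 h3
    rw [show x * x * y * (x * x)⁻¹ = x * (x * y * x⁻¹) * x⁻¹ by group, h1,
      show x * (e * y) * x⁻¹ = x * e * x⁻¹ * (x * y * x⁻¹) by group, h2, h1, ← mul_assoc, h3,
      one_mul]
  have hcm : ∀ y, x * x * y * (x * x)⁻¹ = y → (x * x) * y = y * (x * x) :=
    fun y h => mul_inv_eq_iff_eq_mul.1 h
  have ha2 : x * x * B.a * (x * x)⁻¹ = B.a := by
    rw [show x * x * B.a * (x * x)⁻¹ = x * (x * B.a * x⁻¹) * x⁻¹ by group, hxa, hxa]
  obtain ⟨w, hw, he⟩ := B.cent_Z (x * x) (hcm _ (two u _ hxt hxu hu1)) (hcm _ ha2)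
    (hcm _ (two γ _ hP hxγ hγ)) (hcm _ (two δ _ hQ hxδ hδ))
  have hfix : x * B.E w * x⁻¹ = B.E w := by
    show x * ev B.z B.a B.t B.P B.Q 1 w * x⁻¹ = ev B.z B.a B.t B.P B.Q 1 w
    rw [he]; group
  have hw2 : w = M6.zat w.bz w.br w.bt := (show ∀ w : M6, w.inZ = true →
    w = M6.zat w.bz w.br w.bt by decide +kernel) w hw
  have hbt : w.bt = false := by
    by_contra hb
    rw [Bool.not_eq_false] at hb
    rw [hw2, hb, Base.E_zat] at hfix
    have hz : ∀ b : Bool, x * bp B.z b * x⁻¹ = bp B.z b := fun b => by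
      cases b
      · simp [bp]
      · exact Base.conj_z B hx
    have ha : ∀ b : Bool, x * bp B.a b * x⁻¹ = bp B.a b := fun b => by
      cases b
      · simp [bp]
      · exact hxa
    rw [show x * (bp B.z w.bz * (bp B.a w.br * bp B.t true)) * x⁻¹ =
      x * bp B.z w.bz * x⁻¹ * (x * bp B.a w.br * x⁻¹ * (x * B.t * x⁻¹)) by rw [bp_true]; group,
      hz, ha, hxt, bp_true, mul_left_cancel_iff, mul_left_cancel_iff, mul_eq_right] at hfix
    exact hune hfix
  refine ⟨w.bz, w.br, ?_⟩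
  rw [← he, show ev B.z B.a B.t B.P B.Q 1 w = B.E w from rfl, hw2, Base.E_zat, hbt, bp_false,
    mul_one]
  rfl

set_option maxHeartbeats 800000 in
theorem exists_vee {g0 : G} (hg0 : g0 ∈ B.N) (hgt0 : g0 * B.t * g0⁻¹ = B.a * B.t)
    (hga0 : g0 * B.a * g0⁻¹ = B.a) : ∃ _ : Vee B, True := by
  have hazne : B.z * B.a ≠ 1 := by
    rw [← Base.E_grz, ← Base.E_one B]
    exact fun h => absurd (Base.E_inj B rfl rfl h) (by decide)
  have hane : B.a ≠ 1 := by
    rw [← Base.E_gr B, ← Base.E_one B]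
    exact fun h => absurd (Base.E_inj B rfl rfl h) (by decide)
  have hzasq : B.z * B.a * (B.z * B.a) = 1 := by
    rw [show B.z * B.a * (B.z * B.a) = B.z * (B.a * B.z) * B.a by group, B.five.az, ← mul_assoc,
      B.five.zz, one_mul, B.five.aa]
  have hinjU : ∀ i j k i' j' k' : Bool, B.E (M6.zat i j k) = B.E (M6.zat i' j' k') →
      i = i' ∧ j = j' ∧ k = k' := fun i j k i' j' k' h => by
    have := Base.E_inj B rfl rfl h
    simp only [M6.zat, Prod.mk.injEq, and_true] at this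
    exact this
  obtain ⟨h0, hh0, hht0⟩ := Base.exists_N_of_class B (u := M6.gtrz) rfl h4.trz
  rw [Base.E_gtrz] at hht0
  have hha0 : h0 * B.a * h0⁻¹ = B.a := by
    have hf : g0 * h0 ∈ B.N := B.N.mul_mem hg0 hh0
    have hft : g0 * h0 * B.t * (g0 * h0)⁻¹ = B.z * B.t := by
      calc g0 * h0 * B.t * (g0 * h0)⁻¹ = g0 * (h0 * B.t * h0⁻¹) * g0⁻¹ := by group
        _ = g0 * B.z * g0⁻¹ * (g0 * B.a * g0⁻¹) * (g0 * B.t * g0⁻¹) := by rw [hht0]; group
        _ = B.z * (B.a * B.a) * B.t := by rw [Base.conj_z B hg0, hga0, hgt0]; group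
        _ = B.z * B.t := by rw [B.five.aa, mul_one]
    have := Base.shift_a_fixed B hf hft h4.tr
    calc h0 * B.a * h0⁻¹ = g0⁻¹ * (g0 * h0 * B.a * (g0 * h0)⁻¹) * g0 := by group
      _ = g0⁻¹ * (g0 * B.a * g0⁻¹) * g0 := by rw [this, hga0]
      _ = B.a := by group
  -- normalise `g`
  obtain ⟨i1, hQ1⟩ := h4.key_Q hg0 hgt0 hga0
  obtain ⟨j1, α, hP1⟩ := h4.side_P hg0 hQ1
  obtain ⟨hg1, hg1t, hg1a, hg1P, hg1Q⟩ := h4.adjust hg0 i1 j1
  set g1 := g0 * B.E (M6.pq i1 j1)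
  rw [hgt0] at hg1t
  rw [hga0] at hg1a
  rw [hP1, h4.bp_zz] at hg1P
  rw [hQ1, h4.bp_zz] at hg1Q
  have hba : ∀ (x : G) (b : Bool), x * B.a * x⁻¹ = B.a → x * bp B.a b * x⁻¹ = bp B.a b := by
    intro x b hx; cases b
    · simp [bp]
    · exact hx
  have hbsq : ∀ b : Bool, bp B.a b * bp B.a b = 1 := fun b => by
    rw [bp_sq B.five.aa, Bool.xor_self, bp_false]
  obtain ⟨gi, gl, hgsq⟩ := h4.sq_in_U hg1 hg1t B.five.aa hg1a hane hg1a hg1P (hbsq α)
    (hba _ _ hg1a) (δ := 1) (by rw [one_mul]; exact hg1Q) (one_mul 1) (by group)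
  -- the square of `g` has no `z`
  have hgi : gi = false := by
    set d := g1⁻¹ * (B.ρ * g1 * B.ρ⁻¹) with hd
    have hρa' : B.ρ⁻¹ * B.a * B.ρ = B.a := by (conv_lhs => rw [← B.ρa]); group
    have hρt' : B.ρ⁻¹ * B.t * B.ρ = B.t := by (conv_lhs => rw [← Base.ρ_t B]); group
    have hρQ' : B.ρ⁻¹ * B.Q * B.ρ = B.z := by rw [← B.ρz]; group
    have hρz' : B.ρ⁻¹ * B.z * B.ρ = B.z * B.Q := by
      have h : B.ρ * (B.z * B.Q) * B.ρ⁻¹ = B.z := by
        rw [show B.ρ * (B.z * B.Q) * B.ρ⁻¹ = B.ρ * B.z * B.ρ⁻¹ * (B.ρ * B.Q * B.ρ⁻¹) by group,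
          B.ρz, B.ρQ, ← mul_assoc, B.five.QQ, one_mul]
      conv_lhs => rw [← h]
      group
    have hd' : ∀ y : G, d * y * d⁻¹ = g1⁻¹ * (B.ρ * (g1 * (B.ρ⁻¹ * y * B.ρ) * g1⁻¹) * B.ρ⁻¹) * g1 :=
      fun y => by rw [hd]; group
    have hdt : d * B.t * d⁻¹ = B.t := by
      rw [hd', hρt', hg1t, show B.ρ * (B.a * B.t) * B.ρ⁻¹ =
        B.ρ * B.a * B.ρ⁻¹ * (B.ρ * B.t * B.ρ⁻¹) by group, B.ρa, Base.ρ_t, ← hg1t]
      group
    have hda : d * B.a * d⁻¹ = B.a := by
      rw [hd', hρa', hg1a, B.ρa]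
      conv_lhs => rw [← hg1a]
      group
    have hdQ : d * B.Q * d⁻¹ = B.Q := by
      rw [hd', hρQ', Base.conj_z B hg1, B.ρz]
      conv_lhs => rw [← hg1Q]
      group
    have hdz : d * B.z * d⁻¹ = B.z := by
      rw [hd', hρz', show g1 * (B.z * B.Q) * g1⁻¹ = g1 * B.z * g1⁻¹ * (g1 * B.Q * g1⁻¹) by group,
        Base.conj_z B hg1, hg1Q, show B.ρ * (B.z * B.Q) * B.ρ⁻¹ =
        B.ρ * B.z * B.ρ⁻¹ * (B.ρ * B.Q * B.ρ⁻¹) by group, B.ρz, B.ρQ, ← mul_assoc B.Q B.Q, B.five.QQ,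
        one_mul]
      conv_lhs => rw [← Base.conj_z B hg1]
      group
    obtain ⟨v, hv, hvP, he⟩ := B.cent_A2 d (mul_inv_eq_iff_eq_mul.1 hdt)
      (mul_inv_eq_iff_eq_mul.1 hda) (mul_inv_eq_iff_eq_mul.1 hdQ) (mul_inv_eq_iff_eq_mul.1 hdz)
    change B.E v = d at he
    have hgv : g1⁻¹ * B.E v * g1 = bp B.a v.bt * B.E v := by
      have hc : g1 * B.E v * g1⁻¹ = bp B.a v.bt * B.E v := by
        have hb : ∀ (y : G) (b : Bool), g1 * bp y b * g1⁻¹ = bp (g1 * y * g1⁻¹) b := by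
          intro y b; cases b <;> simp [bp]
        obtain ⟨v1, v2, v3, v4, v5, v6⟩ := v
        simp only [M6.low, M6.bf, M6.bP, Bool.not_eq_true'] at hv hvP
        subst hv; subst hvP
        simp only [Base.E, ev, M6.bz, M6.br, M6.bt, M6.bP, M6.bQ, M6.bf, bp_false, mul_one,
          one_mul]
        calc g1 * (bp B.z v1 * (bp B.a v2 * (bp B.t v3 * bp B.Q v5))) * g1⁻¹
            = g1 * bp B.z v1 * g1⁻¹ * ((g1 * bp B.a v2 * g1⁻¹) *
              ((g1 * bp B.t v3 * g1⁻¹) * (g1 * bp B.Q v5 * g1⁻¹))) := by group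
          _ = bp B.z v1 * (bp B.a v2 * (bp (B.a * B.t) v3 * bp B.Q v5)) := by
              rw [hb, hb, hb, hb, Base.conj_z B hg1, hg1a, hg1t, hg1Q]
          _ = _ := by
              cases v3
              · simp [bp]
              · simp only [bp_true]
                rw [← mul_assoc (bp B.a v2), ← mul_assoc (bp B.a v2) B.a B.t,
                  show bp B.a v2 * B.a = B.a * bp B.a v2 by cases v2 <;> simp [bp]]
                rw [← mul_assoc B.a (bp B.z v1),
                  show B.a * bp B.z v1 = bp B.z v1 * B.a by cases v1 <;> simp [bp, B.five.az]]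
                group
      have hu : g1⁻¹ * bp B.a v.bt * g1 = bp B.a v.bt := by
        conv_lhs => rw [← hba g1 v.bt hg1a]
        group
      calc g1⁻¹ * B.E v * g1
          = g1⁻¹ * bp B.a v.bt * g1 * (g1⁻¹ * (bp B.a v.bt * B.E v) * g1) := by
            rw [show g1⁻¹ * bp B.a v.bt * g1 * (g1⁻¹ * (bp B.a v.bt * B.E v) * g1) =
              g1⁻¹ * (bp B.a v.bt * bp B.a v.bt * B.E v) * g1 by group, hbsq, one_mul]
        _ = _ := by rw [hu]; congr 1; rw [← hc]; group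
    have h1 : B.ρ * (g1 * g1) * B.ρ⁻¹ = g1 * g1 * bp B.a v.bt * (B.E v * B.E v) := by
      calc B.ρ * (g1 * g1) * B.ρ⁻¹ = g1 * d * (g1 * d) := by rw [hd]; group
        _ = g1 * g1 * (g1⁻¹ * B.E v * g1) * B.E v := by rw [← he]; group
        _ = _ := by rw [hgv]; group
    have hvv : B.E v * B.E v = 1 := by
      rw [Base.E_mul B hv hv, ← Base.E_one B,
        (show ∀ v : M6, v.low = true → v.bP = false → M6.mul v v = M6.one by decide +kernel) v hv
          hvP]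
    rw [hgsq, hvv, mul_one] at h1
    have hb : ∀ (y : G) (b : Bool), B.ρ * bp y b * B.ρ⁻¹ = bp (B.ρ * y * B.ρ⁻¹) b := by
      intro y b; cases b <;> simp [bp]
    rw [show B.ρ * (bp B.z gi * bp B.a gl) * B.ρ⁻¹ =
      B.ρ * bp B.z gi * B.ρ⁻¹ * (B.ρ * bp B.a gl * B.ρ⁻¹) by group, hb, hb, B.ρz, B.ρa, mul_assoc,
      bp_sq B.five.aa] at h1
    cases gi
    · rfl
    · exfalso
      have e1 : bp B.Q true * bp B.a gl = B.E (M6.mul M6.gQ (M6.zat false gl false)) := by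
        rw [← Base.E_mul B rfl rfl, Base.E_gQ, Base.E_zat]; simp [bp]
      have e2 : bp B.z true * bp B.a (gl ^^ v.bt) = B.E (M6.zat true (gl ^^ v.bt) false) := by
        rw [Base.E_zat]; simp [bp]
      rw [e1, e2] at h1
      exact absurd (Base.E_inj B rfl rfl h1)
        ((show ∀ k l : Bool, M6.mul M6.gQ (M6.zat false k false) ≠ M6.zat true l false by decide) _ _)
  rw [hgi, bp_false, one_mul] at hgsq
  set g := g1 * bp B.t gl
  have hgN : g ∈ B.N := B.N.mul_mem hg1 (bp_mem (Base.S_le_N B (Base.t_mem B)) _)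
  have hconjt : ∀ (y : G), B.t * y = y * B.t → ∀ (x : G) (b : Bool),
      x * bp B.t b * y * (x * bp B.t b)⁻¹ = x * y * x⁻¹ := by
    intro y hy x b
    rw [show x * bp B.t b * y * (x * bp B.t b)⁻¹ =
      x * (bp B.t b * y * (bp B.t b)⁻¹) * x⁻¹ by group]
    cases b
    · simp [bp]
    · rw [bp_true, hy, mul_inv_cancel_right]
  have g_t : g * B.t * g⁻¹ = B.a * B.t := (hconjt _ rfl _ _).trans hg1t
  have g_a : g * B.a * g⁻¹ = B.a := (hconjt _ B.five.ta _ _).trans hg1a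
  have g_z : g * B.z * g⁻¹ = B.z := Base.conj_z B hgN
  have g_P : g * B.P * g⁻¹ = bp B.a α * B.P := (hconjt _ B.five.Pt.symm _ _).trans hg1P
  have g_Q : g * B.Q * g⁻¹ = B.Q := (hconjt _ B.five.Qt.symm _ _).trans hg1Q
  have g_g : g * g = 1 := by
    show g1 * bp B.t gl * (g1 * bp B.t gl) = 1
    cases gl
    · simpa [bp] using hgsq
    · rw [bp_true, show g1 * B.t * (g1 * B.t) = g1 * B.t * g1⁻¹ * (g1 * g1) * B.t by group, hgsq,
        hg1t, bp_true, show B.a * B.t * B.a * B.t = B.a * (B.t * B.a) * B.t by group, B.five.ta,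
        ← mul_assoc, B.five.aa, one_mul, B.five.tt]
  -- normalise `h`
  obtain ⟨i2, hP2⟩ := h4.key_P hh0 hht0 hha0
  obtain ⟨j2, β, hQ2⟩ := h4.side_Q hh0 hP2
  obtain ⟨hh1, hh1t, hh1a, hh1P, hh1Q⟩ := h4.adjust hh0 (j2 ^^ β) i2
  set h1 := h0 * B.E (M6.pq (j2 ^^ β) i2)
  rw [hht0] at hh1t
  rw [hha0] at hh1a
  rw [hP2, h4.bp_zz] at hh1P
  rw [hQ2, bp_sq' B.five.zz, show (j2 ^^ β ^^ j2) = β by cases j2 <;> cases β <;> rfl,
    ← mul_assoc] at hh1Q
  have hza' : ∀ (x : G) (b : Bool), x * B.a * x⁻¹ = B.a → x ∈ B.N →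
      x * bp (B.z * B.a) b * x⁻¹ = bp (B.z * B.a) b := by
    intro x b hx hxN; cases b
    · simp [bp]
    · rw [bp_true, show x * (B.z * B.a) * x⁻¹ = x * B.z * x⁻¹ * (x * B.a * x⁻¹) by group, hx,
        Base.conj_z B hxN]
  have hzb : bp B.z β * bp B.a β = bp (B.z * B.a) β := by cases β <;> simp [bp]
  rw [hzb] at hh1Q
  have hbsq' : bp (B.z * B.a) β * bp (B.z * B.a) β = 1 := by
    rw [bp_sq hzasq, Bool.xor_self, bp_false]
  obtain ⟨hi, hl, hhsq⟩ := h4.sq_in_U hh1 hh1t hzasq (by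
      rw [show h1 * (B.z * B.a) * h1⁻¹ = h1 * B.z * h1⁻¹ * (h1 * B.a * h1⁻¹) by group, hh1a,
        Base.conj_z B hh1]) hazne hh1a (γ := 1)
    (by rw [one_mul]; exact hh1P) (one_mul 1) (by group) hh1Q hbsq' (hza' _ _ hh1a hh1)
  have hhil : hi = hl := by
    set d := h1⁻¹ * (B.c * h1 * B.c⁻¹) with hd
    have hct' : B.c⁻¹ * B.t * B.c = B.t := by (conv_lhs => rw [← Base.c_t B]); group
    have hcza : B.c * (B.z * B.a) * B.c⁻¹ = B.z * B.a := by
      rw [show B.c * (B.z * B.a) * B.c⁻¹ = B.c * B.z * B.c⁻¹ * (B.c * B.a * B.c⁻¹) by group,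
        Base.c_z, B.ca, mul_assoc _ B.a, ← B.five.Pa, ← mul_assoc, mul_assoc B.P, ← B.five.Pz,
        ← mul_assoc, B.five.PP, one_mul]
    have hd' : ∀ y : G, d * y * d⁻¹ = h1⁻¹ * (B.c * (h1 * (B.c⁻¹ * y * B.c) * h1⁻¹) * B.c⁻¹) * h1 :=
      fun y => by rw [hd]; group
    have hPz : B.c⁻¹ * B.a * B.c = B.P * B.z := by rw [← B.cPz]; group
    have hPc : B.c⁻¹ * B.P * B.c = B.a := by rw [← B.ca]; group
    have hh1Pz : h1 * (B.P * B.z) * h1⁻¹ = B.P * B.z := by
      rw [show h1 * (B.P * B.z) * h1⁻¹ = h1 * B.P * h1⁻¹ * (h1 * B.z * h1⁻¹) by group, hh1P,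
        Base.conj_z B hh1]
    have hdt : d * B.t * d⁻¹ = B.t := by
      rw [hd', hct', hh1t, show B.c * (B.z * B.a * B.t) * B.c⁻¹ =
        B.c * (B.z * B.a) * B.c⁻¹ * (B.c * B.t * B.c⁻¹) by group, hcza, Base.c_t, ← hh1t]
      group
    have hda : d * B.a * d⁻¹ = B.a := by
      rw [hd', hPz, hh1Pz, B.cPz]
      conv_lhs => rw [← hh1a]
      group
    have hdP : d * B.P * d⁻¹ = B.P := by
      rw [hd', hPc, hh1a, B.ca]
      conv_lhs => rw [← hh1P]
      group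
    have hdz : d * B.z * d⁻¹ = B.z := by
      have hz' : B.c⁻¹ * B.z * B.c = B.z * B.a * (B.P * B.z) := by
        have h : B.c⁻¹ * (B.z * B.a) * B.c = B.z * B.a := by (conv_lhs => rw [← hcza]); group
        calc B.c⁻¹ * B.z * B.c = B.c⁻¹ * (B.z * B.a * B.a) * B.c := by
              rw [mul_assoc B.z, B.five.aa, mul_one]
          _ = B.c⁻¹ * (B.z * B.a) * B.c * (B.c⁻¹ * B.a * B.c) := by group
          _ = _ := by rw [h, hPz]
      rw [hd', hz', show h1 * (B.z * B.a * (B.P * B.z)) * h1⁻¹ =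
        h1 * B.z * h1⁻¹ * (h1 * B.a * h1⁻¹) * (h1 * (B.P * B.z) * h1⁻¹) by group,
        Base.conj_z B hh1, hh1a, hh1Pz,
        show B.c * (B.z * B.a * (B.P * B.z)) * B.c⁻¹ =
          B.c * (B.z * B.a) * B.c⁻¹ * (B.c * (B.P * B.z) * B.c⁻¹) by group, hcza, B.cPz,
        mul_assoc B.z B.a B.a, B.five.aa, mul_one]
      conv_lhs => rw [← Base.conj_z B hh1]
      group
    obtain ⟨v, hv, hvQ, he⟩ := B.cent_A1 d (mul_inv_eq_iff_eq_mul.1 hdt)
      (mul_inv_eq_iff_eq_mul.1 hda) (mul_inv_eq_iff_eq_mul.1 hdP) (mul_inv_eq_iff_eq_mul.1 hdz)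
    change B.E v = d at he
    have hcv : h1 * B.E v * h1⁻¹ = bp (B.z * B.a) v.bt * B.E v := by
      have hb : ∀ (y : G) (b : Bool), h1 * bp y b * h1⁻¹ = bp (h1 * y * h1⁻¹) b := by
        intro y b; cases b <;> simp [bp]
      obtain ⟨v1, v2, v3, v4, v5, v6⟩ := v
      simp only [M6.low, M6.bf, M6.bQ, Bool.not_eq_true'] at hv hvQ
      subst hv; subst hvQ
      simp only [Base.E, ev, M6.bz, M6.br, M6.bt, M6.bP, M6.bQ, M6.bf, bp_false, mul_one]
      calc h1 * (bp B.z v1 * (bp B.a v2 * (bp B.t v3 * bp B.P v4))) * h1⁻¹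
          = h1 * bp B.z v1 * h1⁻¹ * ((h1 * bp B.a v2 * h1⁻¹) *
            ((h1 * bp B.t v3 * h1⁻¹) * (h1 * bp B.P v4 * h1⁻¹))) := by group
        _ = bp B.z v1 * (bp B.a v2 * (bp (B.z * B.a * B.t) v3 * bp B.P v4)) := by
            rw [hb, hb, hb, hb, Base.conj_z B hh1, hh1a, hh1t, hh1P]
        _ = _ := by
            cases v3
            · simp [bp]
            · simp only [bp_true]
              have hcm : ∀ (y : G), y = B.z ∨ y = B.a → ∀ b : Bool,
                  bp y b * (B.z * B.a) = B.z * B.a * bp y b := by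
                intro y hy b
                cases b
                · simp [bp]
                · rcases hy with rfl | rfl <;> rw [bp_true]
                  · rw [mul_assoc, B.five.az]
                  · rw [← mul_assoc, B.five.az]
              rw [show bp B.z v1 * (bp B.a v2 * (B.z * B.a * B.t * bp B.P v4)) =
                bp B.z v1 * (bp B.a v2 * (B.z * B.a)) * (B.t * bp B.P v4) by group,
                hcm _ (Or.inr rfl), ← mul_assoc (bp B.z v1), hcm _ (Or.inl rfl)]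
              group
    have hu : h1⁻¹ * bp (B.z * B.a) v.bt * h1 = bp (B.z * B.a) v.bt := by
      conv_lhs => rw [← hza' h1 v.bt hh1a hh1]
      group
    have hbb : bp (B.z * B.a) v.bt * bp (B.z * B.a) v.bt = 1 := by
      rw [bp_sq hzasq, Bool.xor_self, bp_false]
    have hcv' : h1⁻¹ * B.E v * h1 = bp (B.z * B.a) v.bt * B.E v := by
      calc h1⁻¹ * B.E v * h1
          = h1⁻¹ * bp (B.z * B.a) v.bt * h1 * (h1⁻¹ * (bp (B.z * B.a) v.bt * B.E v) * h1) := by
            rw [show h1⁻¹ * bp (B.z * B.a) v.bt * h1 *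
              (h1⁻¹ * (bp (B.z * B.a) v.bt * B.E v) * h1) =
              h1⁻¹ * (bp (B.z * B.a) v.bt * bp (B.z * B.a) v.bt * B.E v) * h1 by group, hbb,
              one_mul]
        _ = _ := by rw [hu]; congr 1; rw [← hcv]; group
    have h2 : B.c * (h1 * h1) * B.c⁻¹ = h1 * h1 * bp (B.z * B.a) v.bt * (B.E v * B.E v) := by
      calc B.c * (h1 * h1) * B.c⁻¹ = h1 * d * (h1 * d) := by rw [hd]; group
        _ = h1 * h1 * (h1⁻¹ * B.E v * h1) * B.E v := by rw [← he]; group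
        _ = _ := by rw [hcv']; group
    have hvv : B.E v * B.E v = 1 := by
      rw [Base.E_mul B hv hv, ← Base.E_one B,
        (show ∀ v : M6, v.low = true → v.bQ = false → M6.mul v v = M6.one by decide +kernel) v hv
          hvQ]
    have e1 : B.c * (h1 * h1) * B.c⁻¹ =
        B.E (M6.mul (M6.mul (M6.zat hi hi false) (M6.pw M6.gP hi)) (M6.pw M6.gP hl)) := by
      have hb : ∀ (y : G) (b : Bool), B.c * bp y b * B.c⁻¹ = bp (B.c * y * B.c⁻¹) b := by
        intro y b; cases b <;> simp [bp]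
      rw [hhsq, show B.c * (bp B.z hi * bp B.a hl) * B.c⁻¹ =
        B.c * bp B.z hi * B.c⁻¹ * (B.c * bp B.a hl * B.c⁻¹) by group, hb, hb, Base.c_z, B.ca]
      have hP : ∀ b : Bool, bp B.P b = B.E (M6.pw M6.gP b) := fun b => by
        cases b
        · exact (Base.E_one B).symm
        · exact (Base.E_gP B).symm
      have hz : bp (B.P * B.z * B.a) hi = B.E (M6.mul (M6.zat hi hi false) (M6.pw M6.gP hi)) := by
        cases hi
        · exact (Base.E_one B).symm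
        · rw [← Base.E_mul B rfl rfl, Base.E_zat, show B.E (M6.pw M6.gP true) = B.P from Base.E_gP B]
          simp only [bp_true, bp_false, mul_one]
          rw [mul_assoc, mul_assoc, B.five.Pa.symm, ← mul_assoc B.z, ← B.five.Pz, mul_assoc]
      rw [hz, hP, Base.E_mul B (M6.low_mul _ _ rfl (M6.pw_low rfl _)) (M6.pw_low rfl _)]
    have e2 : h1 * h1 * bp (B.z * B.a) v.bt = B.E (M6.zat (hi ^^ v.bt) (hl ^^ v.bt) false) := by
      rw [hhsq, Base.E_zat, bp_false, mul_one,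
        show bp (B.z * B.a) v.bt = bp B.z v.bt * bp B.a v.bt by cases v.bt <;> simp [bp]]
      rw [mul_assoc, bp_comm' B.five.az, ← mul_assoc, bp_sq B.five.zz, bp_sq B.five.aa]
    rw [hvv, mul_one, e1, e2] at h2
    exact (show ∀ i l k : Bool, M6.mul (M6.mul (M6.zat i i false) (M6.pw M6.gP i))
        (M6.pw M6.gP l) = M6.zat (i ^^ k) (l ^^ k) false → i = l by decide +kernel) _ _ _
      (Base.E_inj B (M6.low_mul _ _ (M6.low_mul _ _ rfl (M6.pw_low rfl _)) (M6.pw_low rfl _)) rfl h2)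
  set h := h1 * bp B.t hl
  have hhN : h ∈ B.N := B.N.mul_mem hh1 (bp_mem (Base.S_le_N B (Base.t_mem B)) _)
  have h_t : h * B.t * h⁻¹ = B.z * B.a * B.t := (hconjt _ rfl _ _).trans hh1t
  have h_a : h * B.a * h⁻¹ = B.a := (hconjt _ B.five.ta _ _).trans hh1a
  have h_z : h * B.z * h⁻¹ = B.z := Base.conj_z B hhN
  have h_P : h * B.P * h⁻¹ = B.P := (hconjt _ B.five.Pt.symm _ _).trans hh1P
  have h_Q : h * B.Q * h⁻¹ = bp (B.z * B.a) β * B.Q := (hconjt _ B.five.Qt.symm _ _).trans hh1Q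
  have h_h : h * h = 1 := by
    show h1 * bp B.t hl * (h1 * bp B.t hl) = 1
    rw [hhil] at hhsq
    cases hl
    · simpa [bp] using hhsq
    · rw [bp_true, show h1 * B.t * (h1 * B.t) = h1 * B.t * h1⁻¹ * (h1 * h1) * B.t by group, hhsq,
        hh1t, bp_true, bp_true,
        show B.z * B.a * B.t * (B.z * B.a) * B.t = B.z * B.a * (B.t * B.z * B.a) * B.t by group,
        B.five.tz, mul_assoc B.z B.t, B.five.ta, ← mul_assoc B.z,
        show B.z * B.a * (B.z * B.a * B.t) * B.t = B.z * B.a * (B.z * B.a) * (B.t * B.t) by group,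
        hzasq, B.five.tt, one_mul]
  -- their commutator
  obtain ⟨kz, ka, hk⟩ : ∃ i j : Bool, h * g = bp B.z i * bp B.a j * (g * h) := by
    have hnz : ∀ x y : G, x * B.a * x⁻¹ = B.a → x * B.z * x⁻¹ = B.z → y ∈ ({B.z, B.a} : Set G) →
        x * y * x⁻¹ = y := by
      rintro x y h1 h2 (rfl | rfl) <;> assumption
    set k := h * g * (g * h)⁻¹ with hk
    have hkN : k ∈ B.N := B.N.mul_mem (B.N.mul_mem hhN hgN) (B.N.inv_mem (B.N.mul_mem hgN hhN))
    have img : ∀ (y ey ez : G), h * g * y * (h * g)⁻¹ = ey → g * h * y * (g * h)⁻¹ = ez →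
        ey = ez → k * ez * k⁻¹ = ez := by
      intro y ey ez e1 e2 e3
      rw [← e2, hk, show h * g * (g * h)⁻¹ * (g * h * y * (g * h)⁻¹) * (h * g * (g * h)⁻¹)⁻¹ =
        h * g * y * (h * g)⁻¹ by group, e1, e3, e2]
    have c2 : ∀ x y w : G, x * w * y * (x * w)⁻¹ = x * (w * y * w⁻¹) * x⁻¹ := fun x y w => by group
    have cm : ∀ x y w : G, x * (y * w) * x⁻¹ = x * y * x⁻¹ * (x * w * x⁻¹) := fun x y w => by group
    have hcomm : B.z * B.a * B.t * 1 = B.z * B.a * B.t := mul_one _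
    have ka' : k * B.a * k⁻¹ = B.a :=
      img B.a _ _ (by rw [c2, g_a, h_a]) (by rw [c2, h_a, g_a]) rfl
    have kt : k * (B.z * B.t) * k⁻¹ = B.z * B.t := by
      refine img B.t (B.a * (B.z * B.a * B.t)) _ (by rw [c2, g_t, cm, h_a, h_t])
        (by rw [c2, h_t, cm, cm, g_z, g_a, g_t, ← mul_assoc, mul_assoc B.z, B.five.aa, mul_one]) ?_
      rw [← mul_assoc, ← mul_assoc, B.five.az, mul_assoc B.z, B.five.aa, mul_one]
    have kP : k * (bp B.a α * B.P) * k⁻¹ = bp B.a α * B.P := by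
      refine img B.P _ _ (by rw [c2, g_P, cm, hba _ _ h_a, h_P]) (by rw [c2, h_P, g_P]) rfl
    have kQ : k * (bp (B.z * B.a) β * B.Q) * k⁻¹ = bp (B.z * B.a) β * B.Q := by
      refine img B.Q _ _ (by rw [c2, g_Q, h_Q]) (by rw [c2, h_Q, cm, hza' _ _ g_a hgN, g_Q]) rfl
    have kz' : k * B.z * k⁻¹ = B.z := Base.conj_z B hkN
    have kt' : k * B.t * k⁻¹ = B.t := by
      rw [cm, kz'] at kt
      exact mul_left_cancel kt
    have kP' : k * B.P * k⁻¹ = B.P := by
      rw [cm, hba _ _ ka'] at kP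
      exact mul_left_cancel kP
    have kQ' : k * B.Q * k⁻¹ = B.Q := by
      rw [cm, hza' _ _ ka' hkN] at kQ
      exact mul_left_cancel kQ
    obtain ⟨w, hw, he⟩ := B.cent_Z k (mul_inv_eq_iff_eq_mul.1 kt') (mul_inv_eq_iff_eq_mul.1 ka')
      (mul_inv_eq_iff_eq_mul.1 kP') (mul_inv_eq_iff_eq_mul.1 kQ')
    have hw2 : w = M6.zat w.bz w.br w.bt := (show ∀ w : M6, w.inZ = true →
      w = M6.zat w.bz w.br w.bt by decide +kernel) w hw
    change B.E w = k at he
    rw [hw2, Base.E_zat] at he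
    refine ⟨w.bz, w.br, ?_⟩
    have hbt : w.bt = false := by
      by_contra hb
      rw [Bool.not_eq_false] at hb
      rw [hb, bp_true] at he
      -- `g h g⁻¹ = k⁻¹ h` is an involution
      set v := bp B.z w.bz * bp B.a w.br with hv
      have hkv : k = v * B.t := by rw [← he, hv, mul_assoc]
      have hh' : g * h * g⁻¹ = k⁻¹ * h := by rw [hk]; group
      have h1 : k⁻¹ * h * (k⁻¹ * h) = 1 := by
        rw [← hh', show g * h * g⁻¹ * (g * h * g⁻¹) = g * (h * h) * g⁻¹ by group, h_h]; group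
      have h2 : h * k = k * h := by
        have hki : h * k⁻¹ * h⁻¹ = k := by
          calc h * k⁻¹ * h⁻¹ = k * (k⁻¹ * h * (k⁻¹ * h)) * (h * h)⁻¹ := by group
            _ = k := by rw [h1, h_h]; group
        have hkk : k * k = 1 := by
          have e : k = B.E w := by rw [hw2, Base.E_zat, hb, bp_true]; exact he.symm
          rw [e, Base.E_mul B (M6.inZ_low w hw) (M6.inZ_low w hw),
            (show ∀ w : M6, w.inZ = true → M6.mul w w = M6.one by decide +kernel) w hw, Base.E_one]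
        rw [inv_eq_of_mul_eq_one_right hkk] at hki
        exact mul_inv_eq_iff_eq_mul.1 hki
      have hvh : h * v * h⁻¹ = v := by
        rw [hv, cm, hba _ _ h_a,
          show h * bp B.z w.bz * h⁻¹ = bp B.z w.bz by
            cases w.bz
            · simp [bp]
            · exact h_z]
      have h3 := mul_inv_eq_iff_eq_mul.2 h2
      rw [hkv, cm, hvh, h_t, mul_left_cancel_iff, mul_eq_right] at h3
      exact hazne h3
    rw [hbt, bp_false, mul_one] at he
    rw [he, hk, inv_mul_cancel_right]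
  have seven : Seven (α, β, kz, ka) B.z B.a B.t B.P B.Q g h :=
    { zz := B.five.zz, aa := B.five.aa, tt := B.five.tt, PP := B.five.PP, QQ := B.five.QQ
      gg := g_g, hh := h_h, az := B.five.az, tz := B.five.tz, Pz := B.five.Pz, Qz := B.five.Qz
      gz := mul_inv_eq_iff_eq_mul.1 g_z, hz := mul_inv_eq_iff_eq_mul.1 h_z, ta := B.five.ta
      Pa := B.five.Pa, Qa := B.five.Qa, ga := mul_inv_eq_iff_eq_mul.1 g_a
      ha := mul_inv_eq_iff_eq_mul.1 h_a, Pt := B.five.Pt, Qt := B.five.Qt, QP := B.five.QP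
      gt := by rw [← mul_assoc]; exact mul_inv_eq_iff_eq_mul.1 g_t
      gP := by rw [← mul_assoc]; exact mul_inv_eq_iff_eq_mul.1 g_P
      gQ := mul_inv_eq_iff_eq_mul.1 g_Q
      ht := by rw [← mul_assoc]; exact mul_inv_eq_iff_eq_mul.1 h_t
      hP := mul_inv_eq_iff_eq_mul.1 h_P
      hQ := by rw [← mul_assoc]; exact mul_inv_eq_iff_eq_mul.1 h_Q
      hg := hk }
  have hlow : ∀ (u : U2) (i j k : Bool), ev7 B.z B.a B.t B.P B.Q g h (u, i, j, k, false, false) =
      B.E (u.1, u.2, i, j, k, false) := by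
    intro u i j k
    simp [ev7, Base.E, ev, M6.bz, M6.br, M6.bt, M6.bP, M6.bQ, M6.bf, bp_false]
  have hinj : Function.Injective (ev7 B.z B.a B.t B.P B.Q g h) := by
    intro x y e
    have e1 : ev7 B.z B.a B.t B.P B.Q g h (M7.mul (α, β, kz, ka) (M7.inv (α, β, kz, ka) y) x) = 1 := by
      rw [← seven.ev_mul, e, seven.ev_mul, (show ∀ p : Par, ∀ y : M7,
        M7.mul p (M7.inv p y) y = M7.one from fun p y => by
          obtain ⟨⟨u1, u2⟩, v1, v2, v3, v4, v5⟩ := y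
          obtain ⟨p1, p2, p3, p4⟩ := p
          cases u1 <;> cases u2 <;> cases v1 <;> cases v2 <;> cases v3 <;> cases v4 <;> cases v5 <;>
            simp [M7.mul, M7.inv, qu, cz, U2.add, V5.add, M7.one, V5.zero]), ev7_one]
    generalize hw : M7.mul (α, β, kz, ka) (M7.inv (α, β, kz, ka) y) x = w at e1
    obtain ⟨u, v1, v2, v3, v4, v5⟩ := w
    have ht : ev7 B.z B.a B.t B.P B.Q g h (((false, false), V5.et) : M7) = B.t := by
      simp [ev7, V5.et, bp]
    have hc := seven.ev_mul (u, v1, v2, v3, v4, v5) ((false, false), V5.et)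
    have hc' := seven.ev_mul ((false, false), V5.et) (u, v1, v2, v3, v4, v5)
    rw [ht, e1, one_mul] at hc
    rw [ht, e1, mul_one] at hc'
    have hgh : v4 = false ∧ v5 = false := by
      -- both products equal `t`
      have k := hc.symm.trans hc'
      have hpre : ∀ (u u' : U2) (v : V5), ev7 B.z B.a B.t B.P B.Q g h (u, v) =
          ev7 B.z B.a B.t B.P B.Q g h (u', v) → u = u' := by
        intro u u' v e
        have e' : bp B.z u.1 * bp B.a u.2 = bp B.z u'.1 * bp B.a u'.2 := by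
          simp only [ev7, ← mul_assoc] at e
          exact mul_right_cancel (mul_right_cancel (mul_right_cancel (mul_right_cancel
            (mul_right_cancel e))))
        have := hinjU u.1 u.2 false u'.1 u'.2 false (by
          rw [Base.E_zat, Base.E_zat, bp_false, mul_one, mul_one]; exact e')
        exact Prod.ext this.1 this.2.1
      have hv : V5.add (v1, v2, v3, v4, v5) V5.et = V5.add V5.et (v1, v2, v3, v4, v5) := by
        simp [V5.add, V5.et, Bool.xor_comm]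
      simp only [M7.mul, hv] at k
      have := hpre _ _ _ k
      revert this
      obtain ⟨u1, u2⟩ := u
      cases u1 <;> cases u2 <;> cases v1 <;> cases v2 <;> cases v3 <;> cases v4 <;> cases v5 <;>
        simp [U2.add, cz, V5.et]
    obtain ⟨rfl, rfl⟩ := hgh
    rw [hlow, ← Base.E_one B] at e1
    have := Base.E_inj B rfl rfl e1
    simp only [M6.one, Prod.mk.injEq, and_true] at this
    obtain ⟨h1, h2, rfl, rfl, rfl⟩ := this
    have hu : u = (false, false) := Prod.ext h1 h2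
    subst hu
    -- cancel
    have hw' : M7.mul (α, β, kz, ka) (M7.inv (α, β, kz, ka) y) x = M7.one := hw
    clear e hw hc hc' ht
    obtain ⟨⟨a1, a2⟩, a3, a4, a5, a6, a7⟩ := x
    obtain ⟨⟨b1, b2⟩, b3, b4, b5, b6, b7⟩ := y
    simp only [M7.mul, M7.inv, qu, cz, U2.add, V5.add, M7.one, V5.zero, Prod.mk.injEq] at hw' ⊢
    obtain ⟨⟨k1, k2⟩, k3, k4, k5, k6, k7⟩ := hw'
    obtain rfl : b3 = a3 := by revert k3; cases b3 <;> cases a3 <;> simp
    obtain rfl : b4 = a4 := by revert k4; cases b4 <;> cases a4 <;> simp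
    obtain rfl : b5 = a5 := by revert k5; cases b5 <;> cases a5 <;> simp
    obtain rfl : b6 = a6 := by revert k6; cases b6 <;> cases a6 <;> simp
    obtain rfl : b7 = a7 := by revert k7; cases b7 <;> cases a7 <;> simp
    refine ⟨⟨?_, ?_⟩, rfl, rfl, rfl, rfl, rfl⟩
    · revert k1; cases b1 <;> cases a1 <;> simp
    · revert k2; cases b2 <;> cases a2 <;> simp
  refine ⟨⟨g, h, (α, β, kz, ka), seven, hinj, ?_⟩, trivial⟩
  let R : Subgroup G :=
    { carrier := Set.range (ev7 B.z B.a B.t B.P B.Q g h)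
      one_mem' := ⟨M7.one, ev7_one⟩
      mul_mem' := by rintro _ _ ⟨x, rfl⟩ ⟨y, rfl⟩; exact ⟨_, (seven.ev_mul x y).symm⟩
      inv_mem' := by
        rintro _ ⟨x, rfl⟩
        exact ⟨M7.inv (α, β, kz, ka) x, eq_inv_of_mul_eq_one_right (by
          rw [seven.ev_mul, M7.mul_inv, ev7_one])⟩ }
  have hR : R ≤ B.N := by
    rintro _ ⟨⟨u, v⟩, rfl⟩
    have hS := Base.S_le_N B
    exact B.N.mul_mem (bp_mem (hS ⟨M6.gz, rfl, Base.E_gz B⟩) _) (B.N.mul_mem
      (bp_mem (hS (Base.a_mem B)) _) (B.N.mul_mem (bp_mem (hS (Base.t_mem B)) _)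
      (B.N.mul_mem (bp_mem (hS (Base.P_mem B)) _) (B.N.mul_mem (bp_mem (hS (Base.Q_mem B)) _)
      (B.N.mul_mem (bp_mem hgN _) (bp_mem hhN _))))))
  have hcard : Nat.card R = 128 := by
    rw [show Nat.card R = Nat.card (Set.range (ev7 B.z B.a B.t B.P B.Q g h)) from rfl,
      Nat.card_congr (Equiv.ofInjective _ hinj).symm, Nat.card_eq_fintype_card]
    rfl
  have he := Subgroup.eq_of_le_of_card_ge hR (by rw [hcard, h4.card_N])
  intro x
  rw [← he]
  exact Iff.rfl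

end Four

end Cfsg.Agent.Block.STwoSix
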