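import Cfsg.Agent.Lib.Block.STwoSix.Model7

/-!
Finite checks: the possible sets of class elements in the normaliser of `S`.
-/

set_option autoImplicit false
set_option linter.unusedSectionVars false
set_option synthInstance.maxSize 4096
set_option synthInstance.maxHeartbeats 400000
set_option maxRecDepth 8000

namespace Cfsg.Agent.Block.STwoSix

namespace V5

/-- Scalar product. -/
def dot (i v : V5) : Bool :=
  (((i.1 && v.1) ^^ (i.2.1 && v.2.1)) ^^ ((i.2.2.1 && v.2.2.1) ^^ (i.2.2.2.1 && v.2.2.2.1))) ^^
    (i.2.2.2.2 && v.2.2.2.2)

theorem dot_add : ∀ i v w : V5, dot i (add v w) = (dot i v ^^ dot i w) := by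
  rintro ⟨i1, i2, i3, i4, i5⟩ ⟨v1, v2, v3, v4, v5⟩ ⟨w1, w2, w3, w4, w5⟩
  cases i1 <;> cases i2 <;> cases i3 <;> cases i4 <;> cases i5 <;>
    simp [dot, add, Bool.xor_assoc, Bool.xor_comm, Bool.xor_left_comm]

/-- Whether the vector involves neither `g` nor `h`. -/
def low (v : V5) : Bool := !v.2.2.2.1 && !v.2.2.2.2

/-- The class vectors without `g` and `h`: `t`, `tP`, `tQ`. -/
def inner : List V5 := [et, add et eP, add et eQ]

/-- Every commutator value occurs. -/
def surj (p : Par) (v : V5) : Bool :=
  U2.all.all fun u => all.any fun w => com p w v == u

theorem surj_of_small : ∀ p : Par, ∀ v : V5,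
    (all.countP fun w => com p w v == (false, false)) ≤ 8 → surj p v = true := by decide +kernel

/-- Candidates for class vectors involving `g` or `h`. -/
def cand (p : Par) : List V5 :=
  all.filter fun v => !low v && (qu p v == (false, false) && surj p v)

/-- Every class vector commutes with exactly two others, which do not commute. -/
def good (p : Par) (X : List V5) : Bool :=
  X.all fun x =>
    match X.filter fun v => v != x && com p x v == (false, false) with
    | [a, b] => com p a b != (false, false)
    | _ => false

/-- Some character takes the value one an odd number of times. -/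
def oddFun (X : List V5) : Bool := all.any fun i => X.countP (dot i) % 2 == 1

/-- The first exceptional configuration. -/
def par0 : Par := (false, false, true, false)
/-- The second exceptional configuration. -/
def par3 : Par := (false, true, true, true)
/-- The mirror image of the second. -/
def par4 : Par := (true, false, false, true)
/-- The third exceptional configuration. -/
def par5 : Par := (true, true, true, false)

/-- Class vectors of the first exceptional configuration. -/
def cfg0 : List V5 :=
  inner ++ [eg, add eP eg, add eQ eg, eh, add eP eh, add eQ eh, add et (add eg eh),
    add et (add eP (add eg eh)), add et (add eQ (add eg eh))]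
/-- Class vectors of the second exceptional configuration. -/
def cfg3 : List V5 :=
  inner ++ [eg, add eP eg, add eQ eg, add eQ (add eg eh), add et (add eQ eh)]
/-- Class vectors of the third exceptional configuration. -/
def cfg5 : List V5 :=
  inner ++ [add et (add eP eg), add et (add eQ eh), add et (add eg eh)]

/-- The outcome of a configuration. -/
def outcome (p : Par) (X : List V5) : Bool :=
  oddFun X || decide (p = par4) ||
    (decide (p = par0) && all.all fun v => X.contains v == cfg0.contains v) ||
    (decide (p = par3) && all.all fun v => X.contains v == cfg3.contains v) ||
    (decide (p = par5) && all.all fun v => X.contains v == cfg5.contains v)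

/-- All parameters. -/
def pars : List Par :=
  [false, true].flatMap fun a => [false, true].flatMap fun b =>
    [false, true].flatMap fun c => [false, true].map fun d => (a, b, c, d)

theorem mem_pars : ∀ p : Par, p ∈ pars := by decide +kernel

theorem cfg_all : (pars.all fun p => (cand p).sublists.all fun L =>
    !good p (inner ++ L) || outcome p (inner ++ L)) = true := by
  decide +kernel

theorem cfg_cases (p : Par) {L : List V5} (hL : L.Sublist (cand p))
    (hg : good p (inner ++ L) = true) : outcome p (inner ++ L) = true := by
  have h := List.all_eq_true.1 (List.all_eq_true.1 cfg_all p (mem_pars p)) L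
    (List.mem_sublists.2 hL)
  rw [hg] at h
  simpa using h

end V5

end Cfsg.Agent.Block.STwoSix
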