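import Cfsg.Agent.Lib.Block.STwoSix.Vee
import Cfsg.Agent.Lib.Block.STwoSix.VeeCfg
import Cfsg.Agent.Lib.Block.STwoSix.Char8

/-!
Class vectors of the normaliser of `S`, and the action on them.
-/

set_option autoImplicit false
set_option linter.unusedSectionVars false
set_option synthInstance.maxSize 4096
set_option synthInstance.maxHeartbeats 400000
set_option maxRecDepth 8000

namespace Cfsg.Agent.Block.STwoSix

open Subgroup

namespace V5

theorem kernel_t : ∀ p : Par, ∀ v : V5, com p v et = (false, false) → low v = true := by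
  decide +kernel

theorem low_cases : ∀ v : V5, low v = true →
    M6.inCl true (false, false, v.1, v.2.1, v.2.2.1, false) = inner.contains v := by decide +kernel

theorem u_moved : ∀ p : Par, com p eQ eP = (true, false) ∧ com p eg et = (false, true) := by
  decide +kernel

theorem add_lin (i : V5 × V5 × V5 × V5 × V5) (v : V5) :
    add (sc i.1 v.1) (add (sc i.2.1 v.2.1) (add (sc i.2.2.1 v.2.2.1)
      (add (sc i.2.2.2.1 v.2.2.2.1) (sc i.2.2.2.2 v.2.2.2.2)))) = lin i v := rfl

theorem decomp : ∀ v : V5, v = add (sc et v.1) (add (sc eP v.2.1) (add (sc eQ v.2.2.1)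
    (add (sc eg v.2.2.2.1) (sc eh v.2.2.2.2)))) := by decide +kernel

theorem inner_props : ∀ p : Par, com p et (add et eP) = (false, false) ∧
    com p et (add et eQ) = (false, false) ∧
    com p (add et eP) (add et eQ) ≠ (false, false) := by decide +kernel

theorem cand_disjoint : ∀ v ∈ inner, low v = true := by decide +kernel

theorem inner_nodup : inner.Nodup := by decide +kernel

end V5

variable {G : Type*} [Group G] [Finite G] {B : Base G}

namespace Vee

variable (V : Vee B)

/-- Evaluation. -/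
def E (u : M7) : G := ev7 B.z B.a B.t B.P B.Q V.g V.h u

theorem E_mul (u v : M7) : V.E u * V.E v = V.E (M7.mul V.p u v) := V.seven.ev_mul u v

theorem E_one : V.E M7.one = 1 := ev7_one

theorem E_inj {u v : M7} (h : V.E u = V.E v) : u = v := V.inj h

theorem E_mem (u : M7) : V.E u ∈ B.N := (V.range_N _).2 ⟨u, rfl⟩

theorem E_inv (u : M7) : (V.E u)⁻¹ = V.E (M7.inv V.p u) :=
  inv_eq_of_mul_eq_one_right (by rw [E_mul, M7.mul_inv, E_one])

open scoped Classical in
/-- The exponents of `t, P, Q, g, h`. -/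
noncomputable def vec (x : G) : V5 := if h : ∃ u, V.E u = x then h.choose.2 else V5.zero

theorem vec_E (u : M7) : V.vec (V.E u) = u.2 := by
  have h : ∃ v, V.E v = V.E u := ⟨u, rfl⟩
  rw [vec, dif_pos h, V.E_inj h.choose_spec]

theorem vec_mul {x y : G} (hx : x ∈ B.N) (hy : y ∈ B.N) :
    V.vec (x * y) = V5.add (V.vec x) (V.vec y) := by
  obtain ⟨u, rfl⟩ := (V.range_N x).1 hx
  obtain ⟨v, rfl⟩ := (V.range_N y).1 hy
  show V.vec (V.E u * V.E v) = V5.add (V.vec (V.E u)) (V.vec (V.E v))
  rw [E_mul, vec_E, vec_E, vec_E]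
  rfl

theorem vec_one : V.vec 1 = V5.zero := by
  rw [← E_one V, vec_E]; rfl

theorem vec_inv {x : G} (hx : x ∈ B.N) : V.vec x⁻¹ = V.vec x := by
  obtain ⟨u, rfl⟩ := (V.range_N x).1 hx
  show V.vec (V.E u)⁻¹ = V.vec (V.E u)
  rw [E_inv, vec_E, vec_E]; rfl

theorem vec_conj {x y : G} (hx : x ∈ B.N) (hy : y ∈ B.N) : V.vec (x * y * x⁻¹) = V.vec y := by
  rw [vec_mul V (B.N.mul_mem hx hy) (B.N.inv_mem hx), vec_mul V hx hy, vec_inv V hx]
  exact (show ∀ v w : V5, V5.add (V5.add v w) v = w from fun v w => by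
    obtain ⟨a1, a2, a3, a4, a5⟩ := v
    obtain ⟨b1, b2, b3, b4, b5⟩ := w
    cases a1 <;> cases a2 <;> cases a3 <;> cases a4 <;> cases a5 <;> simp [V5.add]) _ _

theorem E_conj (x y : M7) :
    V.E x * V.E y * (V.E x)⁻¹ = V.E (U2.add y.1 (com V.p x.2 y.2), y.2) := by
  rw [mul_inv_eq_iff_eq_mul, E_mul, E_mul]
  congr 1
  obtain ⟨⟨x1, x2⟩, xv⟩ := x
  obtain ⟨⟨y1, y2⟩, yv⟩ := y
  simp only [M7.mul, com, U2.add, Prod.mk.injEq]
  refine ⟨⟨?_, ?_⟩, ?_⟩
  · cases x1 <;> cases y1 <;> cases (cz V.p xv yv).1 <;> cases (cz V.p yv xv).1 <;> rfl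
  · cases x2 <;> cases y2 <;> cases (cz V.p xv yv).2 <;> cases (cz V.p yv xv).2 <;> rfl
  · obtain ⟨a1, a2, a3, a4, a5⟩ := xv
    obtain ⟨b1, b2, b3, b4, b5⟩ := yv
    simp [V5.add, Bool.xor_comm]

theorem comm_iff (x y : M7) :
    V.E x * V.E y = V.E y * V.E x ↔ com V.p x.2 y.2 = (false, false) := by
  rw [← mul_inv_eq_iff_eq_mul, E_conj]
  constructor
  · intro h
    have h' := congrArg Prod.fst (V.E_inj h)
    obtain ⟨⟨y1, y2⟩, yv⟩ := y
    simp only [U2.add, Prod.mk.injEq] at h'
    refine Prod.ext ?_ ?_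
    · revert h'; cases y1 <;> cases (com V.p x.2 yv).1 <;> simp
    · revert h'; cases y2 <;> cases (com V.p x.2 yv).2 <;> simp
  · intro h
    rw [h]
    obtain ⟨⟨y1, y2⟩, yv⟩ := y
    simp [U2.add]

theorem sq_iff (x : M7) : V.E x * V.E x = 1 ↔ qu V.p x.2 = (false, false) := by
  rw [E_mul, ← E_one V]
  constructor
  · intro h
    have h' := congrArg Prod.fst (V.E_inj h)
    obtain ⟨⟨x1, x2⟩, xv⟩ := x
    simp only [M7.mul, M7.one, U2.add] at h'
    simpa [qu] using h'
  · intro h
    obtain ⟨⟨x1, x2⟩, xv⟩ := x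
    simp only [qu] at h
    congr 1
    simp [M7.mul, M7.one, U2.add, h, V5.add_self]

theorem E_basic : V.E ((false, false), V5.et) = B.t ∧ V.E ((false, false), V5.eP) = B.P ∧
    V.E ((false, false), V5.eQ) = B.Q ∧ V.E ((false, false), V5.eg) = V.g ∧
    V.E ((false, false), V5.eh) = V.h ∧ V.E ((true, false), V5.zero) = B.z ∧
    V.E ((false, true), V5.zero) = B.a := by
  simp [E, ev7, V5.et, V5.eP, V5.eQ, V5.eg, V5.eh, V5.zero, bp]

theorem vec_t : V.vec B.t = V5.et := by rw [← (E_basic V).1, vec_E]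

theorem g_mem : V.g ∈ B.N := by rw [← (E_basic V).2.2.2.1]; exact E_mem V _
theorem h_mem : V.h ∈ B.N := by rw [← (E_basic V).2.2.2.2.1]; exact E_mem V _

theorem E_low {v : V5} (hv : V5.low v = true) (u : U2) :
    V.E (u, v) = B.E (u.1, u.2, v.1, v.2.1, v.2.2.1, false) := by
  obtain ⟨v1, v2, v3, v4, v5⟩ := v
  simp only [V5.low, Bool.and_eq_true, Bool.not_eq_true'] at hv
  obtain ⟨rfl, rfl⟩ := hv
  simp [E, ev7, Base.E, ev, M6.bz, M6.br, M6.bt, M6.bP, M6.bQ, M6.bf, bp_false]

theorem card_kernel (v : V5) (u : U2) : 4 * (V5.all.countP fun w => com V.p w v == (false, false)) ≤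
    Nat.card ↥(B.N ⊓ centralizer ({V.E (u, v)} : Set G)) := by
  classical
  set s := (V5.all.filter fun w => com V.p w v == (false, false)).toFinset with hs
  have hm : ∀ w ∈ s, com V.p w v = (false, false) := fun w hw => by
    simp only [hs, List.mem_toFinset, List.mem_filter, beq_iff_eq] at hw
    exact hw.2
  let F : U2 × s → ↥(B.N ⊓ centralizer ({V.E (u, v)} : Set G)) := fun x =>
    ⟨V.E (x.1, x.2.1), E_mem V _, mem_centralizer_singleton_iff.2
      ((comm_iff V _ _).2 (hm _ x.2.2))⟩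
  have hF : Function.Injective F := by
    rintro ⟨a, b⟩ ⟨c, d⟩ e
    have := V.E_inj (congrArg Subtype.val e)
    simp only [Prod.mk.injEq] at this
    exact Prod.ext this.1 (Subtype.ext this.2)
  have h := Nat.card_le_card_of_injective F hF
  rw [Nat.card_prod, Nat.card_eq_fintype_card (α := U2), Nat.card_eq_fintype_card (α := s),
    Fintype.card_coe] at h
  rwa [hs, List.toFinset_card_of_nodup (V5.all_nodup.filter _), ← List.countP_eq_length_filter]
    at h

/-- The class vectors. -/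
def Cl (v : V5) : Prop := B.Cls (V.E ((false, false), v))

variable (h4 : Four B)
include h4

theorem surj_of_cls {u : U2} {v : V5} (h : B.Cls (V.E (u, v))) : V5.surj V.p v = true := by
  refine V5.surj_of_small _ _ ?_
  have h1 := (card_kernel V v u).trans
    (Nat.le_of_dvd (by norm_num) (h4.card_cent_le h4.isPGroup_N h))
  omega

/-- The class elements form cosets of `⟨z, a⟩`. -/
theorem cls_iff (u : U2) (v : V5) : B.Cls (V.E (u, v)) ↔ V.Cl v := by
  have key : ∀ u u' : U2, B.Cls (V.E (u, v)) → B.Cls (V.E (u', v)) := by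
    intro u u' h
    have hs := surj_of_cls V h4 h
    have := List.all_eq_true.1 hs (U2.add u u') (U2.mem_all _)
    rw [List.any_eq_true] at this
    obtain ⟨w, -, hw⟩ := this
    rw [beq_iff_eq] at hw
    have := Base.Cls_conj B h (V.E ((false, false), w))
    rw [E_conj, hw] at this
    have e : U2.add u (U2.add u u') = u' := by
      obtain ⟨a, b⟩ := u; obtain ⟨c, d⟩ := u'
      cases a <;> cases b <;> cases c <;> cases d <;> rfl
    rwa [e] at this
  exact ⟨key _ _, key _ _⟩

theorem cls_N_iff {x : G} (hx : x ∈ B.N) : B.Cls x ↔ V.Cl (V.vec x) := by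
  obtain ⟨⟨u, v⟩, rfl⟩ := (V.range_N x).1 hx
  show B.Cls (V.E (u, v)) ↔ V.Cl (V.vec (V.E (u, v)))
  rw [vec_E]
  exact cls_iff V h4 u v

theorem Cl_qu {v : V5} (h : V.Cl v) : qu V.p v = (false, false) :=
  (sq_iff V _).1 (Base.Cls_sq B h)

theorem Cl_surj {v : V5} (h : V.Cl v) : V5.surj V.p v = true := surj_of_cls V h4 h

theorem Cl_low {v : V5} (hv : V5.low v = true) : V.Cl v ↔ v ∈ V5.inner := by
  rw [Cl, E_low V hv, h4.cls_low rfl, V5.low_cases v hv, List.contains_iff_mem]

theorem Cl_t : V.Cl V5.et := (Cl_low V h4 rfl).2 (by decide)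

theorem card_cent_cls {v : V5} (h : V.Cl v) :
    Nat.card ↥(B.N ⊓ centralizer ({V.E ((false, false), v)} : Set G)) = 32 := by
  have h1 := Nat.le_of_dvd (by norm_num) (h4.card_cent_le h4.isPGroup_N h)
  have h8 : 8 ≤ V5.all.countP fun w => com V.p w v == (false, false) :=
    (show ∀ p : Par, ∀ v : V5, 8 ≤ V5.all.countP fun w => com p w v == (false, false) by
      decide +kernel) _ _
  have h2 := card_kernel V v (false, false)
  omega

/-- A class vector is the image of `t` under an element normalising the normaliser of `S`. -/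
theorem exists_move {v : V5} (h : V.Cl v) :
    ∃ n : G, (∀ y ∈ B.N, n * y * n⁻¹ ∈ B.N) ∧ V.vec (n * B.t * n⁻¹) = v := by
  set x := V.E ((false, false), v) with hx
  set C := B.N ⊓ centralizer ({x} : Set G) with hC
  obtain ⟨n, hn, hnS⟩ := Base.exists_norm B h (card_cent_cls V h4 h)
    (fun y hy => mem_centralizer_singleton_iff.1 hy.2)
  have hNC : ∀ y ∈ B.N, ∀ w ∈ C, y * w * y⁻¹ ∈ C := by
    intro y hy w hw
    obtain ⟨uy, rfl⟩ := (V.range_N y).1 hy
    obtain ⟨⟨uw, vw⟩, rfl⟩ := (V.range_N w).1 hw.1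
    have hcm := (comm_iff V (uw, vw) ((false, false), v)).1
      (mem_centralizer_singleton_iff.1 hw.2)
    change V.E uy * V.E (uw, vw) * (V.E uy)⁻¹ ∈ C
    rw [E_conj]
    exact ⟨E_mem V _, mem_centralizer_singleton_iff.2 ((comm_iff V _ _).2 hcm)⟩
  have hback : ∀ y ∈ B.N, n⁻¹ * y * n ∈ B.N := by
    intro y hy
    refine mem_normalizer_fintype fun s hs => ?_
    change n⁻¹ * y * n * s * (n⁻¹ * y * n)⁻¹ ∈ B.S
    rw [hnS, show n * (n⁻¹ * y * n * s * (n⁻¹ * y * n)⁻¹) * n⁻¹ = y * (n * s * n⁻¹) * y⁻¹ by group]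
    exact hNC y hy _ ((hnS s).1 hs)
  refine ⟨n, fun y hy => ?_, by rw [hn, vec_E]⟩
  set M := B.N.map (MulAut.conj n⁻¹).toMonoidHom with hM
  have hle : M ≤ B.N := by
    rintro _ ⟨w, hw, rfl⟩
    show n⁻¹ * w * n⁻¹⁻¹ ∈ B.N
    rw [inv_inv]
    exact hback w hw
  have he : M = B.N := Subgroup.eq_of_le_of_card_ge hle
    (by rw [hM, Subgroup.card_map_of_injective (MulAut.conj n⁻¹).injective])
  rw [← he] at hy
  obtain ⟨w, hw, rfl⟩ := hy
  show n * (n⁻¹ * w * n⁻¹⁻¹) * n⁻¹ ∈ B.N
  rwa [show n * (n⁻¹ * w * n⁻¹⁻¹) * n⁻¹ = w by group]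

end Vee

/-- The linear map induced by an element normalising the normaliser of `S`. -/
noncomputable def Vee.act (V : Vee B) (n : G) (v : V5) : V5 :=
  V.vec (n * V.E ((false, false), v) * n⁻¹)

namespace Vee

variable (V : Vee B) {n : G} (hn : ∀ y ∈ B.N, n * y * n⁻¹ ∈ B.N)
include hn

theorem conj_U (u : U2) :
    V.vec (n * V.E (u, V5.zero) * n⁻¹) = V5.zero := by
  have hcom : ∀ v w : V5, V.vec (n * V.E (com V.p v w, V5.zero) * n⁻¹) = V5.zero := by
    intro v w
    set x := V.E ((false, false), v)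
    set y := V.E ((false, false), w)
    have hx : x ∈ B.N := E_mem V _
    have hy : y ∈ B.N := E_mem V _
    have e : V.E (com V.p v w, V5.zero) = x * y * x⁻¹ * y⁻¹ := by
      rw [E_conj, E_inv, E_mul]
      congr 1
      simp only [M7.mul, M7.inv, qu, U2.add, V5.add_self]
      generalize com V.p v w = c
      generalize cz V.p w w = q
      obtain ⟨c1, c2⟩ := c
      obtain ⟨q1, q2⟩ := q
      cases c1 <;> cases c2 <;> cases q1 <;> cases q2 <;> simp
    rw [e, show n * (x * y * x⁻¹ * y⁻¹) * n⁻¹ =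
      n * x * n⁻¹ * (n * y * n⁻¹) * (n * x * n⁻¹)⁻¹ * (n * y * n⁻¹)⁻¹ by group,
      vec_mul V (B.N.mul_mem (B.N.mul_mem (hn x hx) (hn y hy)) (B.N.inv_mem (hn x hx)))
        (B.N.inv_mem (hn y hy)), vec_conj V (hn x hx) (hn y hy), vec_inv V (hn y hy),
      V5.add_self]
  have hz := hcom V5.eQ V5.eP
  have ha := hcom V5.eg V5.et
  rw [(V5.u_moved V.p).1] at hz
  rw [(V5.u_moved V.p).2] at ha
  obtain ⟨u1, u2⟩ := u
  cases u1 <;> cases u2
  · rw [show (((false, false), V5.zero) : M7) = M7.one from rfl, E_one,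
      show n * (1 : G) * n⁻¹ = 1 by group, vec_one]
  · exact ha
  · exact hz
  · have e : V.E ((true, true), V5.zero) =
        V.E ((true, false), V5.zero) * V.E ((false, true), V5.zero) := by
      rw [E_mul]; congr 1
      simp [M7.mul, U2.add, cz, V5.zero, V5.add]
    rw [e, show n * (V.E ((true, false), V5.zero) * V.E ((false, true), V5.zero)) * n⁻¹ =
      n * V.E ((true, false), V5.zero) * n⁻¹ * (n * V.E ((false, true), V5.zero) * n⁻¹) by group,
      vec_mul V (hn _ (E_mem V _)) (hn _ (E_mem V _)), hz, ha, V5.add_self]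

theorem act_E (u : M7) : V.vec (n * V.E u * n⁻¹) = V.act n u.2 := by
  have e : V.E u = V.E (u.1, V5.zero) * V.E ((false, false), u.2) := by
    rw [E_mul]
    congr 1
    obtain ⟨⟨u1, u2⟩, v⟩ := u
    simp [M7.mul, U2.add, cz, V5.zero]
    exact (V5.zero_add v).symm
  rw [e, show n * (V.E (u.1, V5.zero) * V.E ((false, false), u.2)) * n⁻¹ =
    n * V.E (u.1, V5.zero) * n⁻¹ * (n * V.E ((false, false), u.2) * n⁻¹) by group,
    vec_mul V (hn _ (E_mem V _)) (hn _ (E_mem V _)), conj_U V hn, V5.zero_add]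
  rfl

theorem act_vec {x : G} (hx : x ∈ B.N) : V.vec (n * x * n⁻¹) = V.act n (V.vec x) := by
  obtain ⟨u, rfl⟩ := (V.range_N x).1 hx
  show V.vec (n * V.E u * n⁻¹) = V.act n (V.vec (V.E u))
  rw [act_E V hn, vec_E]

theorem act_add (v w : V5) : V.act n (V5.add v w) = V5.add (V.act n v) (V.act n w) := by
  have e : V.E ((false, false), v) * V.E ((false, false), w) = V.E (cz V.p v w, V5.add v w) := by
    rw [E_mul]
    congr 1
    simp [M7.mul, U2.add]
  have h := act_E V hn (cz V.p v w, V5.add v w)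
  rw [← e, show n * (V.E ((false, false), v) * V.E ((false, false), w)) * n⁻¹ =
    n * V.E ((false, false), v) * n⁻¹ * (n * V.E ((false, false), w) * n⁻¹) by group,
    vec_mul V (hn _ (E_mem V _)) (hn _ (E_mem V _))] at h
  exact h.symm

theorem act_zero : V.act n V5.zero = V5.zero := conj_U V hn (false, false)

theorem act_lin (v : V5) : V.act n v =
    V5.lin (V.act n V5.et, V.act n V5.eP, V.act n V5.eQ, V.act n V5.eg, V.act n V5.eh) v := by
  have hsc : ∀ (w : V5) (b : Bool), V.act n (V5.sc w b) = V5.sc (V.act n w) b := by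
    intro w b; cases b
    · exact act_zero V hn
    · rfl
  conv_lhs => rw [V5.decomp v]
  rw [act_add V hn, act_add V hn, act_add V hn, act_add V hn, hsc, hsc, hsc, hsc, hsc]
  rfl

theorem act_com_iff (v w : V5) : com V.p (V.act n v) (V.act n w) = (false, false) ↔
    com V.p v w = (false, false) := by
  obtain ⟨u, hu⟩ := (V.range_N _).1 (hn _ (E_mem V ((false, false), v)))
  obtain ⟨u', hu'⟩ := (V.range_N _).1 (hn _ (E_mem V ((false, false), w)))
  change V.E u = _ at hu
  change V.E u' = _ at hu'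
  have e1 : V.act n v = u.2 := by rw [act, ← hu, vec_E]
  have e2 : V.act n w = u'.2 := by rw [act, ← hu', vec_E]
  rw [e1, e2, ← comm_iff V u u', ← comm_iff V ((false, false), v) ((false, false), w), hu, hu']
  constructor
  · intro h
    have := congrArg (fun y => n⁻¹ * y * n) h
    simpa [mul_assoc] using this
  · intro h
    calc n * V.E ((false, false), v) * n⁻¹ * (n * V.E ((false, false), w) * n⁻¹)
        = n * (V.E ((false, false), v) * V.E ((false, false), w)) * n⁻¹ := by group
      _ = _ := by rw [h]; group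

theorem act_qu_iff (v : V5) :
    qu V.p (V.act n v) = (false, false) ↔ qu V.p v = (false, false) := by
  obtain ⟨u, hu⟩ := (V.range_N _).1 (hn _ (E_mem V ((false, false), v)))
  change V.E u = _ at hu
  have e1 : V.act n v = u.2 := by rw [act, ← hu, vec_E]
  rw [e1, ← sq_iff V u, ← sq_iff V ((false, false), v), hu,
    show n * V.E ((false, false), v) * n⁻¹ * (n * V.E ((false, false), v) * n⁻¹) =
      n * (V.E ((false, false), v) * V.E ((false, false), v)) * n⁻¹ by group, conj_eq_one_iff]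

theorem hn_inv : ∀ y ∈ B.N, n⁻¹ * y * n ∈ B.N := by
  intro y hy
  have hle : B.N.map (MulAut.conj n).toMonoidHom ≤ B.N := by
    rintro _ ⟨w, hw, rfl⟩
    exact hn w hw
  have he := Subgroup.eq_of_le_of_card_ge hle
    (by rw [Subgroup.card_map_of_injective (MulAut.conj n).injective])
  rw [← he] at hy
  obtain ⟨w, hw, rfl⟩ := hy
  show n⁻¹ * (n * w * n⁻¹) * n ∈ B.N
  rwa [show n⁻¹ * (n * w * n⁻¹) * n = w by group]

theorem act_surj (v : V5) : ∃ w, V.act n w = v := by
  have hy := hn_inv hn _ (E_mem V ((false, false), v))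
  obtain ⟨u, hu⟩ := (V.range_N _).1 hy
  change V.E u = _ at hu
  refine ⟨u.2, ?_⟩
  rw [← act_E V hn u, hu, show n * (n⁻¹ * V.E ((false, false), v) * n) * n⁻¹ =
    V.E ((false, false), v) by group, vec_E]

theorem act_inj : Function.Injective (V.act n) :=
  Finite.injective_iff_surjective.2 (act_surj V hn)

variable (h4 : Four B)
include h4

theorem act_Cl (v : V5) : V.Cl (V.act n v) ↔ V.Cl v := by
  have hm := hn _ (E_mem V ((false, false), v))
  rw [act, ← cls_N_iff V h4 hm, Base.Cls_conj_iff B]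
  rfl

/-- An element normalising the normaliser of `S` and fixing the vector of `t` lies in it. -/
theorem mem_of_fix (ht : V.act n V5.et = V5.et) : n ∈ B.N := by
  obtain ⟨⟨u, v⟩, hu⟩ := (V.range_N _).1 (hn _ (Base.S_le_N B (Base.t_mem B)))
  change V.E (u, v) = _ at hu
  have hv : v = V5.et := by
    rw [← ht, ← vec_t V, ← act_vec V hn (Base.S_le_N B (Base.t_mem B)), ← hu, vec_E]
  subst hv
  have hs := List.all_eq_true.1 (Cl_surj V h4 (Cl_t V h4)) u (U2.mem_all _)
  rw [List.any_eq_true] at hs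
  obtain ⟨w, -, hw⟩ := hs
  rw [beq_iff_eq] at hw
  set W := V.E ((false, false), w) with hW
  have hWt : W * B.t * W⁻¹ = n * B.t * n⁻¹ := by
    rw [← hu, ← (E_basic V).1, hW, E_conj, hw]
    congr 1
    simp [U2.add]
  set d := W⁻¹ * n with hd
  have hdt : d * B.t * d⁻¹ = B.t := by
    rw [show d * B.t * d⁻¹ = W⁻¹ * (n * B.t * n⁻¹) * W by rw [hd]; group, ← hWt]; group
  have hdN : d ∈ B.N := by
    refine mem_normalizer_fintype fun s hs => ?_
    change d * s * d⁻¹ ∈ B.S
    rw [← h4.N_inf_cent] at hs ⊢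
    refine ⟨?_, mem_centralizer_singleton_iff.2 ?_⟩
    · rw [show d * s * d⁻¹ = W⁻¹ * (n * s * n⁻¹) * W⁻¹⁻¹ by rw [hd]; group]
      exact B.N.mul_mem (B.N.mul_mem (B.N.inv_mem (E_mem V _)) (hn s hs.1))
        (B.N.inv_mem (B.N.inv_mem (E_mem V _)))
    · have h1 := mem_centralizer_singleton_iff.1 hs.2
      conv_lhs => rw [← hdt]
      conv_rhs => rw [← hdt]
      calc d * s * d⁻¹ * (d * B.t * d⁻¹) = d * (s * B.t) * d⁻¹ := by group
        _ = d * (B.t * s) * d⁻¹ := by rw [h1]
        _ = d * B.t * d⁻¹ * (d * s * d⁻¹) := by group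
  have := B.N.mul_mem (E_mem V ((false, false), w)) hdN
  rwa [hd, ← hW, mul_inv_cancel_left] at this

end Vee

namespace Vee

variable (V : Vee B)

theorem act_comp {n m : G} (hn : ∀ y ∈ B.N, n * y * n⁻¹ ∈ B.N)
    (hm : ∀ y ∈ B.N, m * y * m⁻¹ ∈ B.N) (v : V5) :
    V.act (n * m) v = V.act n (V.act m v) := by
  rw [act, show n * m * V.E ((false, false), v) * (n * m)⁻¹ =
    n * (m * V.E ((false, false), v) * m⁻¹) * n⁻¹ by group, act_vec V hn (hm _ (E_mem V _))]
  rfl

theorem act_mem {n : G} (hn : n ∈ B.N) (v : V5) : V.act n v = v := by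
  rw [act, vec_conj V hn (E_mem V _), vec_E]

open scoped Classical in
/-- The outcome of the finite classification. -/
theorem config (h4 : Four B) : ∃ L : List V5, (∀ v, V.Cl v ↔ v ∈ V5.inner ++ L) ∧
    (V5.inner ++ L).Nodup ∧ V5.outcome V.p (V5.inner ++ L) = true := by
  set L := (V5.cand V.p).filter fun v => decide (V.Cl v) with hL
  have hmem : ∀ v, V.Cl v ↔ v ∈ V5.inner ++ L := by
    intro v
    rw [List.mem_append]
    constructor
    · intro h
      by_cases hl : V5.low v = true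
      · exact Or.inl ((Cl_low V h4 hl).1 h)
      · refine Or.inr (List.mem_filter.2 ⟨List.mem_filter.2 ⟨V5.mem_all v, ?_⟩, decide_eq_true h⟩)
        rw [Bool.not_eq_true] at hl
        simp [hl, Cl_qu V h4 h, Cl_surj V h4 h]
    · rintro (h | h)
      · exact (Cl_low V h4 (V5.cand_disjoint v h)).2 h
      · exact of_decide_eq_true (List.mem_filter.1 h).2
  have hnd : (V5.inner ++ L).Nodup := by
    refine List.Nodup.append V5.inner_nodup
      ((V5.all_nodup.filter _).filter _) fun v h1 h2 => ?_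
    have := (List.mem_filter.1 (List.mem_filter.1 h2).1).2
    rw [V5.cand_disjoint v h1] at this
    simp at this
  refine ⟨L, hmem, hnd, V5.cfg_cases _ List.filter_sublist (List.all_eq_true.2 fun x hx => ?_)⟩
  obtain ⟨n, hn, hnt⟩ := exists_move V h4 ((hmem x).2 hx)
  have hft : V.act n V5.et = x := by
    rw [← vec_t V, ← act_vec V hn (Base.S_le_N B (Base.t_mem B)), hnt]
  set l := (V5.inner ++ L).filter fun v => v != x && com V.p x v == (false, false) with hl
  set a := V.act n (V5.add V5.et V5.eP)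
  set b := V.act n (V5.add V5.et V5.eQ)
  obtain ⟨hp1, hp2, hp3⟩ := V5.inner_props V.p
  have hab : com V.p a b ≠ (false, false) := fun h => hp3 ((act_com_iff V hn _ _).1 h)
  have hnea : a ≠ b := fun h => by
    apply hab
    rw [h]
    simp [com, U2.add]
  have hlmem : ∀ v, v ∈ l ↔ v = a ∨ v = b := by
    intro v
    rw [hl, List.mem_filter, ← hmem, Bool.and_eq_true, bne_iff_ne, beq_iff_eq]
    constructor
    · rintro ⟨hv, hne, hc⟩
      obtain ⟨w, rfl⟩ := act_surj V hn v
      rw [act_Cl V hn h4] at hv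
      rw [← hft] at hc hne
      rw [act_com_iff V hn] at hc
      have hwt : com V.p w V5.et = (false, false) := by
        have := hc
        simp only [com, U2.add] at this ⊢
        revert this
        cases (cz V.p w V5.et).1 <;> cases (cz V.p w V5.et).2 <;> cases (cz V.p V5.et w).1 <;>
          cases (cz V.p V5.et w).2 <;> simp
      have hw := (Cl_low V h4 (V5.kernel_t _ _ hwt)).1 hv
      simp only [V5.inner, List.mem_cons, List.not_mem_nil, or_false] at hw
      rcases hw with rfl | rfl | rfl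
      · exact absurd rfl hne
      · exact Or.inl rfl
      · exact Or.inr rfl
    · rintro (rfl | rfl)
      · refine ⟨(act_Cl V hn h4 _).2 ((Cl_low V h4 rfl).2 (by decide)), fun h => ?_, ?_⟩
        · rw [← hft] at h
          exact absurd (act_inj V hn h) (by decide)
        · rw [← hft]; exact (act_com_iff V hn _ _).2 hp1
      · refine ⟨(act_Cl V hn h4 _).2 ((Cl_low V h4 rfl).2 (by decide)), fun h => ?_, ?_⟩
        · rw [← hft] at h
          exact absurd (act_inj V hn h) (by decide)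
        · rw [← hft]; exact (act_com_iff V hn _ _).2 hp2
  have hperm : l.Perm [a, b] := (List.perm_ext_iff_of_nodup (hnd.filter _)
    (by simp [hnea])).2 fun v => by rw [hlmem]; simp
  have hlen := hperm.length_eq
  obtain ⟨u, w, hl2⟩ : ∃ u w, l = [u, w] := List.length_eq_two.1 hlen
  refine Eq.trans ?_ (bne_iff_ne.2 (show com V.p u w ≠ (false, false) from ?_))
  · rw [hl2]
  rw [hl2] at hlmem hperm
  have hu := (hlmem u).1 List.mem_cons_self
  have hw := (hlmem w).1 (List.mem_cons_of_mem _ List.mem_cons_self)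
  have huw : u ≠ w := by
    have := hperm.nodup_iff.2 (by simp [hnea])
    simpa using this
  rcases hu with rfl | rfl <;> rcases hw with rfl | rfl
  · exact absurd rfl huw
  · exact hab
  · intro h
    apply hab
    simp only [com, U2.add] at h ⊢
    rw [← h]
    simp [Bool.xor_comm]
  · exact absurd rfl huw

end Vee

end Cfsg.Agent.Block.STwoSix
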