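import Cfsg.Agent.Lib.Block.STwoSix.VeeBasic
import Cfsg.Agent.Lib.Block.STwoSix.TwoSwap

/-!
Counting in the normaliser of `S` and in an overgroup of index two.
-/

set_option autoImplicit false
set_option linter.unusedSectionVars false
set_option synthInstance.maxSize 4096
set_option synthInstance.maxHeartbeats 400000
set_option maxRecDepth 8000

namespace Cfsg.Agent.Block.STwoSix

open Subgroup

namespace V5

/-- The fixed vectors. -/
def fixed (i : V5 × V5 × V5 × V5 × V5) : List V5 := all.filter fun v => lin i v == v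

/-- A criterion forbidding a large centraliser for class elements inducing the map. -/
def noFull (p : Par) (i : V5 × V5 × V5 × V5 × V5) : Bool :=
  ((fixed i).all fun v => (fixed i).all fun w => com p v w == (false, false)) ||
    (decide ((fixed i).length ≤ 8) && (com p (lin i eg) (lin i et) != (false, true) &&
      (fixed i).any fun r => ((fixed i).all fun w => com p r w == (false, false)) &&
        qu p r != (false, false)))

theorem com_symm : ∀ p : Par, ∀ v w : V5, com p v w = com p w v := fun p v w => by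
  simp [com, U2.add, Bool.xor_comm]

theorem add_split : ∀ u u' : U2, u.1 = u'.1 → u ≠ u' → U2.add u u' = (false, true) := by decide

end V5

variable {G : Type*} [Group G] [Finite G] {B : Base G}

namespace Vee

variable (V : Vee B)

/-- A character of the normaliser of `S`. -/
noncomputable def chr (i : V5) (x : G) : C8 := b8 (V5.dot i (V.vec x))

theorem chr_hom (i : V5) : HomOn8 B.N (V.chr i) := fun x hx y hy => by
  rw [chr, chr, chr, vec_mul V hx hy, V5.dot_add, b8_xor]

theorem mem_vec (x : G) (hx : x ∈ B.N) : ∃ u : U2, V.E (u, V.vec x) = x := by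
  obtain ⟨⟨u, v⟩, rfl⟩ := (V.range_N x).1 hx
  exact ⟨u, by rw [show ev7 B.z B.a B.t B.P B.Q V.g V.h (u, v) = V.E (u, v) from rfl, vec_E]⟩

theorem ncard_vec (l : List V5) (hl : l.Nodup) :
    {x | x ∈ B.N ∧ V.vec x ∈ l}.ncard = 4 * l.length := by
  classical
  have e : {x | x ∈ B.N ∧ V.vec x ∈ l} =
      V.E '' ↑((Finset.univ : Finset U2) ×ˢ l.toFinset) := by
    ext x
    constructor
    · rintro ⟨hx, hv⟩
      obtain ⟨u, hu⟩ := mem_vec V x hx
      exact ⟨(u, V.vec x), by simp [hv], hu⟩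
    · rintro ⟨⟨u, v⟩, huv, rfl⟩
      simp only [Finset.coe_product, Finset.coe_univ, Set.mem_prod, Set.mem_univ, true_and,
        Finset.mem_coe, List.mem_toFinset] at huv
      exact ⟨E_mem V _, by rw [vec_E]; exact huv⟩
  rw [e, Set.ncard_image_of_injective _ (fun a b h => V.E_inj h), Set.ncard_coe_finset,
    Finset.card_product, List.toFinset_card_of_nodup hl]
  rfl

variable (h4 : Four B)
include h4

theorem ncard_cls {X : List V5} (hX : ∀ v, V.Cl v ↔ v ∈ X) (hnd : X.Nodup) (p : V5 → Bool) :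
    {x | x ∈ B.N ∧ B.Cls x ∧ p (V.vec x) = true}.ncard = 4 * X.countP p := by
  rw [List.countP_eq_length_filter, ← ncard_vec V _ (hnd.filter p)]
  congr 1
  ext x
  simp only [Set.mem_ofPred_eq, List.mem_filter]
  exact ⟨fun ⟨h1, h2, h3⟩ => ⟨h1, (hX _).1 ((cls_N_iff V h4 h1).1 h2), h3⟩,
    fun ⟨h1, h2, h3⟩ => ⟨h1, (cls_N_iff V h4 h1).2 ((hX _).2 h2), h3⟩⟩

/-- An odd character inside the normaliser of `S`. -/
theorem odd_case {X : List V5} (hX : ∀ v, V.Cl v ↔ v ∈ X) (hnd : X.Nodup) {i : V5}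
    (hi : X.countP (V5.dot i) % 2 = 1) : ∃ H : Subgroup G, H.index = 2 := by
  obtain ⟨m, hm, hC⟩ := B.card_C
  have e : hits8 B.N (V.chr i) B.t =
      {x | x ∈ B.N ∧ B.Cls x ∧ V5.dot i (V.vec x) = true} := by
    ext x
    simp only [hits8, Set.mem_ofPred_eq, chr, b8_ne_one, Base.Cls]
  refine index_two_of_hits8 (Base.tt B) (chr_hom V i) (c := 5) (e := 2) hC hm (b := 1)
    (by rw [h4.card_N]; rfl) (m := X.countP (V5.dot i))
    (by rw [e, ncard_cls V h4 hX hnd]; rfl) (Nat.odd_iff.2 hi)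

set_option maxHeartbeats 800000 in
/-- Class elements outside the normaliser have small centralisers. -/
theorem no_full {X : List V5} (hX : ∀ v, V.Cl v ↔ v ∈ X) {x : G}
    (hn : ∀ y ∈ B.N, x * y * x⁻¹ ∈ B.N) (hxx : x * x ∈ B.N) (hxN : x ∉ B.N)
    {i : V5 × V5 × V5 × V5 × V5} (hact : ∀ v, V.act x v = V5.lin i v)
    (hfree : X.all (fun v => V5.lin i v != v) = true) (hcrit : V5.noFull V.p i = true)
    {y : G} (hy : y ∈ extSub B.N x hn hxx) (hyN : y ∉ B.N) (hc : B.Cls y) :
    Nat.card ↥(extSub B.N x hn hxx ⊓ centralizer ({y} : Set G)) ≤ 16 := by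
  classical
  set K := extSub B.N x hn hxx with hK
  have hKcard : Nat.card K = 256 := by rw [hK, card_extSub hxN, h4.card_N]
  have hKP : IsPGroup 2 K := IsPGroup.of_card (n := 8) (by rw [hKcard]; rfl)
  set C := B.N ⊓ centralizer ({y} : Set G) with hC
  set D := K ⊓ centralizer ({y} : Set G) with hD
  by_contra hbig
  push Not at hbig
  have hDcard : Nat.card D = 32 := by
    have hd : Nat.card D ∣ 32 := h4.card_cent_le hKP hc
    have hle := Nat.le_of_dvd (by norm_num) hd
    generalize Nat.card D = q at hd hle hbig ⊢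
    interval_cases q <;> first | rfl | (revert hd; decide)
  have hw : x⁻¹ * y ∈ B.N := hy.resolve_left hyN
  have hyn : ∀ z ∈ B.N, y * z * y⁻¹ ∈ B.N := by
    intro z hz
    have := hn _ (B.N.mul_mem (B.N.mul_mem hw hz) (B.N.inv_mem hw))
    rwa [show x * (x⁻¹ * y * z * (x⁻¹ * y)⁻¹) * x⁻¹ = y * z * y⁻¹ by group] at this
  have hfix : ∀ c ∈ C, V5.lin i (V.vec c) = V.vec c := by
    intro c hc'
    have h := mem_centralizer_singleton_iff.1 hc'.2
    have h1 : y * c * y⁻¹ = c := by rw [← h, mul_inv_cancel_right]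
    conv_rhs => rw [← h1]
    rw [act_vec V hyn hc'.1, ← hact]
    conv_rhs => rw [show y = x * (x⁻¹ * y) by group]
    rw [act_comp V hn (fun z hz => B.N.mul_mem (B.N.mul_mem hw hz) (B.N.inv_mem hw)),
      act_mem V hw]
  have hprod : ∀ a ∈ D, ∀ b ∈ D, a ∉ B.N → b ∉ B.N → a * b ∈ B.N := by
    intro a ha b hb haN hbN
    have ha' := ha.1.resolve_left haN
    have hb' := hb.1.resolve_left hbN
    rw [show a * b = x * (x⁻¹ * a) * x⁻¹ * (x * x) * (x⁻¹ * b) by group]
    exact B.N.mul_mem (B.N.mul_mem (hn _ ha') hxx) hb'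
  have hCD : C ≤ D := fun c hc' => ⟨le_extSub hc'.1, hc'.2⟩
  have hCle : Nat.card C ≤ 16 := by
    have hd := Subgroup.card_dvd_of_le hCD
    rw [hDcard] at hd
    have hne : Nat.card C ≠ 32 := fun h => hyN (by
      have he := Subgroup.eq_of_le_of_card_ge hCD (by rw [h, hDcard])
      have hyD : y ∈ D := ⟨hy, mem_centralizer_singleton_iff.2 rfl⟩
      rw [← he] at hyD
      exact hyD.1)
    have hle := Nat.le_of_dvd (by norm_num) hd
    generalize Nat.card C = q at hd hne hle ⊢
    interval_cases q <;> first | omega | (revert hd hne; decide)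
  have hCge : 16 ≤ Nat.card C := by
    have h : Nat.card D ≤ 2 * Nat.card C :=
      card_ext_inter (H := B.N) (x := x) (hn := hn) (hx := hxx) y
    omega
  obtain ⟨n, -, hnS⟩ := Base.exists_norm B hc hDcard
    fun z hz => mem_centralizer_singleton_iff.1 hz.2
  have hcl : ∀ u : M6, u.low = true → M6.inCl true u = true → n * B.E u * n⁻¹ ∉ B.N := by
    intro u hu hin hmem
    have hD' := (hnS _).1 (Base.E_mem B hu)
    have hcls : B.Cls (n * B.E u * n⁻¹) := Base.Cls_conj B ((h4.cls_low hu).2 hin) n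
    have hm := (hX _).1 ((cls_N_iff V h4 hmem).1 hcls)
    have := List.all_eq_true.1 hfree _ hm
    rw [bne_iff_ne] at this
    exact this (hfix _ ⟨hmem, hD'.2⟩)
  have hPQ : ∀ u : M6, u.low = true → M6.inCl true u = true → M6.inCl true M6.gt = true →
      n * B.E (M6.mul M6.gt u) * n⁻¹ ∈ C := by
    intro u hu hin ht
    have h1 := hprod _ ((hnS _).1 (Base.E_mem B (u := M6.gt) rfl)) _
      ((hnS _).1 (Base.E_mem B hu)) (hcl _ rfl ht) (hcl _ hu hin)
    rw [show n * B.E M6.gt * n⁻¹ * (n * B.E u * n⁻¹) = n * (B.E M6.gt * B.E u) * n⁻¹ by group,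
      Base.E_mul B rfl hu] at h1
    exact ⟨h1, ((hnS _).1 (Base.E_mem B (M6.low_mul _ _ rfl hu))).2⟩
  have hP := hPQ (M6.mul M6.gt M6.gP) rfl (by decide) (by decide)
  have hQ := hPQ (M6.mul M6.gt M6.gQ) rfl (by decide) (by decide)
  rw [show M6.mul M6.gt (M6.mul M6.gt M6.gP) = M6.gP by decide, Base.E_gP] at hP
  rw [show M6.mul M6.gt (M6.mul M6.gt M6.gQ) = M6.gQ by decide, Base.E_gQ] at hQ
  have hncomm : n * B.P * n⁻¹ * (n * B.Q * n⁻¹) ≠ n * B.Q * n⁻¹ * (n * B.P * n⁻¹) := by
    intro h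
    have h' : B.P * B.Q = B.Q * B.P := by
      have := congrArg (fun w => n⁻¹ * w * n) h
      simpa [mul_assoc] using this
    rw [← Base.E_gP B, ← Base.E_gQ B, Base.E_comm B rfl rfl] at h'
    exact absurd h' (by decide)
  have hmemfix : ∀ c ∈ C, V.vec c ∈ V5.fixed i := fun c hc' =>
    List.mem_filter.2 ⟨V5.mem_all _, by rw [beq_iff_eq]; exact hfix c hc'⟩
  rw [V5.noFull, Bool.or_eq_true] at hcrit
  rcases hcrit with hiso | hcrit
  · refine hncomm ?_
    obtain ⟨a, ha⟩ := mem_vec V _ hP.1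
    obtain ⟨b, hb⟩ := mem_vec V _ hQ.1
    have := List.all_eq_true.1 (List.all_eq_true.1 hiso _ (hmemfix _ hP)) _ (hmemfix _ hQ)
    rw [beq_iff_eq] at this
    rw [← ha, ← hb]
    exact (comm_iff V _ _).2 this
  · simp only [Bool.and_eq_true, decide_eq_true_eq, bne_iff_ne, List.any_eq_true,
      List.all_eq_true, beq_iff_eq] at hcrit
    obtain ⟨hlen, hamove, r, hr, hrcom, hrsq⟩ := hcrit
    have ha_notin : V.E ((false, true), V5.zero) ∉ C := by
      intro h
      have h' := mem_centralizer_singleton_iff.1 h.2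
      have h1 : y * V.E ((false, true), V5.zero) * y⁻¹ = V.E ((false, true), V5.zero) := by
        rw [← h', mul_inv_cancel_right]
      apply hamove
      have hcm : V.E (com V.p V5.eg V5.et, V5.zero) = V.E ((false, false), V5.eg) *
          V.E ((false, false), V5.et) * (V.E ((false, false), V5.eg))⁻¹ *
          (V.E ((false, false), V5.et))⁻¹ := by
        rw [E_conj, E_inv, E_mul]
        congr 1
        rw [(V5.u_moved V.p).2]
        obtain ⟨p1, p2, p3, p4⟩ := V.p
        simp [M7.mul, M7.inv, qu, cz, U2.add, V5.et, V5.add, V5.zero]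
      rw [(V5.u_moved V.p).2] at hcm
      rw [hcm, show y * (V.E ((false, false), V5.eg) *
          V.E ((false, false), V5.et) * (V.E ((false, false), V5.eg))⁻¹ *
          (V.E ((false, false), V5.et))⁻¹) * y⁻¹ =
        y * V.E ((false, false), V5.eg) * y⁻¹ * (y * V.E ((false, false), V5.et) * y⁻¹) *
          (y * V.E ((false, false), V5.eg) * y⁻¹)⁻¹ *
          (y * V.E ((false, false), V5.et) * y⁻¹)⁻¹ by group, ← hcm] at h1
      obtain ⟨a, ha⟩ := mem_vec V _ (hyn _ (E_mem V ((false, false), V5.eg)))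
      obtain ⟨b, hb⟩ := mem_vec V _ (hyn _ (E_mem V ((false, false), V5.et)))
      have hvv : ∀ v : V5, V.vec (y * V.E ((false, false), v) * y⁻¹) = V5.lin i v := by
        intro v
        rw [← hact, show V.vec (y * V.E ((false, false), v) * y⁻¹) = V.act y v from rfl]
        conv_lhs => rw [show y = x * (x⁻¹ * y) by group]
        rw [act_comp V hn (fun z hz => B.N.mul_mem (B.N.mul_mem hw hz) (B.N.inv_mem hw)),
          act_mem V hw]
      rw [hvv] at ha hb
      rw [← ha, ← hb, E_conj, E_inv, E_mul] at h1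
      have := congrArg Prod.fst (V.E_inj h1)
      obtain ⟨b1, b2⟩ := b
      simp only [M7.mul, M7.inv, U2.add, qu] at this
      rw [← this]
      generalize com V.p (V5.lin i V5.eg) (V5.lin i V5.et) = c
      generalize cz V.p (V5.lin i V5.et) (V5.lin i V5.et) = q
      obtain ⟨c1, c2⟩ := c
      obtain ⟨q1, q2⟩ := q
      cases b1 <;> cases b2 <;> cases c1 <;> cases c2 <;> cases q1 <;> cases q2 <;> rfl
    -- count
    choose f hf using fun c : C => mem_vec V c.1 c.2.1
    let F : C → {v // v ∈ (V5.fixed i).toFinset} × Bool :=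
      fun c => (⟨V.vec c.1, List.mem_toFinset.2 (hmemfix c.1 c.2)⟩, (f c).1)
    have hinj : Function.Injective F := by
      intro c c' e
      have e1 : V.vec c.1 = V.vec c'.1 := congrArg (fun z => z.1.1) e
      have e2 : (f c).1 = (f c').1 := congrArg Prod.snd e
      by_cases he : f c = f c'
      · exact Subtype.ext (by rw [← hf c, ← hf c', e1, he])
      exfalso
      refine ha_notin ?_
      have := C.mul_mem c.2 (C.inv_mem c'.2)
      rw [← hf c, ← hf c', E_inv, E_mul, ← e1] at this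
      convert this using 2
      have hs := V5.add_split _ _ e2 he
      revert hs
      generalize f c = a
      generalize f c' = b
      intro hs
      simp only [M7.mul, M7.inv, U2.add, qu, Prod.mk.injEq, V5.add_self, and_true] at hs ⊢
      obtain ⟨hs1, hs2⟩ := hs
      refine ⟨?_, ?_⟩
      · rw [← hs1]
        cases a.1 <;> cases b.1 <;> cases (cz V.p (V.vec c.1) (V.vec c.1)).1 <;> rfl
      · rw [← hs2]
        cases a.2 <;> cases b.2 <;> cases (cz V.p (V.vec c.1) (V.vec c.1)).2 <;> rfl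
    have hfix_nd : (V5.fixed i).Nodup := V5.all_nodup.filter _
    have hbij : Function.Bijective F := by
      rw [Nat.bijective_iff_injective_and_card]
      refine ⟨hinj, le_antisymm (Nat.card_le_card_of_injective F hinj) ?_⟩
      rw [Nat.card_prod, Nat.card_eq_fintype_card (α := Bool), Fintype.card_bool,
        Nat.card_eq_fintype_card, Fintype.card_coe, List.toFinset_card_of_nodup hfix_nd]
      omega
    obtain ⟨c, hcc⟩ := hbij.2 (⟨r, List.mem_toFinset.2 hr⟩, false)
    have hcr : V.vec c.1 = r := congrArg (fun z => z.1.1) hcc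
    have hccomm : ∀ d ∈ C, c.1 * d = d * c.1 := by
      intro d hd
      obtain ⟨a, ha⟩ := mem_vec V _ c.2.1
      obtain ⟨b, hb⟩ := mem_vec V _ hd.1
      rw [← ha, ← hb, hcr]
      exact (comm_iff V _ _).2 (hrcom _ (hmemfix _ hd))
    have hsq : c.1 * c.1 = 1 := by
      obtain ⟨u, hu, hue⟩ := (hnS (n⁻¹ * c.1 * n)).2 (by
        rw [show n * (n⁻¹ * c.1 * n) * n⁻¹ = c.1 by group]; exact hCD c.2)
      have key : ∀ w : G, n * w * n⁻¹ ∈ C → B.E u * w = w * B.E u := by
        intro w hw'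
        have := hccomm _ hw'
        rw [hue]
        calc n⁻¹ * c.1 * n * w = n⁻¹ * (c.1 * (n * w * n⁻¹)) * n := by group
          _ = n⁻¹ * (n * w * n⁻¹ * c.1) * n := by rw [this]
          _ = w * (n⁻¹ * c.1 * n) := by group
      have k1 := key _ hP
      have k2 := key _ hQ
      rw [← Base.E_gP B, Base.E_comm B hu rfl] at k1
      rw [← Base.E_gQ B, Base.E_comm B hu rfl] at k2
      have hs : u.sq1 = true := (show ∀ u : M6, u.low = true → M6.comm u M6.gP = true →
        M6.comm u M6.gQ = true → u.sq1 = true by decide +kernel) u hu k1 k2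
      have h1 : B.E u * B.E u = 1 := by
        rw [Base.E_mul B hu hu, of_decide_eq_true hs, Base.E_one]
      rw [show c.1 = n * B.E u * n⁻¹ by rw [hue]; group,
        show n * B.E u * n⁻¹ * (n * B.E u * n⁻¹) = n * (B.E u * B.E u) * n⁻¹ by group, h1]
      group
    obtain ⟨a, ha⟩ := mem_vec V _ c.2.1
    rw [← ha, sq_iff, hcr] at hsq
    exact hrsq hsq

/-- A character of an overgroup of index two. -/
theorem ext_case {X : List V5} (hX : ∀ v, V.Cl v ↔ v ∈ X) (hnd : X.Nodup) {x : G}
    (hn : ∀ y ∈ B.N, x * y * x⁻¹ ∈ B.N) {i : V5 × V5 × V5 × V5 × V5}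
    (hact : ∀ v, V.act x v = V5.lin i v)
    (hfree : X.all (fun v => V5.lin i v != v) = true) (hcrit : V5.noFull V.p i = true)
    (ht : V5.lin i V5.et ≠ V5.et) (ht2 : V5.lin i (V5.lin i V5.et) = V5.et)
    (hpres : ∀ v : V5, (V5.lin i v).1 = v.1) (hcount : (X.countP fun v => v.1) = 6) :
    ∃ H : Subgroup G, H.index = 2 := by
  have hxN : x ∉ B.N := fun h => ht (by rw [← hact, act_mem V h])
  have hn2 : ∀ y ∈ B.N, x * x * y * (x * x)⁻¹ ∈ B.N := by
    intro y hy
    rw [show x * x * y * (x * x)⁻¹ = x * (x * y * x⁻¹) * x⁻¹ by group]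
    exact hn _ (hn _ hy)
  have hxx : x * x ∈ B.N := mem_of_fix V hn2 h4 (by rw [act_comp V hn hn, hact, hact, ht2])
  set K := extSub B.N x hn hxx with hK
  have hKcard : Nat.card K = 256 := by rw [hK, card_extSub hxN, h4.card_N]
  have hKP : IsPGroup 2 K := IsPGroup.of_card (n := 8) (by rw [hKcard]; rfl)
  set ψ := V.chr V5.et with hψ
  have hval : ∀ v : V5, V5.dot V5.et v = v.1 := by decide +kernel
  have hinv : ∀ y ∈ B.N, ψ (x * y * x⁻¹) = ψ y := fun y hy => by
    rw [hψ, chr, chr, act_vec V hn hy, hact, hval, hval, hpres]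
  have hsq : (if (V.vec (x * x)).1 then e8 2 else 1) * (if (V.vec (x * x)).1 then e8 2 else 1) =
      ψ (x * x) := by
    rw [hψ, chr, hval]
    cases (V.vec (x * x)).1 <;> decide
  have hhom := homOn_extFun8 hn hxx hxN (chr_hom V V5.et) hinv hsq
  rw [← hK] at hhom
  set φ := extFun8 B.N x ψ (if (V.vec (x * x)).1 then e8 2 else 1) with hφ
  set Z := {y ∈ hits8 K φ B.t | y ∉ B.N}
  have hsplit : (hits8 K φ B.t).ncard = 24 + Z.ncard := by
    rw [show (24 : ℕ) = 4 * X.countP (fun v => v.1) by rw [hcount], ← ncard_cls V h4 hX hnd,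
      ← Set.ncard_union_eq (Set.disjoint_left.2 fun y ha hb => hb.2 ha.1)]
    congr 1
    ext y
    constructor
    · intro h
      by_cases hs : y ∈ B.N
      · refine Or.inl ⟨hs, h.2.1, ?_⟩
        have := h.2.2
        rw [hφ, extFun8_of_mem hs, hψ, chr, b8_ne_one, hval] at this
        exact this
      · exact Or.inr ⟨h, hs⟩
    · rintro (⟨hy, hc, hv⟩ | h)
      · refine ⟨le_extSub hy, hc, ?_⟩
        rw [hφ, extFun8_of_mem hy, hψ, chr, b8_ne_one, hval]
        exact hv
      · exact h.1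
  have hdvd : 2 ^ 4 ∣ Z.ncard := by
    refine pow_dvd_card_of_index hKP Z ?_ ?_
    · rintro r hr y ⟨⟨hy, hc, hne⟩, hyN⟩
      refine ⟨⟨K.mul_mem (K.mul_mem hr hy) (K.inv_mem hr), Base.Cls_conj B hc r,
        by rwa [hhom.map_conj hr hy]⟩, fun h => hyN ?_⟩
      have hr' := K.inv_mem hr
      rcases hr' with hh | hh
      · have := B.N.mul_mem (B.N.mul_mem hh h) (B.N.inv_mem hh)
        rwa [show r⁻¹ * (r * y * r⁻¹) * r⁻¹⁻¹ = y by group] at this
      · have := hn _ (B.N.mul_mem (B.N.mul_mem hh h) (B.N.inv_mem hh))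
        rwa [show x * (x⁻¹ * r⁻¹ * (r * y * r⁻¹) * (x⁻¹ * r⁻¹)⁻¹) * x⁻¹ = y by group] at this
    · rintro y ⟨⟨hy, hc, -⟩, hyN⟩
      have := no_full V h4 hX hn hxx hxN hact hfree hcrit hy hyN hc
      rw [hKcard]
      rw [← hK] at this
      omega
  obtain ⟨j, hj⟩ := hdvd
  obtain ⟨m, hm, hC⟩ := B.card_C
  exact index_two_of_hits8 (Base.tt B) hhom (c := 5) (e := 3) hC hm (b := 1)
    (by rw [hKcard]; rfl) (m := 3 + 2 * j) (by rw [hsplit, hj]; ring)
    (by rw [Nat.odd_iff]; omega)

end Vee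

end Cfsg.Agent.Block.STwoSix
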