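import Cfsg.Agent.Lib.Block.STwoSix.VeeSide

/-!
Elements moving `t` inside the class vectors, and the third exceptional configuration.
-/

set_option autoImplicit false
set_option linter.unusedSectionVars false
set_option synthInstance.maxSize 4096
set_option synthInstance.maxHeartbeats 400000
set_option maxRecDepth 8000

namespace Cfsg.Agent.Block.STwoSix

open Subgroup

namespace V5

/-- Images of the basis from those of `t`, `t P`, `t Q`, `t P g`, `t Q h`. -/
def move5 (x a b c d : V5) : V5 × V5 × V5 × V5 × V5 :=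
  (x, add a x, add b x, add c a, add d b)

/-- Images of the basis from those of `t`, `t P`, `t Q`, `g`, `t Q h`. -/
def move3 (x a b c d : V5) : V5 × V5 × V5 × V5 × V5 :=
  (x, add a x, add b x, c, add d b)

/-- The first action in the third exceptional configuration. -/
def five1 : V5 × V5 × V5 × V5 × V5 := (add et (add eg eh), add eQ eg, add eP eh, eh, eg)

/-- The second action in the third exceptional configuration. -/
def five2 : V5 × V5 × V5 × V5 × V5 := (add et (add eg eh), add eP eh, add eQ eg, eg, eh)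

theorem five_all : (cfg5.all fun a => cfg5.all fun b => cfg5.all fun c => cfg5.all fun d =>
    !okImg par5 cfg5 (move5 (add et (add eg eh)) a b c d) ||
      (decide (move5 (add et (add eg eh)) a b c d = five1) ||
        decide (move5 (add et (add eg eh)) a b c d = five2))) = true := by
  decide +kernel

/-- The action moving `t` to `t Q` in the second exceptional configuration. -/
def three : V5 × V5 × V5 × V5 × V5 := (add et eQ, eh, eQ, add eQ eg, eP)

theorem three_all : (cfg3.all fun a => cfg3.all fun b => cfg3.all fun c => cfg3.all fun d =>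
    !okImg par3 cfg3 (move3 (add et eQ) a b c d) ||
      decide (move3 (add et eQ) a b c d = three)) = true := by
  decide +kernel

theorem basis_split : eP = add (add et eP) et ∧ eQ = add (add et eQ) et ∧
    eg = add (add et (add eP eg)) (add et eP) ∧ eh = add (add et (add eQ eh)) (add et eQ) := by
  decide

end V5

variable {G : Type*} [Group G] [Finite G] {B : Base G}

namespace Vee

variable (V : Vee B) (h4 : Four B)
include h4

/-- An element moving `t` to a given class vector, with its action on `t P` and `t Q`. -/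
theorem move_spec {X : List V5} (hX : ∀ v, V.Cl v ↔ v ∈ X) {x : V5} (hx : x ∈ X) :
    ∃ n : G, (∀ y ∈ B.N, n * y * n⁻¹ ∈ B.N) ∧ V.act n V5.et = x := by
  obtain ⟨n, hn, hnt⟩ := exists_move V h4 ((hX x).2 hx)
  refine ⟨n, hn, ?_⟩
  rw [← vec_t V, ← act_vec V hn (Base.S_le_N B (Base.t_mem B)), hnt]

theorem five_case (hp : V.p = V5.par5) (hX : ∀ v, V.Cl v ↔ v ∈ V5.cfg5) :
    ∃ H : Subgroup G, H.index = 2 := by
  obtain ⟨n, hn, hnt⟩ := move_spec V h4 hX (x := V5.add V5.et (V5.add V5.eg V5.eh))
    (by decide +kernel)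
  have him : ∀ w ∈ V5.cfg5, V.act n w ∈ V5.cfg5 := fun w hw =>
    (hX _).1 ((act_Cl V hn h4 w).2 ((hX w).2 hw))
  obtain ⟨bP, bQ, bg, bh⟩ := V5.basis_split
  set a := V.act n (V5.add V5.et V5.eP) with ha
  set b := V.act n (V5.add V5.et V5.eQ) with hb
  set c := V.act n (V5.add V5.et (V5.add V5.eP V5.eg)) with hc
  set d := V.act n (V5.add V5.et (V5.add V5.eQ V5.eh)) with hd
  have hact : ∀ v, V.act n v = V5.lin (V5.move5 (V5.add V5.et (V5.add V5.eg V5.eh)) a b c d) v := by
    intro v
    rw [act_lin V hn v]
    congr 1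
    conv_lhs => rw [bP, bQ, bg, bh]
    rw [act_add V hn (V5.add V5.et (V5.add V5.eP V5.eg)) (V5.add V5.et V5.eP), act_add V hn (V5.add V5.et (V5.add V5.eQ V5.eh)) (V5.add V5.et V5.eQ),
      act_add V hn (V5.add V5.et V5.eP) V5.et, act_add V hn (V5.add V5.et V5.eQ) V5.et, hnt, ← ha, ← hb, ← hc, ← hd]
    rfl
  have hok := okImg_act V h4 hX hn hact
  rw [hp] at hok
  have h := List.all_eq_true.1 (List.all_eq_true.1 (List.all_eq_true.1 (List.all_eq_true.1
    V5.five_all a (him _ (by decide +kernel))) b (him _ (by decide +kernel))) c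
    (him _ (by decide +kernel))) d (him _ (by decide +kernel))
  rw [hok, Bool.not_true, Bool.false_or, Bool.or_eq_true, decide_eq_true_iff,
    decide_eq_true_iff] at h
  rcases h with h | h <;> rw [h] at hact <;>
    exact ext_case V h4 hX (by decide +kernel) hn hact (by decide +kernel)
      (by rw [hp]; decide +kernel) (by decide +kernel) (by decide +kernel) (by decide +kernel)
      (by decide +kernel)

theorem three_move (hp : V.p = V5.par3) (hX : ∀ v, V.Cl v ↔ v ∈ V5.cfg3) :
    ∃ n : G, (∀ y ∈ B.N, n * y * n⁻¹ ∈ B.N) ∧ ∀ v, V.act n v = V5.lin V5.three v := by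
  obtain ⟨n, hn, hnt⟩ := move_spec V h4 hX (x := V5.add V5.et V5.eQ) (by decide +kernel)
  have him : ∀ w ∈ V5.cfg3, V.act n w ∈ V5.cfg3 := fun w hw =>
    (hX _).1 ((act_Cl V hn h4 w).2 ((hX w).2 hw))
  obtain ⟨bP, bQ, -, bh⟩ := V5.basis_split
  set a := V.act n (V5.add V5.et V5.eP) with ha
  set b := V.act n (V5.add V5.et V5.eQ) with hb
  set c := V.act n V5.eg with hc
  set d := V.act n (V5.add V5.et (V5.add V5.eQ V5.eh)) with hd
  have hact : ∀ v, V.act n v = V5.lin (V5.move3 (V5.add V5.et V5.eQ) a b c d) v := by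
    intro v
    rw [act_lin V hn v]
    congr 1
    conv_lhs => rw [bP, bQ, bh]
    rw [act_add V hn (V5.add V5.et (V5.add V5.eQ V5.eh)) (V5.add V5.et V5.eQ),
      act_add V hn (V5.add V5.et V5.eP) V5.et, act_add V hn (V5.add V5.et V5.eQ) V5.et, hnt, ← ha, ← hb, ← hc, ← hd]
    rfl
  have hok := okImg_act V h4 hX hn hact
  rw [hp] at hok
  have h := List.all_eq_true.1 (List.all_eq_true.1 (List.all_eq_true.1 (List.all_eq_true.1
    V5.three_all a (him _ (by decide +kernel))) b (him _ (by decide +kernel))) c
    (him _ (by decide +kernel))) d (him _ (by decide +kernel))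
  rw [hok, Bool.not_true, Bool.false_or, decide_eq_true_iff] at h
  rw [h] at hact
  exact ⟨n, hn, hact⟩

end Vee

end Cfsg.Agent.Block.STwoSix
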