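import Cfsg.Agent.Lib.Block.STwoSix.VeeExt

/-!
The element `c g c⁻¹` when `g` fixes `P`, and the first exceptional configuration.
-/

set_option autoImplicit false
set_option linter.unusedSectionVars false
set_option synthInstance.maxSize 4096
set_option synthInstance.maxHeartbeats 400000
set_option maxRecDepth 8000

namespace Cfsg.Agent.Block.STwoSix

open Subgroup

namespace V5

/-- Five basis vectors. -/
def basis : List V5 := [et, eP, eQ, eg, eh]

/-- Necessary conditions on the images of the basis under a normalising element. -/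
def okImg (p : Par) (X : List V5) (i : V5 × V5 × V5 × V5 × V5) : Bool :=
  X.all (fun x => X.contains (lin i x)) &&
    (all.all (fun v => (qu p (lin i v) == (false, false)) == (qu p v == (false, false))) &&
    basis.all fun v => all.all fun w =>
      (com p (lin i v) (lin i w) == (false, false)) == (com p v w == (false, false)))

/-- The vectors without `Q`, `g`, `h`. -/
def A4 : List V5 := [zero, et, eP, add et eP]

theorem mem_A4 : ∀ i j : Bool, ((i, j, false, false, false) : V5) ∈ A4 := by decide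

/-- The possible images of the basis under `c g c⁻¹`. -/
def sideImg (a b c : V5) : V5 × V5 × V5 × V5 × V5 :=
  (add et eP, eP, add (add eQ (add eg eh)) a, add eg b, add eh c)

/-- The image of the basis in the first exceptional configuration. -/
def side0 : V5 × V5 × V5 × V5 × V5 :=
  (add et eP, eP, add eP (add eQ (add eg eh)), add eP eg, add eP eh)

/-- The image of the basis in the second exceptional configuration. -/
def side3 : V5 × V5 × V5 × V5 × V5 :=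
  (add et eP, eP, add (add et eP) (add eQ (add eg eh)), add eP eg, eh)

theorem side0_all : (A4.all fun a => A4.all fun b => A4.all fun c =>
    !okImg par0 cfg0 (sideImg a b c) || decide (sideImg a b c = side0)) = true := by
  decide +kernel

theorem side3_all : (A4.all fun a => A4.all fun b => A4.all fun c =>
    !okImg par3 cfg3 (sideImg a b c) || decide (sideImg a b c = side3)) = true := by
  decide +kernel

end V5

variable {G : Type*} [Group G] [Finite G] {B : Base G}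

namespace Vee

variable (V : Vee B)

theorem vec_low {u : M6} (hu : u.low = true) :
    V.vec (B.E u) = (u.bt, u.bP, u.bQ, false, false) := by
  obtain ⟨u1, u2, u3, u4, u5, u6⟩ := u
  simp only [M6.low, M6.bf, Bool.not_eq_true'] at hu
  subst hu
  have h := E_low V (v := (u3, u4, u5, false, false)) rfl (u1, u2)
  dsimp only at h
  rw [← h, vec_E]
  rfl

/-- Elements with the same action on `t, a, z, P`. -/
theorem agree {x w : G} (ht : x * B.t * x⁻¹ = w * B.t * w⁻¹) (ha : x * B.a * x⁻¹ = w * B.a * w⁻¹)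
    (hP : x * B.P * x⁻¹ = w * B.P * w⁻¹) (hz : x * B.z * x⁻¹ = w * B.z * w⁻¹) (hw : w ∈ B.N) :
    x ∈ B.N ∧ ∃ a ∈ V5.A4, V.vec x = V5.add (V.vec w) a := by
  have key : ∀ y : G, x * y * x⁻¹ = w * y * w⁻¹ → w⁻¹ * x * y = y * (w⁻¹ * x) := fun y h => by
    calc w⁻¹ * x * y = w⁻¹ * (x * y * x⁻¹) * x := by group
      _ = w⁻¹ * (w * y * w⁻¹) * x := by rw [h]
      _ = y * (w⁻¹ * x) := by group
  obtain ⟨u, hu, hQ, he⟩ := B.cent_A1 _ (key _ ht) (key _ ha) (key _ hP) (key _ hz)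
  change B.E u = w⁻¹ * x at he
  have hx : x = w * B.E u := by rw [he, mul_inv_cancel_left]
  have hm : B.E u ∈ B.N := Base.S_le_N B (Base.E_mem B hu)
  refine ⟨hx ▸ B.N.mul_mem hw hm, _, V5.mem_A4 u.bt u.bP, ?_⟩
  rw [hx, vec_mul V hw hm, vec_low V hu, hQ]

/-- The element `c g c⁻¹`. -/
def side : G := B.c * V.g * B.c⁻¹

theorem side_inv : (V.side)⁻¹ = V.side := by
  have h : V.g⁻¹ = V.g := inv_eq_of_mul_eq_one_right V.seven.gg
  rw [side, mul_inv_rev, mul_inv_rev, inv_inv, h, mul_assoc]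

variable (hα : V.p.1 = false)
include hα

theorem side_conj :
    V.side * B.t * (V.side)⁻¹ = B.P * B.t ∧ V.side * B.a * (V.side)⁻¹ = B.a ∧
      V.side * B.P * (V.side)⁻¹ = B.P ∧ V.side * B.z * (V.side)⁻¹ = B.z := by
  have hgP : V.g * B.P = B.P * V.g := by
    have := V.seven.gP
    rwa [hα, bp_false, one_mul] at this
  have hd : ∀ y : G, V.side * y * (V.side)⁻¹ =
      B.c * (V.g * (B.c⁻¹ * y * B.c) * V.g⁻¹) * B.c⁻¹ := fun y => by rw [side]; group
  have ha : B.c⁻¹ * B.a * B.c = B.P * B.z := by rw [← B.cPz]; group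
  have hP : B.c⁻¹ * B.P * B.c = B.a := by rw [← B.ca]; group
  have hPz : V.g * (B.P * B.z) * V.g⁻¹ = B.P * B.z := by
    rw [show V.g * (B.P * B.z) * V.g⁻¹ = V.g * B.P * V.g⁻¹ * (V.g * B.z * V.g⁻¹) by group,
      mul_inv_eq_iff_eq_mul.2 hgP, mul_inv_eq_iff_eq_mul.2 V.seven.gz]
  have ha' : V.side * B.a * (V.side)⁻¹ = B.a := by rw [hd, ha, hPz, B.cPz]
  have hP' : V.side * B.P * (V.side)⁻¹ = B.P := by
    rw [hd, hP, mul_inv_eq_iff_eq_mul.2 V.seven.ga, B.ca]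
  refine ⟨?_, ha', hP', ?_⟩
  · rw [hd, show B.c⁻¹ * B.t * B.c = B.t by (conv_lhs => rw [← Base.c_t B]); group,
      mul_inv_eq_iff_eq_mul.2 (show V.g * B.t = B.a * B.t * V.g by rw [mul_assoc]; exact V.seven.gt),
      show B.c * (B.a * B.t) * B.c⁻¹ = B.c * B.a * B.c⁻¹ * (B.c * B.t * B.c⁻¹) by group,
      B.ca, Base.c_t]
  · have hza : B.c⁻¹ * (B.z * B.a) * B.c = B.z * B.a := by
      have h : B.c * (B.z * B.a) * B.c⁻¹ = B.z * B.a := by
        rw [show B.c * (B.z * B.a) * B.c⁻¹ = B.c * B.z * B.c⁻¹ * (B.c * B.a * B.c⁻¹) by group,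
          Base.c_z, B.ca, mul_assoc _ B.a, ← B.five.Pa, ← mul_assoc, mul_assoc B.P, ← B.five.Pz,
          ← mul_assoc, B.five.PP, one_mul]
      (conv_lhs => rw [← h]); group
    have hz : B.c⁻¹ * B.z * B.c = B.z * B.a * (B.P * B.z) := by
      calc B.c⁻¹ * B.z * B.c = B.c⁻¹ * (B.z * B.a * B.a) * B.c := by
            rw [mul_assoc B.z, B.five.aa, mul_one]
        _ = B.c⁻¹ * (B.z * B.a) * B.c * (B.c⁻¹ * B.a * B.c) := by group
        _ = _ := by rw [hza, ha]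
    have hfix : V.g * (B.z * B.a * (B.P * B.z)) * V.g⁻¹ = B.z * B.a * (B.P * B.z) := by
      rw [show V.g * (B.z * B.a * (B.P * B.z)) * V.g⁻¹ =
        V.g * B.z * V.g⁻¹ * (V.g * B.a * V.g⁻¹) * (V.g * (B.P * B.z) * V.g⁻¹) by group, hPz,
        mul_inv_eq_iff_eq_mul.2 V.seven.gz, mul_inv_eq_iff_eq_mul.2 V.seven.ga]
    rw [hd, hz, hfix, ← hz]
    group

theorem side_gh : (∀ y ∈ B.N, V.side * y * (V.side)⁻¹ ∈ B.N) ∧
    V.act V.side V5.et = V5.add V5.et V5.eP ∧ V.act V.side V5.eP = V5.eP ∧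
    (∃ a ∈ V5.A4, V.act V.side V5.eQ = V5.add (V5.add V5.eQ (V5.add V5.eg V5.eh)) a) ∧
    (∃ a ∈ V5.A4, V.act V.side V5.eg = V5.add V5.eg a) ∧
    ∃ a ∈ V5.A4, V.act V.side V5.eh = V5.add V5.eh a := by
  obtain ⟨yt, ya, yP, yz⟩ := side_conj V hα
  set y := V.side with hy
  have hyi : y⁻¹ = y := side_inv V
  obtain ⟨e1, e2, e3, e4, e5, -, -⟩ := E_basic V
  have hS := Base.S_le_N B
  have s := V.seven
  -- images of conjugates
  have ci : ∀ (x u : G), y * x * y⁻¹ * u * (y * x * y⁻¹)⁻¹ = y * (x * (y * u * y⁻¹) * x⁻¹) * y⁻¹ :=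
    fun x u => by
      rw [show y * u * y⁻¹ = y⁻¹ * u * y by rw [hyi]]
      group
  have cm : ∀ x u v : G, x * (u * v) * x⁻¹ = x * u * x⁻¹ * (x * v * x⁻¹) := fun x u v => by group
  have c2 : ∀ x u v : G, x * u * v * (x * u)⁻¹ = x * (u * v * u⁻¹) * x⁻¹ := fun x u v => by group
  have cf : ∀ x u : G, x * u = u * x → x * u * x⁻¹ = u := fun x u h => mul_inv_eq_iff_eq_mul.2 h
  have g_t : V.g * B.t * V.g⁻¹ = B.a * B.t :=
    mul_inv_eq_iff_eq_mul.2 (by rw [mul_assoc]; exact s.gt)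
  have g_P : V.g * B.P * V.g⁻¹ = B.P := cf _ _ (by
    have := s.gP
    rwa [hα, bp_false, one_mul] at this)
  have h_t : V.h * B.t * V.h⁻¹ = B.z * B.a * B.t :=
    mul_inv_eq_iff_eq_mul.2 (by rw [mul_assoc]; exact s.ht)
  have Q_P : B.Q * B.P * B.Q⁻¹ = B.z * B.P :=
    mul_inv_eq_iff_eq_mul.2 (by rw [mul_assoc]; exact s.QP)
  have hPza : B.P * (B.z * B.a) = B.z * B.a * B.P := by
    rw [← mul_assoc, s.Pz, mul_assoc, s.Pa, mul_assoc]
  -- `g`
  obtain ⟨hgN, ag, hag, hgv⟩ := agree V (x := y * V.g * y⁻¹) (w := V.g)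
    (by rw [ci, yt, cm V.g, g_P, g_t, cm y, yP, cm y, ya, yt, ← mul_assoc B.a, ← s.Pa, mul_assoc,
      ← mul_assoc B.P, s.PP, one_mul])
    (by rw [ci, ya, cf _ _ s.ga, ya])
    (by rw [ci, yP, g_P, yP])
    (by rw [ci, yz, cf _ _ s.gz, yz]) (g_mem V)
  -- `h`
  obtain ⟨hhN, ah, hah, hhv⟩ := agree V (x := y * V.h * y⁻¹) (w := V.h)
    (by rw [ci, yt, cm V.h, cf _ _ s.hP, h_t, cm y, yP, cm y, cm y, ya, yz, yt,
      ← mul_assoc (B.z * B.a), ← hPza, mul_assoc B.P (B.z * B.a), ← mul_assoc B.P, s.PP, one_mul])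
    (by rw [ci, ya, cf _ _ s.ha, ya])
    (by rw [ci, yP, cf _ _ s.hP, yP])
    (by rw [ci, yz, cf _ _ s.hz, yz]) (h_mem V)
  -- `Q`
  obtain ⟨hQN, aq, haq, hqv⟩ := agree V (x := y * B.Q * y⁻¹) (w := B.Q * (V.g * V.h))
    (by
      have e : y * B.Q * y⁻¹ * B.t * (y * B.Q * y⁻¹)⁻¹ = B.z * B.t := by
        rw [ci, yt, cm B.Q, Q_P, cf _ _ s.Qt, cm y, cm y, yz, yP, yt, mul_assoc, ← mul_assoc B.P,
          s.PP, one_mul]
      rw [e, c2 B.Q, c2 V.g, h_t, cm V.g, cm V.g, g_t, cf _ _ s.ga, cf _ _ s.gz,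
        show B.z * B.a * (B.a * B.t) = B.z * (B.a * B.a) * B.t by group, s.aa, mul_one, cm B.Q,
        cf _ _ s.Qz, cf _ _ s.Qt])
    (by rw [ci, ya, cf _ _ s.Qa, ya, c2 B.Q, c2 V.g, cf _ _ s.ha, cf _ _ s.ga, cf _ _ s.Qa])
    (by rw [ci, yP, Q_P, cm y, yz, yP, c2 B.Q, c2 V.g, cf _ _ s.hP, g_P, Q_P])
    (by rw [ci, yz, cf _ _ s.Qz, yz, c2 B.Q, c2 V.g, cf _ _ s.hz, cf _ _ s.gz, cf _ _ s.Qz])
    (B.N.mul_mem (hS (Base.Q_mem B)) (B.N.mul_mem (g_mem V) (h_mem V)))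
  have hn : ∀ x ∈ B.N, y * x * y⁻¹ ∈ B.N := by
    intro x hx
    obtain ⟨u, rfl⟩ := (V.range_N x).1 hx
    have hK : ∀ z : G, z ∈ B.N.comap (MulAut.conj y).toMonoidHom ↔ y * z * y⁻¹ ∈ B.N :=
      fun z => Iff.rfl
    refine (hK _).1 ?_
    refine mul_mem (bp_mem ((hK _).2 ?_) _) (mul_mem (bp_mem ((hK _).2 ?_) _)
      (mul_mem (bp_mem ((hK _).2 ?_) _) (mul_mem (bp_mem ((hK _).2 ?_) _)
      (mul_mem (bp_mem ((hK _).2 ?_) _) (mul_mem (bp_mem ((hK _).2 ?_) _)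
      (bp_mem ((hK _).2 ?_) _))))))
    · rw [yz]; exact hS (Base.z_mem B)
    · rw [ya]; exact hS (Base.a_mem B)
    · rw [yt]; exact B.N.mul_mem (hS (Base.P_mem B)) (hS (Base.t_mem B))
    · rw [yP]; exact hS (Base.P_mem B)
    · exact hQN
    · exact hgN
    · exact hhN
  have hv : V.vec B.P = V5.eP := by rw [← e2, vec_E]
  refine ⟨hn, ?_, ?_, ⟨aq, haq, ?_⟩, ⟨ag, hag, ?_⟩, ⟨ah, hah, ?_⟩⟩
  · rw [act, e1, yt, vec_mul V (hS (Base.P_mem B)) (hS (Base.t_mem B)), vec_t, hv]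
    rfl
  · rw [act, e2, yP, hv]
  · rw [act, e3, hqv, vec_mul V (hS (Base.Q_mem B)) (B.N.mul_mem (g_mem V) (h_mem V)),
      vec_mul V (g_mem V) (h_mem V), ← e3, ← e4, ← e5, vec_E, vec_E, vec_E]
  · rw [act, e4, hgv, ← e4, vec_E]
  · rw [act, e5, hhv, ← e5, vec_E]

end Vee

namespace Vee

variable (V : Vee B) (h4 : Four B)
include h4

/-- Necessary conditions on the action of a normalising element. -/
theorem okImg_act {X : List V5} (hX : ∀ v, V.Cl v ↔ v ∈ X) {n : G}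
    (hn : ∀ y ∈ B.N, n * y * n⁻¹ ∈ B.N) {i : V5 × V5 × V5 × V5 × V5}
    (hact : ∀ v, V.act n v = V5.lin i v) : V5.okImg V.p X i = true := by
  simp only [V5.okImg, Bool.and_eq_true, List.all_eq_true, beq_iff_eq, List.contains_iff_mem,
    ← hact]
  refine ⟨fun x hx => (hX _).1 ((act_Cl V hn h4 x).2 ((hX x).2 hx)), fun v _ => ?_,
    fun v _ w _ => ?_⟩
  · rw [Bool.eq_iff_iff, beq_iff_eq, beq_iff_eq]
    exact act_qu_iff V hn v
  · rw [Bool.eq_iff_iff, beq_iff_eq, beq_iff_eq]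
    exact act_com_iff V hn v w

/-- The action of `c g c⁻¹`. -/
theorem side_act {X : List V5} (hX : ∀ v, V.Cl v ↔ v ∈ X) (hα : V.p.1 = false) :
    (∀ y ∈ B.N, V.side * y * (V.side)⁻¹ ∈ B.N) ∧ ∃ a ∈ V5.A4, ∃ b ∈ V5.A4, ∃ c ∈ V5.A4,
      (∀ v, V.act V.side v = V5.lin (V5.sideImg a b c) v) ∧
      V5.okImg V.p X (V5.sideImg a b c) = true := by
  obtain ⟨hn, e1, e2, ⟨a, ha, e3⟩, ⟨b, hb, e4⟩, ⟨c, hc, e5⟩⟩ := side_gh V hα
  have hact : ∀ v, V.act V.side v = V5.lin (V5.sideImg a b c) v := fun v => by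
    rw [act_lin V hn v, e1, e2, e3, e4, e5]
    rfl
  exact ⟨hn, a, ha, b, hb, c, hc, hact, okImg_act V h4 hX hn hact⟩

theorem side_par0 (hp : V.p = V5.par0) (hX : ∀ v, V.Cl v ↔ v ∈ V5.cfg0) :
    ∃ H : Subgroup G, H.index = 2 := by
  obtain ⟨hn, a, ha, b, hb, c, hc, hact, hok⟩ := side_act V h4 hX (by rw [hp]; rfl)
  rw [hp] at hok
  have h := List.all_eq_true.1 (List.all_eq_true.1 (List.all_eq_true.1 V5.side0_all a ha) b hb) c hc
  rw [hok, Bool.not_true, Bool.false_or, decide_eq_true_iff] at h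
  rw [h] at hact
  exact ext_case V h4 hX (by decide +kernel) hn hact (by decide +kernel)
    (by rw [hp]; decide +kernel) (by decide +kernel) (by decide +kernel) (by decide +kernel)
    (by decide +kernel)

end Vee

end Cfsg.Agent.Block.STwoSix
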