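import Cfsg.Agent.Lib.Block.STwoSix.VeeMove

/-!
The second exceptional configuration: a character of an overgroup of index four.
-/

set_option autoImplicit false
set_option linter.unusedSectionVars false
set_option synthInstance.maxSize 4096
set_option synthInstance.maxHeartbeats 400000
set_option maxRecDepth 8000

namespace Cfsg.Agent.Block.STwoSix

open Subgroup

namespace V5

/-- The conjugate of `side3` by `three`. -/
def conj3 (v : V5) : V5 := lin three (lin side3 (lin three v))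

theorem three_facts : ∀ v : V5, dot (add et eg) (lin side3 v) = dot (add et eg) v ∧
    dot (add et eg) (lin three v) = dot (add et eg) v ∧
    (lin side3 v = v → dot (add et eg) v = false) ∧
    lin side3 (lin side3 v) = v ∧ lin three (lin three v) = v := by
  decide +kernel

theorem three_orbit : lin side3 et ≠ et ∧ conj3 et ≠ et ∧ lin side3 (conj3 et) ≠ et ∧
    conj3 (lin side3 et) ≠ et ∧ lin three et ≠ et ∧ lin side3 (lin three et) ≠ et ∧
    conj3 (lin three et) ≠ et ∧ lin side3 (conj3 (lin three et)) ≠ et ∧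
    lin side3 (conj3 (lin side3 (conj3 et))) = et := by
  decide +kernel

theorem h_not_comm : ∀ a ∈ A4, com par3 eg (add eh a) ≠ (false, false) := by decide +kernel

theorem side3_fixed : (fixed side3).Nodup ∧ (fixed side3).length = 8 ∧ eh ∈ fixed side3 := by
  decide +kernel

end V5

variable {G : Type*} [Group G] [Finite G] {B : Base G}

namespace Vee

variable (V : Vee B)

/-- `r` fixes the coset `x N` and the character on it. -/
def Tw (x : G) (ψ : G → C8) (r : G) : Prop :=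
  (∀ w ∈ B.N, r * w * r⁻¹ ∈ B.N) ∧ x⁻¹ * r * x * r⁻¹ ∈ B.N ∧ ψ (x⁻¹ * r * x * r⁻¹) = 1 ∧
    ∀ w ∈ B.N, ψ (r * w * r⁻¹) = ψ w

theorem Tw.mul {x : G} {ψ : G → C8} (hψ : HomOn8 B.N ψ) {r s : G} (hr : Tw (B := B) x ψ r)
    (hs : Tw (B := B) x ψ s) : Tw (B := B) x ψ (r * s) := by
  have hc : ∀ w : G, r * s * w * (r * s)⁻¹ = r * (s * w * s⁻¹) * r⁻¹ := fun w => by group
  have e : x⁻¹ * (r * s) * x * (r * s)⁻¹ =
      x⁻¹ * r * x * r⁻¹ * (r * (x⁻¹ * s * x * s⁻¹) * r⁻¹) := by group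
  refine ⟨fun w hw => ?_, ?_, ?_, fun w hw => ?_⟩
  · rw [hc]; exact hr.1 _ (hs.1 w hw)
  · rw [e]; exact B.N.mul_mem hr.2.1 (hr.1 _ hs.2.1)
  · rw [e, hψ _ hr.2.1 _ (hr.1 _ hs.2.1), hr.2.2.1, hr.2.2.2 _ hs.2.1, hs.2.2.1, one_mul]
  · rw [hc, hr.2.2.2 _ (hs.1 w hw), hs.2.2.2 w hw]

variable (h4 : Four B)
include h4

set_option maxHeartbeats 1600000 in
theorem three_case (hp : V.p = V5.par3) (hX : ∀ v, V.Cl v ↔ v ∈ V5.cfg3) :
    ∃ H : Subgroup G, H.index = 2 := by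
  classical
  obtain ⟨hny, a, ha, b, hb, c, hc, hact, hok⟩ := side_act V h4 hX (by rw [hp]; rfl)
  rw [hp] at hok
  have h := List.all_eq_true.1 (List.all_eq_true.1 (List.all_eq_true.1 V5.side3_all a ha) b hb) c hc
  rw [hok, Bool.not_true, Bool.false_or, decide_eq_true_iff] at h
  rw [h] at hact
  clear hok h ha hb hc a b c
  obtain ⟨n, hnn, hactn⟩ := three_move V h4 hp hX
  obtain ⟨o1, o2, o3, o4, o5, o6, o7, o8, o9⟩ := V5.three_orbit
  set y := V.side with hydef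
  have hyi : y⁻¹ = y := side_inv V
  have hyy : y * y = 1 := inv_eq_iff_mul_eq_one.1 hyi
  set y' := n * y * n⁻¹ with hy'
  have hyi' : y'⁻¹ = y' := by rw [hy', mul_inv_rev, mul_inv_rev, inv_inv, hyi, mul_assoc]
  have hyy' : y' * y' = 1 := by rw [hy', show n * y * n⁻¹ * (n * y * n⁻¹) = n * (y * y) * n⁻¹ by group,
    hyy, mul_one, mul_inv_cancel]
  have hni : ∀ w ∈ B.N, n⁻¹ * w * n⁻¹⁻¹ ∈ B.N := fun w hw => by
    rw [inv_inv]; exact hn_inv hnn w hw
  have hny' : ∀ w ∈ B.N, y' * w * y'⁻¹ ∈ B.N := by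
    intro w hw
    rw [show y' * w * y'⁻¹ = n * (y * (n⁻¹ * w * n⁻¹⁻¹) * y⁻¹) * n⁻¹ by rw [hy']; group]
    exact hnn _ (hny _ (hni w hw))
  have hactni : ∀ v, V.act n⁻¹ v = V5.lin V5.three v := by
    intro v
    have h1 : V5.lin V5.three (V.act n⁻¹ v) = v := by
      rw [← hactn, ← act_comp V hnn hni, mul_inv_cancel, act_mem V B.N.one_mem]
    conv_rhs => rw [← h1]
    exact (V5.three_facts _).2.2.2.2.symm
  have hactn' : ∀ v, V.act y' v = V5.conj3 v := by
    intro v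
    have hnyn : ∀ w ∈ B.N, (y * n⁻¹) * w * (y * n⁻¹)⁻¹ ∈ B.N := fun w hw => by
      rw [show (y * n⁻¹) * w * (y * n⁻¹)⁻¹ = y * (n⁻¹ * w * n⁻¹⁻¹) * y⁻¹ by group]
      exact hny _ (hni w hw)
    rw [hy', mul_assoc, act_comp V hnn hnyn, act_comp V hny hni, hactn, hact, hactni]
    rfl
  -- the character
  set ψ := V.chr (V5.add V5.et V5.eg) with hψdef
  have hψ : HomOn8 B.N ψ := chr_hom V _
  have hψinv : ∀ (r : G) (L : V5 → V5), (∀ w ∈ B.N, r * w * r⁻¹ ∈ B.N) →
      (∀ v, V.act r v = L v) →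
      (∀ v, V5.dot (V5.add V5.et V5.eg) (L v) = V5.dot (V5.add V5.et V5.eg) v) →
      ∀ w ∈ B.N, ψ (r * w * r⁻¹) = ψ w := fun r L hr hL hd w hw => by
    rw [hψdef, chr, chr, act_vec V hr hw, hL, hd]
  have hψy := hψinv y _ hny hact fun v => (V5.three_facts v).1
  have hψn := hψinv n _ hnn hactn fun v => (V5.three_facts v).2.1
  have hψy' := hψinv y' _ hny' hactn' fun v => by
    rw [V5.conj3, (V5.three_facts _).2.1, (V5.three_facts _).1, (V5.three_facts _).2.1]
  have hψfix : ∀ w ∈ B.N, y * w * y⁻¹ = w⁻¹ → ψ w = 1 := by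
    intro w hw h
    have h1 : V5.lin V5.side3 (V.vec w) = V.vec w := by
      rw [← hact, ← act_vec V hny hw, h, vec_inv V hw]
    rw [hψdef, chr, (V5.three_facts _).2.2.1 h1]
    rfl
  -- the cosets are different
  have hnc : ∀ (r : G) (L : V5 → V5), (∀ v, V.act r v = L v) → L V5.et ≠ V5.et → r ∉ B.N :=
    fun r L hL hne hr => hne (by rw [← hL, act_mem V hr])
  have hy0 : y ∉ B.N := hnc y _ hact o1
  have hy'0 : y' ∉ B.N := hnc y' _ hactn' o2
  have hyy0 : y * y' ∉ B.N := hnc (y * y') (fun v => V5.lin V5.side3 (V5.conj3 v))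
    (fun v => by rw [act_comp V hny hny', hact, hactn']) o3
  have hyy1 : y' * y ∉ B.N := hnc (y' * y) (fun v => V5.conj3 (V5.lin V5.side3 v))
    (fun v => by rw [act_comp V hny' hny, hactn', hact]) o4
  have hnormy : ∀ w ∈ B.N, (y * y') * w * (y * y')⁻¹ ∈ B.N := fun w hw => by
    rw [show (y * y') * w * (y * y')⁻¹ = y * (y' * w * y'⁻¹) * y⁻¹ by group]
    exact hny _ (hny' w hw)
  set d := y * y' * (y * y') with hd
  have hdN : d ∈ B.N := by
    refine mem_of_fix V (fun w hw => ?_) h4 ?_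
    · rw [hd, show y * y' * (y * y') * w * (y * y' * (y * y'))⁻¹ =
        y * y' * (y * y' * w * (y * y')⁻¹) * (y * y')⁻¹ by group]
      exact hnormy _ (hnormy w hw)
    · rw [hd, act_comp V hnormy hnormy, act_comp V hny hny', act_comp V hny hny', hact, hact,
        hactn', hactn', o9]
  have hdinv : y * d * y⁻¹ = d⁻¹ := by
    rw [hd, hyi, mul_inv_rev, mul_inv_rev, hyi, hyi']
    calc y * (y * y' * (y * y')) * y = y * y * (y' * y * y' * y) := by group
      _ = _ := by rw [hyy, one_mul]; group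
  have hψd : ψ d = 1 := hψfix d hdN hdinv
  have hyyN : y * y ∈ B.N := by rw [hyy]; exact B.N.one_mem
  set K' := extSub B.N y hny hyyN with hK'
  have hK'card : Nat.card K' = 256 := by rw [hK', card_extSub hy0, h4.card_N]
  have hyK' : y ∈ K' := self_mem_extSub
  have hK'norm : ∀ k ∈ K', ∀ w ∈ B.N, k * w * k⁻¹ ∈ B.N := by
    intro k hk w hw
    rcases hk with hk | hk
    · exact B.N.mul_mem (B.N.mul_mem hk hw) (B.N.inv_mem hk)
    · have := hny _ (B.N.mul_mem (B.N.mul_mem hk hw) (B.N.inv_mem hk))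
      rwa [show y * (y⁻¹ * k * w * (y⁻¹ * k)⁻¹) * y⁻¹ = k * w * k⁻¹ by group] at this
  set φ0 := extFun8 B.N y ψ i8 with hφ0
  have hhom0 : HomOn8 K' φ0 :=
    homOn_extFun8 hny hyyN hy0 hψ hψy (by rw [i8_sq, hyy, hψ.map_one])
  have hφ0y : φ0 y = i8 := by
    rw [hφ0, extFun8_of_not_mem hy0, inv_mul_cancel, hψ.map_one, mul_one]
  have hcomm : y⁻¹ * y' * y * y'⁻¹ = d := by rw [hd, hyi, hyi']; group
  have hnK' : ∀ k ∈ K', y' * k * y'⁻¹ ∈ K' := by
    intro k hk
    rcases hk with hk | hk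
    · exact Or.inl (hny' k hk)
    · refine Or.inr ?_
      rw [show y⁻¹ * (y' * k * y'⁻¹) = y⁻¹ * y' * y * y'⁻¹ * (y' * (y⁻¹ * k) * y'⁻¹) by group,
        hcomm]
      exact B.N.mul_mem hdN (hny' _ hk)
  have hy'y' : y' * y' ∈ K' := by rw [hyy']; exact K'.one_mem
  have hy'K' : y' ∉ K' := fun h => by
    rcases h with h | h
    · exact hy'0 h
    · rw [hyi] at h; exact hyy0 h
  set K := extSub K' y' hnK' hy'y' with hK
  have hKcard : Nat.card K = 512 := by rw [hK, card_extSub hy'K', hK'card]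
  have hy'K : y' ∈ K := self_mem_extSub
  have hyK : y ∈ K := le_extSub hyK'
  have hNK : ∀ w ∈ B.N, w ∈ K := fun w hw => le_extSub (le_extSub hw)
  set φ := extFun8 K' y' φ0 1 with hφ
  have hinv0 : ∀ k ∈ K', φ0 (y' * k * y'⁻¹) = φ0 k := by
    intro k hk
    rcases hk with hk | hk
    · rw [hφ0, extFun8_of_mem hk, extFun8_of_mem (hny' k hk), hψy' k hk]
    · have hkK : k = y * (y⁻¹ * k) := (mul_inv_cancel_left _ _).symm
      rw [hkK, show y' * (y * (y⁻¹ * k)) * y'⁻¹ =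
          y * ((y⁻¹ * y' * y * y'⁻¹) * (y' * (y⁻¹ * k) * y'⁻¹)) by group, hcomm,
        hhom0 _ hyK' _ (le_extSub (B.N.mul_mem hdN (hny' _ hk))),
        hhom0 _ hyK' _ (le_extSub hk), hφ0, extFun8_of_mem (B.N.mul_mem hdN (hny' _ hk)),
        extFun8_of_mem hk, hψ _ hdN _ (hny' _ hk), hψd, one_mul, hψy' _ hk]
  have hhom : HomOn8 K φ := homOn_extFun8 hnK' hy'y' hy'K' hhom0 hinv0
    (by rw [mul_one, hyy', hhom0.map_one])
  have hφN : ∀ w ∈ B.N, φ w = ψ w := fun w hw => by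
    rw [hφ, extFun8_of_mem (H := K') (le_extSub hw), hφ0, extFun8_of_mem hw]
  have hφy : φ y = i8 := by rw [hφ, extFun8_of_mem hyK', hφ0y]
  have hφy' : φ y' = 1 := by
    rw [hφ, extFun8_of_not_mem hy'K', inv_mul_cancel, hhom0.map_one, one_mul]
  set x := y' * y with hx
  have hxK : x ∈ K := K.mul_mem hy'K hyK
  have hcases : ∀ k ∈ K, k ∈ B.N ∨ y⁻¹ * k ∈ B.N ∨ y'⁻¹ * k ∈ B.N ∨ x⁻¹ * k ∈ B.N := by
    rintro k ((hk | hk) | (hk | hk))
    · exact Or.inl hk
    · exact Or.inr (Or.inl hk)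
    · exact Or.inr (Or.inr (Or.inl hk))
    · refine Or.inr (Or.inr (Or.inr ?_))
      rwa [hx, mul_inv_rev, mul_assoc]
  -- the coset of `y`
  have hfixB : ∀ k, y⁻¹ * k ∈ B.N → B.Cls k →
      V5.lin V5.side3 (V.vec (y⁻¹ * k)) = V.vec (y⁻¹ * k) ∧ ψ (y⁻¹ * k) = 1 := by
    intro k hk hc
    have hkk := Base.Cls_sq B hc
    have h1 : y * (y⁻¹ * k) * y⁻¹ = (y⁻¹ * k)⁻¹ := by
      rw [mul_inv_cancel_left, mul_inv_rev, inv_inv, hyi, inv_eq_of_mul_eq_one_right hkk]
    exact ⟨by rw [← hact, ← act_vec V hny hk, h1, vec_inv V hk], hψfix _ hk h1⟩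
  set S1 := {k : G | y⁻¹ * k ∈ B.N ∧ B.Cls k} with hS1
  have hgcls : B.Cls V.g := by
    have : V.Cl V5.eg := (hX _).2 (by decide +kernel)
    rwa [Cl, (E_basic V).2.2.2.1] at this
  have hne : y ∈ S1 := ⟨by rw [inv_mul_cancel]; exact B.N.one_mem, Base.Cls_conj B hgcls B.c⟩
  have hdvd1 : 2 ^ 4 ∣ S1.ncard := by
    refine pow_dvd_card_of_index (IsPGroup.of_card (n := 8) (by rw [hK'card]; rfl)) S1 ?_ ?_
    · rintro r hr k ⟨hk, hc⟩
      have hkK : k ∈ K' := Or.inr hk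
      refine ⟨(K'.mul_mem (K'.mul_mem hr hkK) (K'.inv_mem hr)).resolve_left fun h => ?_,
        Base.Cls_conj B hc r⟩
      have := hK'norm _ (K'.inv_mem hr) _ h
      rw [show r⁻¹ * (r * k * r⁻¹) * r⁻¹⁻¹ = k by group] at this
      exact hy0 (by simpa using B.N.mul_mem this (B.N.inv_mem hk))
    · rintro k ⟨hk, hc⟩
      have hkN : k ∉ B.N := fun h => hy0 (by simpa using B.N.mul_mem h (B.N.inv_mem hk))
      have := no_full V h4 hX hny hyyN hy0 hact (by decide +kernel) (by rw [hp]; decide +kernel)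
        (show k ∈ extSub B.N y hny hyyN from Or.inr hk) hkN hc
      rw [hK'card]
      rw [← hK'] at this
      omega
  have hlt : S1.ncard ≤ 31 := by
    set F := ((Finset.univ : Finset U2) ×ˢ (V5.fixed V5.side3).toFinset).erase ((false, false), V5.eh)
    have hsub : S1 ⊆ (fun u : M7 => y * V.E u) '' ↑F := by
      rintro k ⟨hk, hc⟩
      obtain ⟨u, hu⟩ := mem_vec V _ hk
      refine ⟨(u, V.vec (y⁻¹ * k)), Finset.mem_coe.2 (Finset.mem_erase.2 ⟨fun e => ?_,
        Finset.mem_product.2 ⟨Finset.mem_univ _, List.mem_toFinset.2 (List.mem_filter.2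
          ⟨V5.mem_all _, beq_iff_eq.2 (hfixB k hk hc).1⟩)⟩⟩), ?_⟩
      · rw [e, (E_basic V).2.2.2.2.1] at hu
        have hk' : k = y * V.h := by rw [hu, mul_inv_cancel_left]
        have hs := Base.Cls_sq B hc
        rw [hk'] at hs
        have h1 : y * V.h * y⁻¹ = V.h := by
          rw [hyi]
          calc y * V.h * y = y * V.h * (y * V.h) * V.h⁻¹ := by group
            _ = V.h := by rw [hs, one_mul, inv_eq_of_mul_eq_one_right V.seven.hh]
        set u := B.c⁻¹ * V.h * B.c with hu'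
        have hgu : V.g * u = u * V.g := by
          refine mul_inv_eq_iff_eq_mul.1 ?_
          calc V.g * u * V.g⁻¹ = B.c⁻¹ * (y * V.h * y⁻¹) * B.c := by
                rw [hu', hydef, side]; group
            _ = u := by rw [h1]
        have hcz' : B.c⁻¹ * (B.P * B.z * B.a) * B.c = B.z := by rw [← Base.c_z]; group
        have hct' : B.c⁻¹ * B.t * B.c = B.t := by (conv_lhs => rw [← Base.c_t B]); group
        have s := V.seven
        have cf : ∀ p q : G, p * q = q * p → p * q * p⁻¹ = q :=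
          fun p q h => mul_inv_eq_iff_eq_mul.2 h
        have cd : ∀ q : G, u * q * u⁻¹ = B.c⁻¹ * (V.h * (B.c * q * B.c⁻¹) * V.h⁻¹) * B.c :=
          fun q => by rw [hu']; group
        obtain ⟨huN, a', ha', hv⟩ := agree V (x := u) (w := V.h)
          (by
            have hzat : B.c * (B.z * B.a * B.t) * B.c⁻¹ = B.z * B.a * B.t := by
              rw [show B.c * (B.z * B.a * B.t) * B.c⁻¹ =
                B.c * B.z * B.c⁻¹ * (B.c * B.a * B.c⁻¹) * (B.c * B.t * B.c⁻¹) by group,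
                Base.c_z, B.ca, Base.c_t, mul_assoc _ B.a, ← B.five.Pa, ← mul_assoc,
                mul_assoc B.P, ← B.five.Pz, ← mul_assoc, B.five.PP, one_mul]
            rw [cd, Base.c_t, mul_inv_eq_iff_eq_mul.2
              (show V.h * B.t = B.z * B.a * B.t * V.h by rw [mul_assoc]; exact s.ht)]
            conv_lhs => rw [← hzat]
            group)
          (by rw [cd, B.ca, cf _ _ s.hP, ← B.ca, cf _ _ s.ha]; group)
          (by
            rw [cd, B.cP, show V.h * (B.P * B.z) * V.h⁻¹ = B.P * B.z by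
              rw [show V.h * (B.P * B.z) * V.h⁻¹ = V.h * B.P * V.h⁻¹ * (V.h * B.z * V.h⁻¹) by
                group, cf _ _ s.hP, cf _ _ s.hz], cf _ _ s.hP, ← B.cP]
            group)
          (by
            rw [cd, Base.c_z, show V.h * (B.P * B.z * B.a) * V.h⁻¹ = B.P * B.z * B.a by
              rw [show V.h * (B.P * B.z * B.a) * V.h⁻¹ =
                V.h * B.P * V.h⁻¹ * (V.h * B.z * V.h⁻¹) * (V.h * B.a * V.h⁻¹) by group,
                cf _ _ s.hP, cf _ _ s.hz, cf _ _ s.ha], cf _ _ s.hz, hcz'])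
          (h_mem V)
        obtain ⟨w, hw⟩ := mem_vec V u huN
        rw [← hw, ← (E_basic V).2.2.2.1, comm_iff, hp, hv, ← (E_basic V).2.2.2.2.1, vec_E] at hgu
        exact V5.h_not_comm a' ha' hgu
      · show y * V.E (u, V.vec (y⁻¹ * k)) = k
        rw [hu, mul_inv_cancel_left]
    refine (Set.ncard_le_ncard hsub).trans ((Set.ncard_image_le).trans ?_)
    rw [Set.ncard_coe_finset, Finset.card_erase_of_mem, Finset.card_product,
      List.toFinset_card_of_nodup V5.side3_fixed.1, V5.side3_fixed.2.1]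
    · rfl
    · exact Finset.mem_product.2 ⟨Finset.mem_univ _, List.mem_toFinset.2 V5.side3_fixed.2.2⟩
  have hS1card : S1.ncard = 16 := by
    obtain ⟨j, hj⟩ := hdvd1
    have := (Set.ncard_pos (Set.toFinite S1)).2 ⟨y, hne⟩
    omega
  -- the coset of `y' y`
  have hnN : n ∉ B.N := hnc n _ hactn o5
  have hn2N : ∀ w ∈ B.N, n * n * w * (n * n)⁻¹ ∈ B.N := fun w hw => by
    rw [show n * n * w * (n * n)⁻¹ = n * (n * w * n⁻¹) * n⁻¹ by group]
    exact hnn _ (hnn _ hw)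
  have hnsq : n * n ∈ B.N := mem_of_fix V hn2N h4
    (by rw [act_comp V hnn hnn, hactn, hactn, (V5.three_facts _).2.2.2.2])
  set e := y * (n * n) * y⁻¹ * (n * n)⁻¹ with he
  have heN : e ∈ B.N := B.N.mul_mem (hny _ hnsq) (B.N.inv_mem hnsq)
  have hψe : ψ e = 1 := by
    rw [he, hψ _ (hny _ hnsq) _ (B.N.inv_mem hnsq), hψy _ hnsq, hψ.map_inv hnsq, mul_inv_cancel]
  have hny'n : n * y' * n⁻¹ = y * e := by
    rw [he, show y * (y * (n * n) * y⁻¹ * (n * n)⁻¹) = y * y * (n * n) * y⁻¹ * (n * n)⁻¹ by group,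
      hyy, one_mul, hyi, hy']
    group
  have hnK : ∀ k ∈ K, n * k * n⁻¹ ∈ K := by
    intro k hk
    have h1 : n * y * n⁻¹ ∈ K := hy'K
    have h2 : n * y' * n⁻¹ ∈ K := hny'n ▸ K.mul_mem hyK (hNK _ heN)
    rcases hcases k hk with h | h | h | h
    · exact hNK _ (hnn k h)
    · rw [show n * k * n⁻¹ = n * y * n⁻¹ * (n * (y⁻¹ * k) * n⁻¹) by group]
      exact K.mul_mem h1 (hNK _ (hnn _ h))
    · rw [show n * k * n⁻¹ = n * y' * n⁻¹ * (n * (y'⁻¹ * k) * n⁻¹) by group]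
      exact K.mul_mem h2 (hNK _ (hnn _ h))
    · rw [show n * k * n⁻¹ = n * y' * n⁻¹ * (n * y * n⁻¹) * (n * (x⁻¹ * k) * n⁻¹) by
        rw [hx]; group]
      exact K.mul_mem (K.mul_mem h2 h1) (hNK _ (hnn _ h))
  have hnnK : n * n ∈ K := hNK _ hnsq
  have hnKnot : n ∉ K := by
    intro h
    rcases hcases n h with h | h | h | h
    · exact hnN h
    · exact hnc (y⁻¹ * n) (fun v => V5.lin V5.side3 (V5.lin V5.three v))
        (fun v => by rw [hyi, act_comp V hny hnn, hact, hactn]) o6 h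
    · exact hnc (y'⁻¹ * n) (fun v => V5.conj3 (V5.lin V5.three v))
        (fun v => by rw [hyi', act_comp V hny' hnn, hactn', hactn]) o7 h
    · exact hnc (x⁻¹ * n) (fun v => V5.lin V5.side3 (V5.conj3 (V5.lin V5.three v)))
        (fun v => by
          rw [hx, mul_inv_rev, hyi, hyi', act_comp V hnormy hnn, act_comp V hny hny', hact, hactn',
            hactn]) o8 h
  set K1 := extSub K n hnK hnnK with hK1
  have hK1card : Nat.card K1 = 1024 := by rw [hK1, card_extSub hnKnot, hKcard]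
  have hxi : x⁻¹ = y * y' := by rw [hx, mul_inv_rev, hyi, hyi']
  have twN : ∀ w ∈ B.N, Tw (B := B) x ψ w := by
    intro w hw
    have hc : x⁻¹ * w * x = y * (y' * w * y'⁻¹) * y⁻¹ := by
      rw [hxi, hx, hyi', hyi]; group
    have hcN : x⁻¹ * w * x ∈ B.N := hc ▸ hny _ (hny' w hw)
    refine ⟨fun v hv => B.N.mul_mem (B.N.mul_mem hw hv) (B.N.inv_mem hw),
      B.N.mul_mem hcN (B.N.inv_mem hw), ?_, fun v hv => hψ.map_conj hw hv⟩
    rw [hψ _ hcN _ (B.N.inv_mem hw), hc, hψy _ (hny' w hw), hψy' w hw, hψ.map_inv hw,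
      mul_inv_cancel]
  have twy : Tw (B := B) x ψ y := by
    have e1 : x⁻¹ * y * x * y⁻¹ = d := by
      rw [hxi, hx, hyi, hd]
      calc y * y' * y * (y' * y) * y = y * y' * (y * y') * (y * y) := by group
        _ = _ := by rw [hyy, mul_one]
    exact ⟨hny, by rw [e1]; exact hdN, by rw [e1]; exact hψd, hψy⟩
  have twy' : Tw (B := B) x ψ y' := by
    have e1 : x⁻¹ * y' * x * y'⁻¹ = d := by
      rw [hxi, hx, hyi', hd]
      calc y * y' * y' * (y' * y) * y' = y * (y' * y') * (y' * y * y') := by group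
        _ = _ := by rw [hyy', mul_one]; group
    exact ⟨hny', by rw [e1]; exact hdN, by rw [e1]; exact hψd, hψy'⟩
  have twn : Tw (B := B) x ψ n := by
    have e1 : x⁻¹ * n * x * n⁻¹ = d * (y' * e * y'⁻¹) := by
      calc x⁻¹ * n * x * n⁻¹ = x⁻¹ * (n * y' * n⁻¹) * (n * y * n⁻¹) := by rw [hx]; group
        _ = y * y' * (y * e) * y' := by rw [hxi, hny'n]
        _ = y * y' * (y * y') * (y'⁻¹ * e * y') := by group
        _ = _ := by rw [hyi', hd]
    refine ⟨hnn, ?_, ?_, hψn⟩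
    · rw [e1]; exact B.N.mul_mem hdN (hny' _ heN)
    · rw [e1, hψ _ hdN _ (hny' _ heN), hψd, hψy' _ heN, hψe, mul_one]
  have twK : ∀ r ∈ K, Tw (B := B) x ψ r := by
    intro r hr
    rcases hcases r hr with h | h | h | h
    · exact twN r h
    · rw [← mul_inv_cancel_left y r]; exact twy.mul hψ (twN _ h)
    · rw [← mul_inv_cancel_left y' r]; exact twy'.mul hψ (twN _ h)
    · rw [← mul_inv_cancel_left x r]
      exact (twy'.mul hψ twy).mul hψ (twN _ h)
  have twK1 : ∀ r ∈ K1, Tw (B := B) x ψ r := by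
    rintro r (hr | hr)
    · exact twK r hr
    · rw [← mul_inv_cancel_left n r]; exact twn.mul hψ (twK _ hr)
  set S3 := {k : G | x⁻¹ * k ∈ B.N ∧ B.Cls k ∧ i8 * ψ (x⁻¹ * k) ≠ 1} with hS3
  have hdvd3 : 2 ^ 5 ∣ S3.ncard := by
    have hP : IsPGroup 2 K1 := IsPGroup.of_card (n := 10) (by rw [hK1card]; rfl)
    refine pow_dvd_card_of_index hP S3 ?_ ?_
    · rintro r hr k ⟨hk, hc, hv⟩
      obtain ⟨t1, t2, t3, t4⟩ := twK1 r hr
      have e1 : x⁻¹ * (r * k * r⁻¹) = x⁻¹ * r * x * r⁻¹ * (r * (x⁻¹ * k) * r⁻¹) := by group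
      refine ⟨e1 ▸ B.N.mul_mem t2 (t1 _ hk), Base.Cls_conj B hc r, ?_⟩
      rwa [e1, hψ _ t2 _ (t1 _ hk), t3, one_mul, t4 _ hk]
    · rintro k ⟨-, hc, -⟩
      have := Nat.le_of_dvd (by norm_num) (h4.card_cent_le hP hc)
      rw [hK1card]
      omega
  -- the count
  set S0 := {k : G | k ∈ B.N ∧ B.Cls k ∧ V5.dot (V5.add V5.et V5.eg) (V.vec k) = true} with hS0
  have hS0card : S0.ncard = 32 := by
    rw [hS0, ncard_cls V h4 hX (by decide +kernel) (V5.dot (V5.add V5.et V5.eg))]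
    decide +kernel
  have hval : ∀ {r : G}, r ∈ K → ∀ {k : G}, r⁻¹ * k ∈ B.N → φ k = φ r * ψ (r⁻¹ * k) := by
    intro r hr k hk
    conv_lhs => rw [← mul_inv_cancel_left r k]
    rw [hhom _ hr _ (hNK _ hk), hφN _ hk]
  have hφx : φ x = i8 := by rw [hx, hhom _ hy'K _ hyK, hφy', hφy, one_mul]
  have hsplit : hits8 K φ B.t = S0 ∪ S1 ∪ S3 := by
    ext k
    constructor
    · rintro ⟨hk, hc, hv⟩
      rcases hcases k hk with h | h | h | h
      · refine Or.inl (Or.inl ⟨h, hc, ?_⟩)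
        rw [hφN k h, hψdef, chr, b8_ne_one] at hv
        exact hv
      · exact Or.inl (Or.inr ⟨h, hc⟩)
      · exfalso
        apply hv
        rw [hval hy'K h, hφy', one_mul]
        have h' : y⁻¹ * (n⁻¹ * k * n⁻¹⁻¹) = n⁻¹ * (y'⁻¹ * k) * n⁻¹⁻¹ := by rw [hy']; group
        have hm : y⁻¹ * (n⁻¹ * k * n⁻¹⁻¹) ∈ B.N := h' ▸ hni _ h
        have := (hfixB _ hm (Base.Cls_conj B hc n⁻¹)).2
        rw [h', ← hψn _ (hni _ h)] at this
        rw [← this]
        congr 1
        group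
      · refine Or.inr ⟨h, hc, ?_⟩
        rwa [hval hxK h, hφx] at hv
    · rintro ((⟨hk, hc, hv⟩ | ⟨hk, hc⟩) | ⟨hk, hc, hv⟩)
      · refine ⟨hNK _ hk, hc, ?_⟩
        rw [hφN k hk, hψdef, chr, b8_ne_one]
        exact hv
      · refine ⟨le_extSub (Or.inr hk), hc, ?_⟩
        rw [hval hyK hk, hφy, (hfixB k hk hc).2, mul_one]
        exact i8_ne
      · refine ⟨?_, hc, by rw [hval hxK hk, hφx]; exact hv⟩
        rw [← mul_inv_cancel_left x k]
        exact K.mul_mem hxK (hNK _ hk)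
  have hd01 : Disjoint S0 S1 := Set.disjoint_left.2 fun k h0 h1 =>
    hy0 (by simpa using B.N.mul_mem h0.1 (B.N.inv_mem h1.1))
  have hd3 : Disjoint (S0 ∪ S1) S3 := by
    refine Set.disjoint_left.2 fun k h01 h3 => ?_
    rcases h01 with h0 | h1
    · refine hyy1 ?_
      have := B.N.mul_mem h0.1 (B.N.inv_mem h3.1)
      rwa [show k * (x⁻¹ * k)⁻¹ = x by group] at this
    · refine hy'0 ?_
      have := hny _ (B.N.mul_mem h1.1 (B.N.inv_mem h3.1))
      rwa [show y * (y⁻¹ * k * (x⁻¹ * k)⁻¹) * y⁻¹ = y' by rw [hx]; group] at this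
  obtain ⟨j, hj⟩ := hdvd3
  obtain ⟨m, hm, hC⟩ := B.card_C
  exact index_two_of_hits8 (Base.tt B) hhom (c := 5) (e := 4) hC hm (b := 1)
    (by rw [hKcard]; rfl) (m := 3 + 2 * j)
    (by
      rw [hsplit, Set.ncard_union_eq hd3, Set.ncard_union_eq hd01, hS0card, hS1card, hj]
      ring)
    (by rw [Nat.odd_iff]; omega)

end Vee

end Cfsg.Agent.Block.STwoSix
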